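import Mathlib.RingTheory.Flat.EquationalCriterion
import Mathlib.RingTheory.Nilpotent.Lemmas
import Mathlib.RingTheory.Finiteness.Ideal

/-!
# Maps into flat modules which are bijective modulo a nilpotent ideal
-/

set_option autoImplicit false

universe u v w

namespace K681.FlatNil

variable {A : Type u} [CommRing A] {M : Type v} {N : Type w} [AddCommGroup M] [Module A M] [AddCommGroup N] [Module A N]

/-- `x ∈ I • ⊤` as a finite sum. -/
lemma exists_sum_of_mem (I : Ideal A) {x : M} (hx : x ∈ I • (⊤ : Submodule A M)) :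
    ∃ (n : ℕ) (a : Fin n → A) (y : Fin n → M), (∀ i, a i ∈ I) ∧ x = ∑ i, a i • y i := by
  classical
  induction hx using Submodule.smul_induction_on' with
  | smul a ha y _ => exact ⟨1, fun _ => a, fun _ => y, fun _ => ha, by simp⟩
  | add x _ y _ h1 h2 =>
    obtain ⟨n, a, z, ha, rfl⟩ := h1
    obtain ⟨m, b, w, hb, rfl⟩ := h2
    refine ⟨n + m, Fin.append a b, Fin.append z w, ?_, ?_⟩
    · intro i
      refine Fin.addCases (fun j => ?_) (fun j => ?_) i
      · rw [Fin.append_left]; exact ha j
      · rw [Fin.append_right]; exact hb j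
    · rw [Fin.sum_univ_add]
      simp

/-- For a surjection onto a flat module, `ker f ∩ I M = I ker f`. -/
theorem mem_smul_ker (I : Ideal A) [Module.Flat A N] (f : M →ₗ[A] N) (hf : Function.Surjective f) {x : M}
    (hx : f x = 0) (hxI : x ∈ I • (⊤ : Submodule A M)) : x ∈ I • LinearMap.ker f := by
  classical
  obtain ⟨n, a, y, ha, rfl⟩ := exists_sum_of_mem I hxI
  rw [map_sum] at hx
  simp only [map_smul] at hx
  obtain ⟨κ, c, z, h1, h2⟩ := Module.Flat.isTrivialRelation_of_sum_smul_eq_zero hx
  choose w hw using fun j => hf (z j)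
  have h3 : ∀ i, y i - ∑ j, c i j • w j ∈ LinearMap.ker f := by
    intro i
    have h1' : f (y i) = ∑ j, c i j • z j := h1 i
    rw [LinearMap.mem_ker, map_sub, map_sum, h1', sub_eq_zero]
    exact Finset.sum_congr rfl fun j _ => by rw [map_smul, hw]
  have h4 : ∑ i, a i • y i = ∑ i, a i • (y i - ∑ j, c i j • w j) := by
    simp only [smul_sub, Finset.sum_sub_distrib]
    have : ∑ i, a i • ∑ j, c i j • w j = 0 := by
      simp only [Finset.smul_sum]
      rw [Finset.sum_comm]
      refine Finset.sum_eq_zero fun j _ => ?_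
      simp only [smul_smul]
      rw [← Finset.sum_smul, h2 j, zero_smul]
    rw [this, sub_zero]
  rw [h4]
  exact Submodule.sum_mem _ fun i _ => Submodule.smul_mem_smul (ha i) (h3 i)

/-- A map which is onto modulo a nilpotent ideal is onto. -/
theorem surjective_of_nilpotent (I : Ideal A) (hI : IsNilpotent I) (f : M →ₗ[A] N)
    (h : ∀ n : N, ∃ m, n - f m ∈ I • (⊤ : Submodule A N)) : Function.Surjective f := by
  obtain ⟨r, hr⟩ := hI
  have h1 : ∀ s : ℕ, ∀ n : N, ∃ m, n - f m ∈ I ^ s • (⊤ : Submodule A N) := by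
    intro s
    induction s with
    | zero =>
      intro n
      exact ⟨0, by rw [pow_zero, Ideal.one_eq_top, Submodule.top_smul]; trivial⟩
    | succ s ih =>
      intro n
      obtain ⟨m, hm⟩ := ih n
      have h2 : I ^ s • (⊤ : Submodule A N) ≤ LinearMap.range f ⊔ I ^ (s + 1) • (⊤ : Submodule A N) := by
        rw [Submodule.smul_le]
        intro a ha y _
        obtain ⟨m', hm'⟩ := h y
        have h3 : a • y = f (a • m') + a • (y - f m') := by rw [map_smul, smul_sub]; abel
        rw [h3]
        refine Submodule.add_mem_sup ⟨_, rfl⟩ ?_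
        rw [pow_succ, Submodule.mul_smul]
        exact Submodule.smul_mem_smul ha hm'
      obtain ⟨_, ⟨m', rfl⟩, z, hz, h4⟩ := Submodule.mem_sup.1 (h2 hm)
      refine ⟨m + m', ?_⟩
      have : n - f (m + m') = z := by
        rw [map_add, ← sub_sub, ← h4]; abel
      rw [this]
      exact hz
  intro n
  obtain ⟨m, hm⟩ := h1 r n
  rw [hr, Ideal.zero_eq_bot, Submodule.bot_smul, Submodule.mem_bot, sub_eq_zero] at hm
  exact ⟨m, hm.symm⟩

/-- A map to a flat module which is bijective modulo a nilpotent ideal is bijective. -/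
theorem bijective_of_nilpotent (I : Ideal A) (hI : IsNilpotent I) [Module.Flat A N] (f : M →ₗ[A] N)
    (h : ∀ n : N, ∃ m, n - f m ∈ I • (⊤ : Submodule A N))
    (h' : ∀ m : M, f m ∈ I • (⊤ : Submodule A N) → m ∈ I • (⊤ : Submodule A M)) : Function.Bijective f := by
  have hs := surjective_of_nilpotent I hI f h
  refine ⟨?_, hs⟩
  obtain ⟨r, hr⟩ := hI
  have h1 : LinearMap.ker f ≤ I • LinearMap.ker f := by
    intro x hx
    have hx' : f x = 0 := hx
    exact mem_smul_ker I f hs hx' (h' x (by rw [hx']; exact Submodule.zero_mem _))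
  have h2 : ∀ s : ℕ, LinearMap.ker f ≤ I ^ s • LinearMap.ker f := by
    intro s
    induction s with
    | zero => rw [pow_zero, Ideal.one_eq_top, Submodule.top_smul]
    | succ s ih =>
      rw [pow_succ, Submodule.mul_smul]
      exact ih.trans (Submodule.smul_mono le_rfl h1)
  rw [← LinearMap.ker_eq_bot, eq_bot_iff]
  have h3 := h2 r
  rwa [hr, Ideal.zero_eq_bot, Submodule.bot_smul] at h3

end K681.FlatNil
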