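import Groth.Agent.Deform.K681.AffDef
import Groth.Agent.Deform.K681.FlatNil
import Mathlib.RingTheory.HopkinsLevitzki
import Mathlib.AlgebraicGeometry.Morphisms.Affine

/-!
# Deformations of affine schemes as flat algebras
-/

set_option autoImplicit false

universe u

open CategoryTheory CategoryTheory.Limits AlgebraicGeometry TensorProduct

namespace K681

open ArtFun ArtFun.Art AffDef

variable {Λ : Type u} {k : Type u} [CommRing Λ] [Field k] [Algebra Λ k]

lemma isNilpotent_maximalIdeal (A : Art Λ k) : IsNilpotent (IsLocalRing.maximalIdeal A) :=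
  (isArtinianRing_iff_isNilpotent_maximalIdeal A).1 inferInstance

lemma ker_res (A : Art Λ k) : RingHom.ker A.res.toRingHom = IsLocalRing.maximalIdeal A := by
  ext a
  rw [mem_maximalIdeal_iff]
  rfl

variable (k) in
/-- A deformation of the `k`-algebra `B₀` over `A`: a flat `A`-algebra with a surjection onto `B₀` whose kernel is
generated by the maximal ideal of `A`. -/
structure AlgDef (B₀ : Type u) [CommRing B₀] [Algebra k B₀] (A : Art Λ k) : Type (u + 1) where
  /-- the total ring -/
  carrier : Type u
  [commRing : CommRing carrier]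
  [algebra : Algebra A carrier]
  flat : Module.Flat A carrier
  /-- the reduction -/
  π : carrier →+* B₀
  comp : ∀ a : A, π (algebraMap A carrier a) = algebraMap k B₀ (A.res a)
  surj : Function.Surjective π
  ker : RingHom.ker π = (IsLocalRing.maximalIdeal A).map (algebraMap A carrier)

namespace AlgDef

variable {B₀ : Type u} [CommRing B₀] [Algebra k B₀] {A B : Art Λ k}

instance (D : AlgDef k B₀ A) : CommRing D.carrier := D.commRing
instance (D : AlgDef k B₀ A) : Algebra A D.carrier := D.algebra
instance (D : AlgDef k B₀ A) : Module.Flat A D.carrier := D.flat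

variable (k B₀) in
/-- The structure morphism of `Spec B₀`. -/
noncomputable abbrev str : Spec (CommRingCat.of B₀) ⟶ specPt k := Spec.map (CommRingCat.ofHom (algebraMap k B₀))

/-- The deformation of schemes attached to a deformation of algebras. -/
noncomputable def toDefSch (D : AlgDef k B₀ A) : DefSch (Spec (CommRingCat.of B₀)) (str k B₀) A where
  total := Spec (CommRingCat.of D.carrier)
  f := Spec.map (CommRingCat.ofHom (algebraMap A D.carrier))
  flat := by
    rw [Flat.SpecMap_iff]
    exact (RingHom.flat_algebraMap_iff).2 D.flat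
  i := Spec.map (CommRingCat.ofHom D.π)
  isPullback := by
    refine isPullback_SpecMap_of_isPushout _ _ _ _ (IsPushout.flip ?_)
    refine isPushout_of_surjective _ _ _ _ A.res_surjective D.surj ?_ ?_
    · ext a; exact (D.comp a).symm
    · rw [D.ker]
      congr 1
      exact (ker_res A).symm

/-- Every deformation of `Spec B₀` comes from a deformation of the algebra `B₀`. -/
theorem exists_iso_toDefSch (ξ : DefSch (Spec (CommRingCat.of B₀)) (str k B₀) A) :
    ∃ D : AlgDef k B₀ A, Nonempty (ξ.Iso D.toDefSch) := by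
  have := isAffine_total ξ
  let e := ξ.total.isoSpec
  let C := Γ(ξ.total, ⊤)
  let φ : CommRingCat.of A ⟶ C := Spec.preimage (e.inv ≫ ξ.f)
  have hφ : Spec.map φ = e.inv ≫ ξ.f := Spec.map_preimage _
  let ψ : C ⟶ CommRingCat.of B₀ := Spec.preimage (ξ.i ≫ e.hom)
  have hψ : Spec.map ψ = ξ.i ≫ e.hom := Spec.map_preimage _
  have hp : IsPullback (Spec.map ψ) (str k B₀) (Spec.map φ) (specRes A) := by
    refine ξ.isPullback.of_iso (Iso.refl _) e (Iso.refl _) (Iso.refl _) ?_ ?_ ?_ ?_
    · rw [hψ]; simp
    · simp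
    · rw [hφ]; simp
    · simp
  have hp' : IsPullback ψ.op (CommRingCat.ofHom (algebraMap k B₀)).op φ.op (CommRingCat.ofHom A.res.toRingHom).op :=
    IsPullback.of_map Scheme.Spec (by
      rw [← op_comp, ← op_comp]
      congr 1
      apply Spec.map_injective
      rw [Spec.map_comp, Spec.map_comp]
      exact hp.w) hp
  have hp2 : IsPushout (CommRingCat.ofHom A.res.toRingHom) φ (CommRingCat.ofHom (algebraMap k B₀)) ψ := hp'.unop
  algebraize [φ.hom]
  have hs := surjective_and_ker_of_isPushout A.res.toRingHom φ.hom (algebraMap k B₀) ψ.hom A.res_surjective hp2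
  let D : AlgDef k B₀ A :=
    { carrier := C
      flat := by
        have h1 : Flat (Spec.map φ) := by rw [hφ]; infer_instance
        rw [Flat.SpecMap_iff] at h1
        exact h1
      π := ψ.hom
      comp := fun a => (congrArg (fun t => t.hom a) hp2.w).symm
      surj := hs.1
      ker := by
        rw [hs.2, ker_res]
        rfl }
  refine ⟨D, ⟨⟨e, ?_, ?_⟩⟩⟩
  · change e.hom ≫ Spec.map φ = ξ.f
    rw [hφ, Iso.hom_inv_id_assoc]
  · exact hψ.symm

/-- A compatible ring map from the total ring of a deformation over `A` to that of a deformation over `B` makes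
the latter the base change of the former (automatically a pushout square, by flatness). -/
theorem isPushout_of_map (g : A ⟶ B) (D : AlgDef k B₀ A) (D' : AlgDef k B₀ B) (φ : D.carrier →+* D'.carrier)
    (hφ : ∀ a : A, φ (algebraMap A D.carrier a) = algebraMap B D'.carrier (g a))
    (hπ : ∀ d, D'.π (φ d) = D.π d) :
    IsPushout (CommRingCat.ofHom g.toAlgHom.toRingHom) (CommRingCat.ofHom (algebraMap A D.carrier))
      (CommRingCat.ofHom (algebraMap B D'.carrier)) (CommRingCat.ofHom φ) := by
  algebraize [g.toAlgHom.toRingHom]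
  let T := B ⊗[A] D.carrier
  let : Algebra A D'.carrier := ((algebraMap B D'.carrier).comp (algebraMap A B)).toAlgebra
  have : IsScalarTower A B D'.carrier := IsScalarTower.of_algebraMap_eq' rfl
  let φ' : D.carrier →ₐ[A] D'.carrier := { φ with commutes' := hφ }
  let Φ : T →ₐ[B] D'.carrier := Algebra.TensorProduct.lift (Algebra.ofId B D'.carrier) φ' (fun _ _ => mul_comm _ _)
  have hΦ : ∀ (b : B) (d : D.carrier), Φ (b ⊗ₜ d) = algebraMap B D'.carrier b * φ d := fun b d => rfl
  have hmem : ∀ y : D'.carrier, D'.π y = 0 ↔ y ∈ IsLocalRing.maximalIdeal B • (⊤ : Submodule B D'.carrier) := by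
    intro y
    rw [← RingHom.mem_ker, D'.ker, Ideal.smul_top_eq_map]
    rfl
  -- modulo the maximal ideal every element of `T` is `1 ⊗ d`
  have h1 : ∀ t : T, ∃ d : D.carrier, t - 1 ⊗ₜ d ∈ IsLocalRing.maximalIdeal B • (⊤ : Submodule B T) := by
    intro t
    induction t using TensorProduct.induction_on with
    | zero => exact ⟨0, by rw [TensorProduct.tmul_zero, sub_zero]; exact Submodule.zero_mem _⟩
    | tmul b d =>
      obtain ⟨a, ha⟩ := A.res_surjective (B.res b)
      have h2 : b - g a ∈ IsLocalRing.maximalIdeal B := by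
        rw [mem_maximalIdeal_iff, map_sub, res_app, ha, sub_self]
      refine ⟨a • d, ?_⟩
      have h3 : b ⊗ₜ[A] d - 1 ⊗ₜ[A] (a • d) = (b - g a) • ((1 : B) ⊗ₜ[A] d) := by
        rw [← TensorProduct.smul_tmul, TensorProduct.smul_tmul', ← TensorProduct.sub_tmul, smul_eq_mul, mul_one]
        congr 2
        rw [Algebra.smul_def, mul_one]
        rfl
      rw [h3]
      exact Submodule.smul_mem_smul h2 trivial
    | add t t' h h' =>
      obtain ⟨d, hd⟩ := h
      obtain ⟨d', hd'⟩ := h'
      refine ⟨d + d', ?_⟩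
      rw [TensorProduct.tmul_add, add_sub_add_comm]
      exact Submodule.add_mem _ hd hd'
  have h2 : ∀ d : D.carrier, D.π d = 0 → ((1 : B) ⊗ₜ[A] d : T) ∈ IsLocalRing.maximalIdeal B • (⊤ : Submodule B T) := by
    intro d hd
    have hd' : d ∈ IsLocalRing.maximalIdeal A • (⊤ : Submodule A D.carrier) := by
      rw [Ideal.smul_top_eq_map]
      rw [← RingHom.mem_ker, D.ker] at hd
      exact hd
    clear hd
    induction hd' using Submodule.smul_induction_on' with
    | smul a ha y _ =>
      have h3 : ((1 : B) ⊗ₜ[A] (a • y) : T) = (g a) • ((1 : B) ⊗ₜ[A] y) := by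
        rw [← TensorProduct.smul_tmul, TensorProduct.smul_tmul', Algebra.smul_def]
        rfl
      rw [h3]
      refine Submodule.smul_mem_smul ?_ trivial
      rw [mem_maximalIdeal_iff, res_app, (mem_maximalIdeal_iff A a).1 ha]
    | add x _ y _ hx hy =>
      rw [TensorProduct.tmul_add]
      exact Submodule.add_mem _ hx hy
  have h3 : ∀ t : T, t ∈ IsLocalRing.maximalIdeal B • (⊤ : Submodule B T) → D'.π (Φ t) = 0 := by
    intro t ht
    rw [hmem]
    have h4 : (IsLocalRing.maximalIdeal B • (⊤ : Submodule B T)).map Φ.toLinearMap ≤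
        IsLocalRing.maximalIdeal B • (⊤ : Submodule B D'.carrier) := by
      rw [Submodule.map_smul'']
      exact Submodule.smul_mono le_rfl le_top
    exact h4 ⟨t, ht, rfl⟩
  have hbij : Function.Bijective Φ.toLinearMap := by
    refine FlatNil.bijective_of_nilpotent (IsLocalRing.maximalIdeal B) (isNilpotent_maximalIdeal B) _ ?_ ?_
    · intro y
      obtain ⟨d, hd⟩ := D.surj (D'.π y)
      refine ⟨1 ⊗ₜ d, (hmem _).1 ?_⟩
      change D'.π (y - Φ (1 ⊗ₜ d)) = 0
      rw [hΦ, map_one, one_mul, map_sub, hπ, hd, sub_self]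
    · intro t ht
      obtain ⟨d, hd⟩ := h1 t
      have h4 : D'.π (Φ t) = 0 := (hmem _).2 ht
      have h5 : D'.π (Φ (t - 1 ⊗ₜ d)) = 0 := h3 _ hd
      rw [map_sub, map_sub, h4, zero_sub, neg_eq_zero, hΦ, map_one, one_mul, hπ] at h5
      have h6 := Submodule.add_mem _ hd (h2 d h5)
      rwa [sub_add_cancel] at h6
  let e : T ≃+* D'.carrier := RingEquiv.ofBijective Φ hbij
  refine (CommRingCat.isPushout_tensorProduct A B D.carrier).of_iso (Iso.refl _) (Iso.refl _) (Iso.refl _)
    e.toCommRingCatIso ?_ ?_ ?_ ?_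
  · simp; rfl
  · simp
  · rw [Iso.refl_hom, Category.id_comp]
    ext b
    change Φ (b ⊗ₜ 1) = _
    rw [hΦ, map_one, mul_one]
    rfl
  · rw [Iso.refl_hom, Category.id_comp]
    ext d
    change Φ (1 ⊗ₜ d) = _
    rw [hΦ, map_one, one_mul]
    rfl

/-- Ring-level criterion: the class of `D'` is the base change of the class of `D` along `g`. -/
theorem nonempty_baseChange_iso (g : A ⟶ B) (D : AlgDef k B₀ A) (D' : AlgDef k B₀ B)
    (φ : D.carrier →+* D'.carrier)
    (hφ : ∀ a : A, φ (algebraMap A D.carrier a) = algebraMap B D'.carrier (g a))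
    (hπ : ∀ d, D'.π (φ d) = D.π d) :
    Nonempty ((D.toDefSch.baseChange g).Iso D'.toDefSch) := by
  refine nonempty_iso_baseChange g D.toDefSch D'.toDefSch (Spec.map (CommRingCat.ofHom φ)) ?_ ?_
  · exact (isPullback_SpecMap_of_isPushout _ _ _ _ (isPushout_of_map g D D' φ hφ hπ).flip)
  · change Spec.map _ ≫ Spec.map _ = Spec.map _
    rw [← Spec.map_comp, ← CommRingCat.ofHom_comp]
    congr 2
    ext d
    exact hπ d

/-- A compatible algebra map between deformations over `A` gives an isomorphism of deformations. -/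
theorem nonempty_iso_of_algHom (D D' : AlgDef k B₀ A) (φ : D.carrier →ₐ[A] D'.carrier)
    (hπ : ∀ d, D'.π (φ d) = D.π d) : Nonempty (D.toDefSch.Iso D'.toDefSch) := by
  obtain ⟨e⟩ := nonempty_baseChange_iso (𝟙 A) D D' φ.toRingHom (fun a => φ.commutes a) hπ
  exact ⟨(DefSch.baseChangeId D.toDefSch).symm.trans e⟩

/-- Conversely an isomorphism of deformations gives an algebra map. -/
theorem exists_algEquiv_of_iso (D D' : AlgDef k B₀ A) (e : D.toDefSch.Iso D'.toDefSch) :
    ∃ φ : D'.carrier ≃ₐ[A] D.carrier, (∀ d, D.π (φ d) = D'.π d) ∧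
      Spec.map (CommRingCat.ofHom (φ : D'.carrier →+* D.carrier)) = e.iso.hom := by
  let a : Spec (CommRingCat.of D.carrier) ≅ Spec (CommRingCat.of D'.carrier) := e.iso
  let φ : CommRingCat.of D'.carrier ⟶ CommRingCat.of D.carrier := Spec.preimage a.hom
  let ψ : CommRingCat.of D.carrier ⟶ CommRingCat.of D'.carrier := Spec.preimage a.inv
  have hφ : Spec.map φ = a.hom := Spec.map_preimage _
  have hψ : Spec.map ψ = a.inv := Spec.map_preimage _
  let r : D'.carrier ≃+* D.carrier := RingEquiv.ofRingHom φ.hom ψ.hom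
    (by
      have h1 : ψ ≫ φ = 𝟙 _ := by
        apply Spec.map_injective
        rw [Spec.map_comp, hφ, hψ, Iso.hom_inv_id, Spec.map_id]
      exact congrArg (fun t => t.hom) h1)
    (by
      have h1 : φ ≫ ψ = 𝟙 _ := by
        apply Spec.map_injective
        rw [Spec.map_comp, hφ, hψ, Iso.inv_hom_id, Spec.map_id]
      exact congrArg (fun t => t.hom) h1)
  have hr : ∀ x, r x = φ.hom x := fun x => rfl
  have h2 : CommRingCat.ofHom (algebraMap A D'.carrier) ≫ φ = CommRingCat.ofHom (algebraMap A D.carrier) := by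
    apply Spec.map_injective
    rw [Spec.map_comp, hφ]
    exact e.hom_f
  have h3 : φ ≫ CommRingCat.ofHom D.π = CommRingCat.ofHom D'.π := by
    apply Spec.map_injective
    rw [Spec.map_comp, hφ]
    exact e.i_hom
  refine ⟨AlgEquiv.ofRingEquiv (f := r) (fun x => ?_), fun d => ?_, ?_⟩
  · exact congrArg (fun t => t.hom x) h2
  · exact congrArg (fun t => t.hom d) h3
  · rw [← hφ]
    rfl

section Trivial

variable {k : Type u} [Field k] {B₀ : Type u} [CommRing B₀] [Algebra k B₀]

/-- The trivial deformation over the base field. -/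
noncomputable def selfBase : AlgDef k B₀ (base k k) :=
  letI : Algebra (base k k) B₀ := inferInstanceAs (Algebra k B₀)
  { carrier := B₀
    flat := inferInstanceAs (Module.Flat k B₀)
    π := RingHom.id B₀
    comp := fun _ => rfl
    surj := Function.surjective_id
    ker := by
      have h : IsLocalRing.maximalIdeal (base k k) = ⊥ := by
        ext a
        rw [mem_maximalIdeal_iff]
        exact Iff.rfl
      rw [h, Ideal.map_bot]
      exact RingHom.ker_eq_bot_iff_eq_zero _ |>.2 fun _ h => h }

/-- A deformation whose reduction map has a section over `k` is trivial. -/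
theorem nonempty_trivial_iso_of_section {A : Art k k} (D : AlgDef k B₀ A) (hx : Flat (str k B₀)) (s : B₀ →+* D.carrier)
    (hs : ∀ c : k, s (algebraMap k B₀ c) = algebraMap A D.carrier (algebraMap k A c)) (hsec : ∀ b, D.π (s b) = b) :
    Nonempty ((DefSch.trivial (Spec (CommRingCat.of B₀)) (str k B₀) hx A).Iso D.toDefSch) := by
  obtain ⟨e⟩ := nonempty_baseChange_iso (ofBase A) (selfBase : AlgDef k B₀ (base k k)) D s hs hsec
  let e0 : (DefSch.self (Λ := k) (Spec (CommRingCat.of B₀)) (str k B₀) hx).Iso (selfBase : AlgDef k B₀ (base k k)).toDefSch :=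
    { iso := CategoryTheory.Iso.refl _
      hom_f := Category.id_comp _
      i_hom := by
        change 𝟙 _ ≫ 𝟙 _ = Spec.map (CommRingCat.ofHom (RingHom.id B₀))
        rw [Category.id_comp]
        exact Spec.map_id _ |>.symm }
  exact ⟨(e0.baseChange (ofBase A)).trans e⟩

end Trivial

end AlgDef

end K681
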