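import Groth.Agent.Deform.K681.AlgDef

/-!
# Ring maps from isomorphisms with a base change
-/

set_option autoImplicit false

universe u

open CategoryTheory CategoryTheory.Limits AlgebraicGeometry TensorProduct

namespace K681

open ArtFun ArtFun.Art AffDef

variable {Λ : Type u} {k : Type u} [CommRing Λ] [Field k] [Algebra Λ k]

namespace AlgDef

variable {B₀ : Type u} [CommRing B₀] [Algebra k B₀] {A B : Art Λ k}

/-- An isomorphism of the base change of `D` with `D'` gives a compatible ring map. -/
theorem exists_ringHom_of_iso (g : A ⟶ B) (D : AlgDef k B₀ A) (D' : AlgDef k B₀ B)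
    (e : (D.toDefSch.baseChange g).Iso D'.toDefSch) :
    ∃ φ : D.carrier →+* D'.carrier, (∀ a : A, φ (algebraMap A D.carrier a) = algebraMap B D'.carrier (g a)) ∧
      (∀ d, D'.π (φ d) = D.π d) := by
  let h : Spec (CommRingCat.of D'.carrier) ⟶ Spec (CommRingCat.of D.carrier) :=
    e.iso.inv ≫ pullback.fst D.toDefSch.f (specMap g)
  let φ : CommRingCat.of D.carrier ⟶ CommRingCat.of D'.carrier := Spec.preimage h
  have hφ : Spec.map φ = h := Spec.map_preimage _
  have h1 : CommRingCat.ofHom (algebraMap A D.carrier) ≫ φ =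
      CommRingCat.ofHom g.toAlgHom.toRingHom ≫ CommRingCat.ofHom (algebraMap B D'.carrier) := by
    apply Spec.map_injective
    rw [Spec.map_comp, Spec.map_comp, hφ]
    change (e.iso.inv ≫ pullback.fst D.toDefSch.f (specMap g)) ≫ D.toDefSch.f = D'.toDefSch.f ≫ specMap g
    rw [Category.assoc, pullback.condition, ← e.symm.hom_f, Category.assoc]
    rfl
  have h2 : φ ≫ CommRingCat.ofHom D'.π = CommRingCat.ofHom D.π := by
    apply Spec.map_injective
    rw [Spec.map_comp, hφ]
    change D'.toDefSch.i ≫ (e.iso.inv ≫ pullback.fst D.toDefSch.f (specMap g)) = D.toDefSch.i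
    rw [← Category.assoc]
    have h3 : D'.toDefSch.i ≫ e.iso.inv = (D.toDefSch.baseChange g).i := e.symm.i_hom
    rw [h3]
    exact DefSch.baseChange_i_fst D.toDefSch g
  exact ⟨φ.hom, fun a => congrArg (fun t => t.hom a) h1, fun d => congrArg (fun t => t.hom d) h2⟩

/-- A compatible ring map over a surjection is surjective, with kernel generated by the kernel of the surjection. -/
theorem surjective_and_ker_of_map (g : A ⟶ B) (hg : Function.Surjective g) (D : AlgDef k B₀ A) (D' : AlgDef k B₀ B)
    (φ : D.carrier →+* D'.carrier) (hφ : ∀ a : A, φ (algebraMap A D.carrier a) = algebraMap B D'.carrier (g a))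
    (hπ : ∀ d, D'.π (φ d) = D.π d) :
    Function.Surjective φ ∧ RingHom.ker φ = (RingHom.ker g.toAlgHom.toRingHom).map (algebraMap A D.carrier) :=
  surjective_and_ker_of_isPushout _ _ _ _ hg (isPushout_of_map g D D' φ hφ hπ)

end AlgDef

end K681
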