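import Mathlib.LinearAlgebra.TensorProduct.Basis
import Mathlib.LinearAlgebra.Dual.Lemmas
import Mathlib.LinearAlgebra.FiniteDimensional.Basic

/-!
# Elements of `V ⊗ J` as maps from the dual of `J`
-/

set_option autoImplicit false

universe u v w

open TensorProduct

namespace K681.TensorDual

variable {k : Type u} [Field k] {V : Type v} [AddCommGroup V] [Module k V] {J : Type w} [AddCommGroup J] [Module k J]

/-- Contraction with a functional. -/
noncomputable def contr (l : Module.Dual k J) : V ⊗[k] J →ₗ[k] V :=
  (TensorProduct.rid k V).toLinearMap ∘ₗ LinearMap.lTensor V l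

@[simp] lemma contr_tmul (l : Module.Dual k J) (v : V) (j : J) : contr l (v ⊗ₜ[k] j) = l j • v := by
  simp [contr]

lemma eq_sum_basis {κ : Type*} [Fintype κ] (b : Module.Basis κ k J) (t : V ⊗[k] J) :
    t = ∑ i, contr (b.coord i) t ⊗ₜ[k] b i := by
  induction t using TensorProduct.induction_on with
  | zero => simp
  | tmul v j =>
    simp only [contr_tmul]
    conv_lhs => rw [← b.sum_repr j]
    rw [TensorProduct.tmul_sum]
    refine Finset.sum_congr rfl fun i _ => ?_
    rw [TensorProduct.tmul_smul, TensorProduct.smul_tmul']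
    rfl
  | add x y hx hy =>
    conv_lhs => rw [hx, hy]
    rw [← Finset.sum_add_distrib]
    refine Finset.sum_congr rfl fun i _ => ?_
    rw [map_add, TensorProduct.add_tmul]

variable [Module.Finite k J]

theorem eq_of_contr {t t' : V ⊗[k] J} (h : ∀ l : Module.Dual k J, contr l t = contr l t') : t = t' := by
  rw [eq_sum_basis (Module.finBasis k J) t, eq_sum_basis (Module.finBasis k J) t']
  exact Finset.sum_congr rfl fun i _ => by rw [h]

/-- The element of `V ⊗ J` attached to a linear map on the dual of `J`. -/
noncomputable def ofDual (L : Module.Dual k J →ₗ[k] V) : V ⊗[k] J :=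
  ∑ i, L ((Module.finBasis k J).coord i) ⊗ₜ[k] (Module.finBasis k J) i

@[simp] theorem contr_ofDual (L : Module.Dual k J →ₗ[k] V) (l : Module.Dual k J) : contr l (ofDual L) = L l := by
  rw [ofDual, map_sum]
  simp only [contr_tmul]
  have h : l = ∑ i, l ((Module.finBasis k J) i) • (Module.finBasis k J).coord i := by
    refine (Module.finBasis k J).ext fun j => ?_
    rw [LinearMap.sum_apply, Finset.sum_eq_single j]
    · simp
    · intro i _ hij
      simp [Module.Basis.coord_apply, Finsupp.single_apply, hij.symm]
    · intro h; exact absurd (Finset.mem_univ j) h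
  conv_rhs => rw [h, map_sum]
  simp only [map_smul]

theorem ofDual_eq_zero_iff (L : Module.Dual k J →ₗ[k] V) : ofDual L = 0 ↔ L = 0 := by
  constructor
  · intro h
    refine LinearMap.ext fun l => ?_
    rw [← contr_ofDual L l, h, map_zero, LinearMap.zero_apply]
  · rintro rfl
    simp [ofDual]

theorem lTensor_eq_iff {J' : Type w} [AddCommGroup J'] [Module k J'] [Module.Finite k J'] (f : J →ₗ[k] J')
    (t : V ⊗[k] J) (t' : V ⊗[k] J') (h : ∀ l : Module.Dual k J', contr l t' = contr (l ∘ₗ f) t) :
    t' = LinearMap.lTensor V f t := by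
  refine eq_of_contr fun l => ?_
  rw [h]
  simp only [contr, LinearMap.coe_comp, Function.comp_apply, LinearMap.lTensor_comp]

end K681.TensorDual
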