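import Groth.Agent.Deform.K681.AffLift
import Groth.Agent.Deform.K681.AlgDef2
import Groth.Agent.Deform.K681.TensorDual

/-!
# `T²` is an obstruction theory for deformations of an algebra
-/

set_option autoImplicit false

universe u

open CategoryTheory MvPolynomial TensorProduct

namespace K681.AffRep

open ArtFun ArtFun.Art CotT

variable {k : Type u} [Field k] {B₀ : Type u} [CommRing B₀] [Algebra k B₀] {ι σ : Type u}
variable {P : Algebra.Presentation k B₀ ι σ} {C' C : Art k k} {p : C' ⟶ C}

local notation "RR" => P.toExtension.Ring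

section Converse

variable (ρ : Rep P C)

/-- If the deformation lifts, the lifted equations can be chosen with vanishing cocycles. -/
theorem exists_isLift_val_eq_zero (hp : IsSemismallExt p) (D' : AlgDef k B₀ C')
    (e : (D'.toDefSch.baseChange p).Iso ρ.D.toDefSch) :
    ∃ F' : σ → MvPolynomial ι C', IsLift ρ p F' ∧
      ∀ (l : C' →ₗ[k] k) (Q : σ →₀ MvPolynomial ι C'), IsRel ρ p Q → val P l F' Q = 0 := by
  obtain ⟨χ, hχ, hπ⟩ := AlgDef.exists_ringHom_of_iso p D' ρ.D e
  obtain ⟨hs, hker⟩ := AlgDef.surjective_and_ker_of_map p hp.1 D' ρ.D χ hχ hπ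
  choose b' hb' using fun i => hs (ρ.θ (X i))
  let θ' : MvPolynomial ι C' →ₐ[C'] D'.carrier := aeval b'
  have hθ1 : ∀ z, χ (θ' z) = ρ.θ (mp p z) := by
    intro z
    have : χ.comp θ'.toRingHom = ρ.θ.toRingHom.comp (mp p) := by
      refine MvPolynomial.ringHom_ext ?_ ?_
      · intro a
        change χ (θ' (MvPolynomial.C a)) = ρ.θ (mp p (MvPolynomial.C a))
        rw [mp, MvPolynomial.map_C]
        exact ((congrArg χ (θ'.commutes a)).trans (hχ a)).trans (ρ.θ.commutes _).symm
      · intro i
        change χ (θ' (X i)) = ρ.θ (mp p (X i))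
        rw [mp, MvPolynomial.map_X, aeval_X, hb']
    exact RingHom.congr_fun this z
  have hθ' : ∀ z, D'.π (θ' z) = evB P (red C' z) := by
    intro z
    rw [← hπ, hθ1, ρ.hθ, red_mp]
  have hθs := θ_surjective D' θ' hθ'
  have hF : ∀ s, ∃ z, mp p z = ρ.F s ∧ θ' z = 0 := by
    intro s
    obtain ⟨z₀, hz₀⟩ := mp_surjective (ι := ι) p hp.1 (ρ.F s)
    have h1 : θ' z₀ ∈ RingHom.ker χ := by
      rw [RingHom.mem_ker, hθ1, hz₀, ρ.hF]
    rw [hker] at h1
    have h2 : θ' z₀ ∈ (RingHom.ker p.toAlgHom.toRingHom) • (⊤ : Submodule C' D'.carrier) := by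
      rw [Ideal.smul_top_eq_map]
      exact h1
    have h3 : (RingHom.ker p.toAlgHom.toRingHom) • (⊤ : Submodule C' D'.carrier) =
        ((RingHom.ker p.toAlgHom.toRingHom) • (⊤ : Submodule C' (MvPolynomial ι C'))).map θ'.toLinearMap := by
      rw [Submodule.map_smul'', Submodule.map_top, LinearMap.range_eq_top.2 hθs]
    rw [h3] at h2
    obtain ⟨w, hw, hw'⟩ := h2
    have h4 : mp p w = 0 := by
      clear hw'
      induction hw using Submodule.smul_induction_on' with
      | smul a ha y _ =>
        have ha' : p a = 0 := ha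
        rw [mp_smul, ha', zero_smul]
      | add x _ y _ hx hy => rw [map_add, hx, hy, add_zero]
    refine ⟨z₀ - w, ?_, ?_⟩
    · rw [map_sub, hz₀, h4, sub_zero]
    · rw [map_sub, sub_eq_zero]
      exact hw'.symm
  choose F' hF' hF0 using hF
  let ρ' : Rep P C' := ⟨D', θ', hθ', F', hF0, fun s => by rw [← red_mp p, hF', ρ.hred]⟩
  have hlift : IsLift ρ p F' := hF'
  refine ⟨F', hlift, fun l Q hQ => ?_⟩
  have hq : Finsupp.linearCombination _ P.relation (Q.mapRange (red C') (map_zero _)) = 0 := by
    have h1 := red_ev' hlift Q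
    rw [← red_mp p, mp_ev'_eq_zero hlift hQ, map_zero] at h1
    exact h1.symm
  obtain ⟨Q₁, h1, h2⟩ := ρ'.exists_lift_relation _ hq
  have h2' : ev' F' Q₁ = 0 := h2
  have hQ₁ : IsRel ρ p Q₁ := by
    unfold IsRel
    rw [← mp_ev' hlift, h2', map_zero]
  rw [val_congr hp hlift l hQ hQ₁ h1.symm, val, h2', map_zero, map_zero]

end Converse

section Finite

/-- The kernel of a semismall extension is a finite-dimensional vector space. -/
theorem finite_ker (hp : IsSemismallExt p) : Module.Finite k (RingHom.ker p.toAlgHom) := by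
  obtain ⟨s, hs⟩ := (isNoetherian_def.1 (inferInstance : IsNoetherian C' C')) (RingHom.ker p.toAlgHom)
  have h1 : ((RingHom.ker p.toAlgHom).restrictScalars k).FG := by
    refine ⟨s, ?_⟩
    apply le_antisymm
    · rw [Submodule.span_le]
      intro x hx
      have : x ∈ Submodule.span C' (s : Set C') := Submodule.subset_span hx
      rw [hs] at this
      exact this
    · intro x hx
      have hx' : x ∈ Submodule.span C' (s : Set C') := by rw [hs]; exact hx
      clear hx
      induction hx' using Submodule.span_induction with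
      | mem x hx => exact Submodule.subset_span hx
      | zero => exact Submodule.zero_mem _
      | add x y _ _ hx hy => exact Submodule.add_mem _ hx hy
      | smul a x hx' hx =>
        have h2 : p x = 0 := by
          have : x ∈ RingHom.ker p.toAlgHom := hs ▸ hx'
          exact this
        rw [smul_eq_mul, mul_eq_smul_of_mem_ker hp a x h2]
        exact Submodule.smul_mem _ _ hx
  exact Module.Finite.of_fg h1

variable (p) in
/-- Extension of a functional on the kernel. -/
lemma exists_extL (l : Module.Dual k (RingHom.ker p.toAlgHom)) :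
    ∃ L : C' →ₗ[k] k, ∀ (j : C') (hj : p j = 0), L j = l ⟨j, hj⟩ := by
  obtain ⟨L, hL⟩ := LinearMap.exists_extend (p := (RingHom.ker p.toAlgHom).restrictScalars k) (V' := k) l
  exact ⟨L, fun j hj => LinearMap.congr_fun hL ⟨j, hj⟩⟩

variable (p) in
/-- A chosen extension of a functional on the kernel. -/
noncomputable def extL (l : Module.Dual k (RingHom.ker p.toAlgHom)) : C' →ₗ[k] k := (exists_extL p l).choose

lemma extL_apply (l : Module.Dual k (RingHom.ker p.toAlgHom)) (j : C') (hj : p j = 0) : extL p l j = l ⟨j, hj⟩ :=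
  (exists_extL p l).choose_spec j hj

end Finite

section Obs

variable {ρ : Rep P C} {F' : σ → MvPolynomial ι C'}

/-- The obstruction as a map on functionals on the kernel. -/
noncomputable def obLin (hp : IsSemismallExt p) (hF' : IsLift ρ p F') :
    Module.Dual k (RingHom.ker p.toAlgHom) →ₗ[k] T2 P B₀ where
  toFun l := ob hp hF' (extL p l)
  map_add' l l' := by
    rw [← ob_add]
    exact ob_congr hp hF' hF' fun j hj => by
      rw [LinearMap.add_apply, extL_apply _ j hj, extL_apply _ j hj, extL_apply _ j hj, LinearMap.add_apply]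
  map_smul' c l := by
    rw [RingHom.id_apply, ← ob_smul]
    exact ob_congr hp hF' hF' fun j hj => by
      rw [LinearMap.smul_apply, extL_apply _ j hj, extL_apply _ j hj, LinearMap.smul_apply]

lemma obLin_apply (hp : IsSemismallExt p) (hF' : IsLift ρ p F') (l : Module.Dual k (RingHom.ker p.toAlgHom))
    (L : C' →ₗ[k] k) (hL : ∀ (j : C') (hj : p j = 0), L j = l ⟨j, hj⟩) : obLin hp hF' l = ob hp hF' L :=
  ob_congr hp hF' hF' fun j hj => by rw [extL_apply _ j hj, hL j hj]

/-- If the obstruction vanishes, the lifted equations can be corrected. -/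
theorem exists_isLift_of_obLin_eq_zero (hp : IsSemismallExt p) (hF' : IsLift ρ p F') (h : obLin hp hF' = 0) :
    ∃ F'' : σ → MvPolynomial ι C', IsLift ρ p F'' ∧
      ∀ (l : C' →ₗ[k] k) (Q : σ →₀ MvPolynomial ι C'), IsRel ρ p Q → val P l F'' Q = 0 := by
  have := finite_ker hp
  let e := Module.finBasis k (RingHom.ker p.toAlgHom)
  have h1 : ∀ j, ∃ ψ : L1 P →ₗ[B₀] B₀, ψ ∘ₗ d2 P = phi hp hF' (extL p (e.coord j)) := by
    intro j
    have h2 : ob hp hF' (extL p (e.coord j)) = 0 := LinearMap.congr_fun h (e.coord j)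
    obtain ⟨ψ, hψ⟩ := (Submodule.Quotient.mk_eq_zero _).1 h2
    exact ⟨ψ, hψ⟩
  choose ψ hψ using h1
  have h2 : ∀ (j) (s : σ), ∃ z : MvPolynomial ι C', evB P (red C' z) = ψ j (L1basis P s) := by
    intro j s
    obtain ⟨r, hr⟩ := evB_surjective P (ψ j (L1basis P s))
    obtain ⟨z, rfl⟩ := red_surjective (ι := ι) C' r
    exact ⟨z, hr⟩
  choose g hg using h2
  have hej : ∀ j, p (e j : C') = 0 := fun j => (e j).2
  let F'' : σ → MvPolynomial ι C' := fun s => F' s - ∑ j, (e j : C') • g j s
  have hF'' : IsLift ρ p F'' := by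
    intro s
    change mp p (F' s - ∑ j, (e j : C') • g j s) = _
    rw [map_sub, hF', map_sum, sub_eq_self]
    exact Finset.sum_eq_zero fun j _ => by rw [mp_smul, hej, zero_smul]
  refine ⟨F'', hF'', fun l Q hQ => ?_⟩
  -- the relation
  have hq : Finsupp.linearCombination _ P.relation (Q.mapRange (red C') (map_zero _)) = 0 := by
    have h1 := red_ev' hF' Q
    rw [← red_mp p, mp_ev'_eq_zero hF' hQ, map_zero] at h1
    exact h1.symm
  let q : relKer P := ⟨Q.mapRange (red C') (map_zero _), hq⟩
  have h3 : ∀ j, (Q.mapRange (red C') (map_zero _)).sum (fun s r => evB P r * ψ j (L1basis P s)) =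
      val P (extL p (e.coord j)) F' Q := by
    intro j
    rw [← phi_mk hp hF' _ q hQ rfl, ← hψ j, LinearMap.comp_apply, d2_mk_tmul]
    rw [one_tmul_eq_sum, Finsupp.sum, Finsupp.sum, map_sum]
    refine Finset.sum_congr rfl fun s _ => ?_
    rw [map_smul, smul_eq_mul, algebraMap_eq_evB]
    rfl
  have h4 : ∀ s, evB P (lam l (F'' s - F' s)) = - ∑ j, l (e j : C') • ψ j (L1basis P s) := by
    intro s
    have : F'' s - F' s = - ∑ j, (e j : C') • g j s := by
      change F' s - ∑ j, (e j : C') • g j s - F' s = _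
      ring
    rw [this, map_neg, map_neg, map_sum, map_sum]
    congr 1
    refine Finset.sum_congr rfl fun j _ => ?_
    rw [lam_smul_of_ker hp l _ (hej j), map_smul, hg]
  have h5 : (Q.mapRange (red C') (map_zero _)).sum (fun s r => evB P r * evB P (lam l (F'' s - F' s))) =
      - ∑ j, l (e j : C') • val P (extL p (e.coord j)) F' Q := by
    simp only [h4, ← h3, Finsupp.sum, Finset.smul_sum, mul_neg, Finset.mul_sum, Finset.sum_neg_distrib]
    rw [Finset.sum_comm]
    congr 1
    refine Finset.sum_congr rfl fun j _ => Finset.sum_congr rfl fun s _ => ?_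
    rw [mul_smul_comm]
  have h6 : val P (∑ j, l (e j : C') • extL p (e.coord j)) F' Q =
      ∑ j, l (e j : C') • val P (extL p (e.coord j)) F' Q := by
    induction (Finset.univ : Finset (Fin (Module.finrank k (RingHom.ker p.toAlgHom)))) using Finset.induction_on with
    | empty => 
      rw [Finset.sum_empty, Finset.sum_empty]
      have := val_smul_left (P := P) (F' := F') (0 : k) (0 : C' →ₗ[k] k) Q
      rwa [zero_smul, zero_smul] at this
    | insert a s ha ih => rw [Finset.sum_insert ha, Finset.sum_insert ha, val_add_left, val_smul_left, ih]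
  rw [val_change hp hF' hF'' l Q, h5, ← h6, ← sub_eq_add_neg, sub_eq_zero]
  refine val_congr_left hF' (fun j hj => ?_) hQ
  have h7 : (⟨j, hj⟩ : RingHom.ker p.toAlgHom) = ∑ i, e.coord i ⟨j, hj⟩ • e i := (e.sum_repr _).symm
  rw [LinearMap.sum_apply]
  have h8 : j = ∑ i, e.coord i ⟨j, hj⟩ • (e i : C') := by
    let inc : RingHom.ker p.toAlgHom →ₗ[k] C' :=
      { toFun := fun x => x, map_add' := fun _ _ => rfl, map_smul' := fun _ _ => rfl }
    exact (congrArg inc h7).trans (map_sum inc _ _)
  conv_lhs => rw [h8]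
  rw [map_sum]
  refine Finset.sum_congr rfl fun i _ => ?_
  rw [map_smul, LinearMap.smul_apply, extL_apply _ j hj, smul_eq_mul, smul_eq_mul, mul_comm]

lemma obLin_eq_zero_of_val (hp : IsSemismallExt p) (hF' : IsLift ρ p F')
    (h : ∀ (l : C' →ₗ[k] k) (Q : σ →₀ MvPolynomial ι C'), IsRel ρ p Q → val P l F' Q = 0) : obLin hp hF' = 0 := by
  refine LinearMap.ext fun l => ?_
  change ob hp hF' (extL p l) = 0
  have h1 : phi hp hF' (extL p l) = 0 := by
    refine L2_ext P fun q => ?_
    obtain ⟨Q, hQ, hq⟩ := exists_isRel' (ρ := ρ) hp q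
    rw [phi_mk hp hF' _ q hQ hq, h _ _ hQ, LinearMap.zero_apply]
  rw [ob, h1, map_zero]

lemma obLin_congr (hp : IsSemismallExt p) (hF' : IsLift ρ p F') {F'' : σ → MvPolynomial ι C'} (hF'' : IsLift ρ p F'') :
    obLin hp hF' = obLin hp hF'' :=
  LinearMap.ext fun _ => ob_congr hp hF' hF'' fun _ _ => rfl

/-- The obstruction class of the deformation presented by `ρ` vanishes iff the deformation lifts. -/
theorem obLin_eq_zero_iff (hp : IsSemismallExt p) (hF' : IsLift ρ p F') :
    obLin hp hF' = 0 ↔ ∃ D' : AlgDef k B₀ C', Nonempty ((D'.toDefSch.baseChange p).Iso ρ.D.toDefSch) := by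
  constructor
  · intro h
    obtain ⟨F'', hF'', hv⟩ := exists_isLift_of_obLin_eq_zero hp hF' h
    exact ⟨totDef hF'' hp hv, nonempty_totDef_iso hF'' hp hv⟩
  · rintro ⟨D', ⟨e⟩⟩
    obtain ⟨F'', hF'', hv⟩ := exists_isLift_val_eq_zero ρ hp D' e
    exact (obLin_congr hp hF' hF'').trans (obLin_eq_zero_of_val hp hF'' hv)

end Obs

end K681.AffRep
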