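import Groth.Agent.ArtFun.K724.HullConds
import Groth.Agent.Fga.PicLocalAlg685
import Mathlib.LinearAlgebra.Dual.Lemmas

/-!
# Tangent vectors of a local algebra and the cotangent space
-/

set_option autoImplicit false

universe u v w

open CategoryTheory

namespace K681.CotDer

open ArtFun ArtFun.Art IsLocalRing

variable {k : Type u} [Field k] {R : Type u} [CommRing R] [IsLocalRing R] [Algebra k R] (res : R →ₐ[k] k)

lemma mem_iff (a : R) : a ∈ maximalIdeal R ↔ res a = 0 := by
  rw [← Groth.Agent.Fga.PicLocalAlg685.ker_eq res, RingHom.mem_ker]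

/-- The class of `a - res a` in the cotangent space. -/
noncomputable def dd (a : R) : (maximalIdeal R).Cotangent :=
  (maximalIdeal R).toCotangent ⟨a - algebraMap k R (res a), Groth.Agent.Fga.PicLocalAlg685.sub_mem res a⟩

lemma dd_add (a b : R) : dd res (a + b) = dd res a + dd res b := by
  rw [dd, dd, dd, ← map_add]
  congr 1
  ext
  simp only [Submodule.coe_add, map_add]
  ring

lemma smul_eq (c : k) (x : (maximalIdeal R).Cotangent) : c • x = (algebraMap k R c) • x := by
  rw [algebraMap_smul]

lemma dd_mul (a b : R) : dd res (a * b) = res a • dd res b + res b • dd res a := by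
  rw [smul_eq, smul_eq, dd, dd, dd, ← map_smul, ← map_smul, ← map_add, Ideal.toCotangent_eq]
  simp only [Submodule.coe_add, Submodule.coe_smul, smul_eq_mul, map_mul]
  rw [show a * b - algebraMap k R (res a) * algebraMap k R (res b) -
    (algebraMap k R (res a) * (b - algebraMap k R (res b)) + algebraMap k R (res b) *
      (a - algebraMap k R (res a))) = (a - algebraMap k R (res a)) * (b - algebraMap k R (res b)) by ring, sq]
  exact Ideal.mul_mem_mul (Groth.Agent.Fga.PicLocalAlg685.sub_mem res a) (Groth.Agent.Fga.PicLocalAlg685.sub_mem res b)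

lemma dd_algebraMap (c : k) : dd res (algebraMap k R c) = 0 := by
  have : (⟨algebraMap k R c - algebraMap k R (res (algebraMap k R c)),
      Groth.Agent.Fga.PicLocalAlg685.sub_mem res _⟩ : maximalIdeal R) = 0 := by ext; simp
  rw [dd, this, map_zero]

lemma dd_of_mem {a : R} (ha : a ∈ maximalIdeal R) : dd res a = (maximalIdeal R).toCotangent ⟨a, ha⟩ := by
  rw [dd]
  congr 1
  ext
  change a - algebraMap k R (res a) = a
  rw [(mem_iff res a).1 ha, map_zero, sub_zero]

/-- The tangent vector attached to a functional on the cotangent space. -/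
noncomputable def tv (φ : Module.Dual k (maximalIdeal R).Cotangent) : HomSet R res (dual k k) :=
  K724.Dual.toDual res (fun a => φ (dd res a)) (fun a b => by rw [dd_add, map_add])
    (fun a b => by rw [dd_mul, map_add, map_smul, map_smul, smul_eq_mul, smul_eq_mul])
    (fun r => by rw [dd_algebraMap, map_zero])

lemma tv_snd (φ : Module.Dual k (maximalIdeal R).Cotangent) (a : R) :
    ((tv res φ).1 a : DualNumber k).snd = φ (dd res a) := rfl

lemma tv_injective : Function.Injective (tv res) := by
  intro φ φ' h
  refine LinearMap.ext fun x => ?_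
  obtain ⟨⟨a, ha⟩, rfl⟩ := (maximalIdeal R).toCotangent_surjective x
  have h1 := congrArg (fun t : HomSet R res (dual k k) => ((t.1 a : DualNumber k)).snd) h
  simp only [tv_snd] at h1
  rwa [dd_of_mem res ha] at h1

lemma tv_surjective : Function.Surjective (tv res) := by
  intro ψ
  have hfst : ∀ a, ((ψ.1 a : DualNumber k)).fst = res a := fun a => DFunLike.congr_fun ψ.2 a
  let δ : R → k := fun a => ((ψ.1 a : DualNumber k)).snd
  have hadd : ∀ a b, δ (a + b) = δ a + δ b := fun a b =>
    congrArg TrivSqZeroExt.snd (map_add ψ.1 a b : (ψ.1 (a + b) : DualNumber k) = ψ.1 a + ψ.1 b)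
  have hmul : ∀ a b, δ (a * b) = res a * δ b + res b * δ a := by
    intro a b
    have h1 : δ (a * b) = ((ψ.1 a : DualNumber k) * (ψ.1 b : DualNumber k)).snd :=
      congrArg TrivSqZeroExt.snd (map_mul ψ.1 a b : (ψ.1 (a * b) : DualNumber k) = ψ.1 a * ψ.1 b)
    have key : ∀ x y : DualNumber k, TrivSqZeroExt.snd (x * y) = TrivSqZeroExt.fst x * TrivSqZeroExt.snd y +
        TrivSqZeroExt.fst y * TrivSqZeroExt.snd x := fun x y => by
      rw [TrivSqZeroExt.snd_mul, op_smul_eq_smul, smul_eq_mul, smul_eq_mul]
    exact (h1.trans (key _ _)).trans (congrArg₂ (· + ·) (congrArg (· * _) (hfst a)) (congrArg (· * _) (hfst b)))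
  have hc : ∀ c : k, δ (algebraMap k R c) = 0 := by
    intro c
    have h1 : (ψ.1 (algebraMap k R c) : DualNumber k) = algebraMap k (DualNumber k) c := ψ.1.commutes c
    change TrivSqZeroExt.snd (ψ.1 (algebraMap k R c) : DualNumber k) = 0
    rw [h1, TrivSqZeroExt.algebraMap_eq_inl, TrivSqZeroExt.snd_inl]
  have hsmul : ∀ (c : k) (a : R), δ (c • a) = c * δ a := by
    intro c a
    rw [Algebra.smul_def, hmul, hc, mul_zero, add_zero, res.commutes]
    rfl
  -- `δ` on the maximal ideal
  have hsq : ∀ a ∈ maximalIdeal R ^ 2, δ a = 0 := by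
    intro a ha
    rw [sq] at ha
    induction ha using Submodule.mul_induction_on' with
    | mem_mul_mem x hx y hy =>
      rw [hmul, (mem_iff res x).1 hx, (mem_iff res y).1 hy, zero_mul, zero_mul, add_zero]
    | add x _ y _ hx hy => rw [hadd, hx, hy, add_zero]
  let φ : Module.Dual k (maximalIdeal R).Cotangent :=
    { toFun := fun x => δ ((maximalIdeal R).toCotangent_surjective x).choose
      map_add' := fun x y => by
        have h1 := ((maximalIdeal R).toCotangent_surjective (x + y)).choose_spec
        have h2 := ((maximalIdeal R).toCotangent_surjective x).choose_spec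
        have h3 := ((maximalIdeal R).toCotangent_surjective y).choose_spec
        have h4 : (maximalIdeal R).toCotangent ((maximalIdeal R).toCotangent_surjective (x + y)).choose =
            (maximalIdeal R).toCotangent (((maximalIdeal R).toCotangent_surjective x).choose +
              ((maximalIdeal R).toCotangent_surjective y).choose) := by rw [h1, map_add, h2, h3]
        rw [Ideal.toCotangent_eq] at h4
        have h5 := hsq _ h4
        have h6 : ∀ a b : R, δ (a - b) = δ a - δ b := fun a b => by
          have := hadd (a - b) b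
          rw [sub_add_cancel] at this
          rw [this, add_sub_cancel_right]
        rw [h6, Submodule.coe_add, hadd, sub_eq_zero] at h5
        exact h5
      map_smul' := fun c x => by
        have h1 := ((maximalIdeal R).toCotangent_surjective (c • x)).choose_spec
        have h2 := ((maximalIdeal R).toCotangent_surjective x).choose_spec
        have h4 : (maximalIdeal R).toCotangent ((maximalIdeal R).toCotangent_surjective (c • x)).choose =
            (maximalIdeal R).toCotangent ((algebraMap k R c) • ((maximalIdeal R).toCotangent_surjective x).choose) := by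
          rw [h1, map_smul, h2, algebraMap_smul]
        rw [Ideal.toCotangent_eq] at h4
        have h5 := hsq _ h4
        have h6 : ∀ a b : R, δ (a - b) = δ a - δ b := fun a b => by
          have := hadd (a - b) b
          rw [sub_add_cancel] at this
          rw [this, add_sub_cancel_right]
        rw [h6, Submodule.coe_smul, smul_eq_mul, ← Algebra.smul_def, hsmul, sub_eq_zero] at h5
        exact h5 }
  have hφ : ∀ (a : R) (ha : a ∈ maximalIdeal R), φ ((maximalIdeal R).toCotangent ⟨a, ha⟩) = δ a := by
    intro a ha
    have h1 := ((maximalIdeal R).toCotangent_surjective ((maximalIdeal R).toCotangent ⟨a, ha⟩)).choose_spec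
    rw [Ideal.toCotangent_eq] at h1
    have h5 := hsq _ h1
    have h6 : ∀ a b : R, δ (a - b) = δ a - δ b := fun a b => by
      have := hadd (a - b) b
      rw [sub_add_cancel] at this
      rw [this, add_sub_cancel_right]
    rw [h6, sub_eq_zero] at h5
    exact h5
  refine ⟨φ, Subtype.ext (AlgHom.ext fun a => TrivSqZeroExt.ext (hfst a).symm ?_)⟩
  change φ (dd res a) = δ a
  rw [dd, hφ]
  have := hadd (a - algebraMap k R (res a)) (algebraMap k R (res a))
  rw [sub_add_cancel, hc, add_zero] at this
  exact this.symm

/-- The tangent vector attached to two functionals. -/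
noncomputable def tv2 (φ φ' : Module.Dual k (maximalIdeal R).Cotangent) : HomSet R res (dual2 k k) :=
  K724.HullConds.toDual2 res (fun a => (φ (dd res a), φ' (dd res a)))
    (fun a b => by rw [dd_add, map_add, map_add]; rfl)
    (fun a b => by rw [dd_mul, map_add, map_smul, map_smul, map_add, map_smul, map_smul]; rfl)
    (fun r => by rw [dd_algebraMap, map_zero, map_zero]; rfl)

variable {V : Type w} [AddCommGroup V] [Module k V]

/-- A bijection of the tangent vectors of `R` with a vector space `V`, compatible with the operations, identifies `V`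
with the dual of the cotangent space. -/
theorem nonempty_equiv (Θ : HomSet R res (dual k k) → V) (hΘ : Function.Bijective Θ)
    (hs : ∀ (c : k) x, Θ (HomSet.map (scale c) x) = c • Θ x)
    (ha : ∀ z : HomSet R res (dual2 k k), Θ (HomSet.map plus z) = Θ (HomSet.map pr₁ z) + Θ (HomSet.map pr₂ z)) :
    Nonempty (Module.Dual k (maximalIdeal R).Cotangent ≃ₗ[k] V) := by
  let L : Module.Dual k (maximalIdeal R).Cotangent →ₗ[k] V :=
    { toFun := fun φ => Θ (tv res φ)
      map_add' := fun φ φ' => by
        have h1 : HomSet.map pr₁ (tv2 res φ φ') = tv res φ := Subtype.ext (AlgHom.ext fun _ => rfl)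
        have h2 : HomSet.map pr₂ (tv2 res φ φ') = tv res φ' := Subtype.ext (AlgHom.ext fun _ => rfl)
        have h3 : HomSet.map plus (tv2 res φ φ') = tv res (φ + φ') := Subtype.ext (AlgHom.ext fun _ => rfl)
        rw [← h1, ← h2, ← h3, ha]
      map_smul' := fun c φ => by
        have h1 : HomSet.map (scale c) (tv res φ) = tv res (c • φ) := Subtype.ext (AlgHom.ext fun _ => rfl)
        rw [← h1, hs]
        rfl }
  exact ⟨LinearEquiv.ofBijective L ⟨hΘ.1.comp (tv_injective res), hΘ.2.comp (tv_surjective res)⟩⟩

/-- The dimension of the cotangent space. -/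
theorem finrank_eq (Θ : HomSet R res (dual k k) → V) (hΘ : Function.Bijective Θ)
    (hs : ∀ (c : k) x, Θ (HomSet.map (scale c) x) = c • Θ x)
    (ha : ∀ z : HomSet R res (dual2 k k), Θ (HomSet.map plus z) = Θ (HomSet.map pr₁ z) + Θ (HomSet.map pr₂ z)) :
    Module.finrank (ResidueField R) (CotangentSpace R) = Module.finrank k V := by
  obtain ⟨e⟩ := nonempty_equiv res Θ hΘ hs ha
  rw [Groth.Agent.Fga.PicLocalAlg685.finrank_eq res, ← e.finrank_eq, Subspace.dual_finrank_eq]

end K681.CotDer
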