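import Groth.Prelude.Def_ArtFun4
import Groth.Agent.S1302
import Mathlib.Algebra.Category.Ring.Constructions
import Mathlib.AlgebraicGeometry.Morphisms.Flat
import Mathlib.AlgebraicGeometry.Morphisms.ClosedImmersion

/-!
# Deformations of affine schemes are deformations of algebras
-/

set_option autoImplicit false

universe u

open CategoryTheory CategoryTheory.Limits AlgebraicGeometry

namespace K681.AffDef

section Rings

variable {A A' B B' : Type u} [CommRing A] [CommRing A'] [CommRing B] [CommRing B']

/-- A square with surjective horizontal maps such that the kernel on the right is generated by the kernel on the left is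
a pushout of rings. -/
theorem isPushout_of_surjective (f : A →+* A') (g : A →+* B) (g' : A' →+* B') (h : B →+* B')
    (hf : Function.Surjective f) (hh : Function.Surjective h) (comm : g'.comp f = h.comp g)
    (hker : RingHom.ker h = (RingHom.ker f).map g) :
    IsPushout (CommRingCat.ofHom f) (CommRingCat.ofHom g) (CommRingCat.ofHom g') (CommRingCat.ofHom h) := by
  refine ⟨⟨by rw [← CommRingCat.ofHom_comp, ← CommRingCat.ofHom_comp, comm]⟩,
    ⟨PushoutCocone.IsColimit.mk _
      (fun s => CommRingCat.ofHom (RingHom.liftOfSurjective h hh ⟨s.inr.hom, ?_⟩)) ?_ ?_ ?_⟩⟩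
  · rw [hker, Ideal.map_le_iff_le_comap]
    intro a ha
    have h1 := congrArg (fun t => t.hom a) s.condition
    have h2 : s.inr.hom (g a) = s.inl.hom (f a) := h1.symm
    change s.inr.hom (g a) = 0
    rw [h2, (RingHom.mem_ker).1 ha, map_zero]
  · intro s
    ext a
    obtain ⟨a, rfl⟩ := hf a
    have h1 := congrArg (fun t => t.hom a) s.condition
    have h2 : s.inr.hom (g a) = s.inl.hom (f a) := h1.symm
    have h3 : g' (f a) = h (g a) := RingHom.congr_fun comm a
    change RingHom.liftOfSurjective h hh ⟨s.inr.hom, _⟩ (g' (f a)) = s.inl.hom (f a)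
    rw [h3, RingHom.liftOfSurjective_comp_apply]
    exact h2
  · intro s
    ext b
    exact RingHom.liftOfSurjective_comp_apply ..
  · intro s m _ hm
    ext b
    obtain ⟨b, rfl⟩ := hh b
    change m.hom (h b) = RingHom.liftOfSurjective h hh ⟨s.inr.hom, _⟩ (h b)
    rw [RingHom.liftOfSurjective_comp_apply]
    exact congrArg (fun t => t.hom b) hm

/-- The pushout of a surjection of rings is a surjection, with kernel generated by the kernel. -/
theorem surjective_and_ker_of_isPushout (f : A →+* A') (g : A →+* B) (g' : A' →+* B') (h : B →+* B')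
    (hf : Function.Surjective f)
    (hp : IsPushout (CommRingCat.ofHom f) (CommRingCat.ofHom g) (CommRingCat.ofHom g') (CommRingCat.ofHom h)) :
    Function.Surjective h ∧ RingHom.ker h = (RingHom.ker f).map g := by
  let J := (RingHom.ker f).map g
  let g'' : A' →+* B ⧸ J := RingHom.liftOfSurjective f hf ⟨(Ideal.Quotient.mk J).comp g, by
    intro a ha
    rw [RingHom.mem_ker, RingHom.comp_apply, Ideal.Quotient.eq_zero_iff_mem]
    exact Ideal.mem_map_of_mem g ha⟩
  have hg'' : g''.comp f = (Ideal.Quotient.mk J).comp g := RingHom.liftOfSurjective_comp _ _ _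
  have hp' := isPushout_of_surjective f g g'' (Ideal.Quotient.mk J) hf Ideal.Quotient.mk_surjective hg''
    (Ideal.mk_ker)
  let e := hp'.isoIsPushout _ _ hp
  have he : CommRingCat.ofHom (Ideal.Quotient.mk J) ≫ e.hom = CommRingCat.ofHom h :=
    IsPushout.inr_isoIsPushout_hom ..
  let e' : (B ⧸ J) ≃+* B' := e.commRingCatIsoToRingEquiv
  have he' : ∀ b, e' (Ideal.Quotient.mk J b) = h b := fun b => congrArg (fun t => t.hom b) he
  constructor
  · intro b
    obtain ⟨c, rfl⟩ := e'.surjective b
    obtain ⟨c, rfl⟩ := Ideal.Quotient.mk_surjective c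
    exact ⟨c, (he' c).symm⟩
  · ext b
    rw [RingHom.mem_ker, ← he', map_eq_zero_iff _ e'.injective, Ideal.Quotient.eq_zero_iff_mem]

end Rings

section Geometry

open ArtFun ArtFun.Art

variable {Λ : Type u} {k : Type u} [CommRing Λ] [Field k] [Algebra Λ k]

instance surjective_specRes (A : Art Λ k) : Surjective (specRes A) := by
  refine ⟨fun y => ?_⟩
  have hy : y = IsLocalRing.closedPoint A := by
    have : Subsingleton (PrimeSpectrum A) := inferInstance
    exact this.elim _ _
  refine ⟨(⊥ : PrimeSpectrum k), ?_⟩
  have : Subsingleton (PrimeSpectrum A) := inferInstance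
  exact this.elim _ _

instance isClosedImmersion_specRes (A : Art Λ k) : IsClosedImmersion (specRes A) :=
  IsClosedImmersion.spec_of_surjective _ A.res_surjective

variable {X : Scheme.{u}} {x : X ⟶ specPt k} {A : Art Λ k}

instance isClosedImmersion_i (ξ : DefSch X x A) : IsClosedImmersion ξ.i :=
  MorphismProperty.of_isPullback (P := @IsClosedImmersion) ξ.isPullback.flip inferInstance

instance surjective_i (ξ : DefSch X x A) : Surjective ξ.i :=
  MorphismProperty.of_isPullback (P := @Surjective) ξ.isPullback.flip inferInstance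

/-- The total space of a deformation of an affine scheme is affine. -/
theorem isAffine_total [IsAffine X] (ξ : DefSch X x A) : IsAffine ξ.total := by
  have h : IsAffineHom ξ.f := (Groth.Agent.S1302.result ξ.i (specRes A) x ξ.f
    ⟨inferInstance, inferInstance⟩ ⟨inferInstance, inferInstance⟩ ξ.isPullback.w).1 inferInstance
  exact isAffine_of_isAffineHom ξ.f

/-- A cartesian square of deformations gives an isomorphism with the base change. -/
theorem nonempty_iso_baseChange {B : Art Λ k} (g : A ⟶ B) (ξ : DefSch X x A) (ξ' : DefSch X x B)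
    (h : ξ'.total ⟶ ξ.total) (hp : IsPullback h ξ'.f ξ.f (specMap g)) (hi : ξ'.i ≫ h = ξ.i) :
    Nonempty ((ξ.baseChange g).Iso ξ') := by
  let e := (IsPullback.of_hasPullback ξ.f (specMap g)).isoIsPullback _ _ hp
  have h1 : e.hom ≫ h = pullback.fst ξ.f (specMap g) := IsPullback.isoIsPullback_hom_fst _ _ _ hp
  have h2 : e.hom ≫ ξ'.f = pullback.snd ξ.f (specMap g) := IsPullback.isoIsPullback_hom_snd _ _ _ hp
  refine ⟨⟨e, h2, ?_⟩⟩
  apply hp.hom_ext
  · rw [Category.assoc, h1, hi]
    exact pullback.lift_fst _ _ _
  · rw [Category.assoc, h2, ξ'.i_f]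
    exact pullback.lift_snd _ _ _

end Geometry

end K681.AffDef
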