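import Groth.Agent.CalgB.H1OfRegular
import Groth.Agent.CalgA.RegBasic
import Mathlib.RingTheory.RegularLocalRing.Polynomial
import Mathlib.LinearAlgebra.Finsupp.LinearCombination
import Mathlib.Algebra.Module.LocalizedModule.Submodule

/-!
# Relations with coefficients in the ideal, when the ideal is generated by an `H_1`-regular sequence
-/

set_option autoImplicit false

universe u w

namespace K681.KosRel

variable {R : Type u} [CommRing R] {σ : Type w}

/-- The evaluation `e_s ↦ f s`. -/
noncomputable abbrev ev (f : σ → R) : (σ →₀ R) →ₗ[R] R := Finsupp.linearCombination R f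

/-- The span of the trivial relations among basis vectors. -/
noncomputable def TR (f : σ → R) : Submodule R (σ →₀ R) :=
  Submodule.span R {y | ∃ s t, y = f s • Finsupp.single t (1 : R) - f t • Finsupp.single s (1 : R)}

lemma ev_smul_sub_mem (f : σ → R) (a b : σ →₀ R) : ev f a • b - ev f b • a ∈ TR f := by
  classical
  induction a using Finsupp.induction_linear with
  | zero => simp
  | add a a' ha ha' =>
    have : ev f (a + a') • b - ev f b • (a + a') = (ev f a • b - ev f b • a) + (ev f a' • b - ev f b • a') := by
      rw [map_add, add_smul, smul_add]; abel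
    rw [this]
    exact Submodule.add_mem _ ha ha'
  | single s r =>
    induction b using Finsupp.induction_linear with
    | zero => simp
    | add b b' hb hb' =>
      have : ev f (Finsupp.single s r) • (b + b') - ev f (b + b') • Finsupp.single s r =
          (ev f (Finsupp.single s r) • b - ev f b • Finsupp.single s r) +
            (ev f (Finsupp.single s r) • b' - ev f b' • Finsupp.single s r) := by
        rw [map_add (ev f) b b', add_smul, smul_add]; abel
      rw [this]
      exact Submodule.add_mem _ hb hb'
    | single t r' =>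
      have : ev f (Finsupp.single s r) • Finsupp.single t r' - ev f (Finsupp.single t r') • Finsupp.single s r =
          (r * r') • (f s • Finsupp.single t (1 : R) - f t • Finsupp.single s (1 : R)) := by
        simp only [ev, Finsupp.linearCombination_single, smul_sub, Finsupp.smul_single, smul_eq_mul, mul_one]
        congr 2 <;> ring
      rw [this]
      exact Submodule.smul_mem _ _ (Submodule.subset_span ⟨s, t, rfl⟩)

lemma ev_eq_zero_of_mem_TR (f : σ → R) {q : σ →₀ R} (hq : q ∈ TR f) : ev f q = 0 := by
  have : TR f ≤ LinearMap.ker (ev f) := by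
    refine Submodule.span_le.2 ?_
    rintro _ ⟨s, t, rfl⟩
    simp [ev, mul_comm]
  exact this hq

/-- If `y` is `H_1`-regular and generates the same ideal as `f`, then a relation among the `f s` with coefficients in
that ideal is trivial. -/
theorem mem_TR_of_isH1Regular {f : σ → R} {c : ℕ} {y : Fin c → R} (hy : CAlgX.IsH1Regular y)
    (hspan : Ideal.span (Set.range f) = Ideal.span (Set.range y)) {q : σ →₀ R} (hq : ev f q = 0)
    (hqI : ∀ s, q s ∈ Ideal.span (Set.range f)) : q ∈ TR f := by
  classical
  -- y i = ev f (g i)
  have h1 : ∀ i, ∃ g : σ →₀ R, ev f g = y i := by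
    intro i
    have : y i ∈ Ideal.span (Set.range f) := hspan ▸ Ideal.subset_span ⟨i, rfl⟩
    exact (Finsupp.mem_span_range_iff_exists_finsupp).1 this |>.imp fun g hg => by
      rw [ev, Finsupp.linearCombination_apply]; exact hg
  choose g hg using h1
  have h2 : ∀ s, ∃ a : Fin c → R, ∑ i, a i * y i = f s := by
    intro s
    have : f s ∈ Ideal.span (Set.range y) := hspan ▸ Ideal.subset_span ⟨s, rfl⟩
    exact (Ideal.mem_span_range_iff_exists_fun).1 this
  choose a ha using h2
  -- γ α e_s
  let γ : (Fin c → R) →ₗ[R] (σ →₀ R) := Fintype.linearCombination R g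
  have hγ : ∀ v, ev f (γ v) = ∑ i, v i * y i := by
    intro v
    simp only [γ, Fintype.linearCombination_apply, map_sum, map_smul, hg, smul_eq_mul]
  let α : (σ →₀ R) →ₗ[R] (Fin c → R) := Finsupp.linearCombination R a
  have hα : ∀ v, ∑ i, α v i * y i = ev f v := by
    intro v
    rw [← hγ]
    have : ev f ∘ₗ γ ∘ₗ α = ev f := by
      ext s
      simp only [LinearMap.coe_comp, Function.comp_apply, Finsupp.lsingle_apply, α,
        Finsupp.linearCombination_single, one_smul]
      rw [hγ, ha]
    exact LinearMap.congr_fun this v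
  -- q - γ α q ∈ TR
  have h3 : ∀ q : σ →₀ R, (∀ s, q s ∈ Ideal.span (Set.range f)) → q - γ (α q) ∈ TR f := by
    intro q hq
    have h4 : q - γ (α q) = ∑ s ∈ q.support, q s • (Finsupp.single s (1 : R) - γ (α (Finsupp.single s 1))) := by
      have h5 : q = ∑ s ∈ q.support, q s • Finsupp.single s (1 : R) := by
        conv_lhs => rw [← Finsupp.sum_single q]
        rw [Finsupp.sum]
        exact Finset.sum_congr rfl fun s _ => by rw [Finsupp.smul_single, smul_eq_mul, mul_one]
      conv_lhs => rw [h5]
      simp only [map_sum, map_smul, smul_sub, Finset.sum_sub_distrib]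
    rw [h4]
    refine Submodule.sum_mem _ fun s _ => ?_
    obtain ⟨v, hv⟩ := (Finsupp.mem_span_range_iff_exists_finsupp).1 (hq s)
    have hv' : ev f v = q s := by rw [ev, Finsupp.linearCombination_apply]; exact hv
    have h6 := ev_smul_sub_mem f v (Finsupp.single s (1 : R) - γ (α (Finsupp.single s 1)))
    have h7 : ev f (Finsupp.single s (1 : R) - γ (α (Finsupp.single s 1))) = 0 := by
      rw [map_sub, hγ, hα, sub_self]
    rwa [h7, zero_smul, sub_zero, hv'] at h6
  have h8 : γ (α q) ∈ TR f := by
    have h9 := hy (α q) (by rw [hα, hq])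
    have h10 : Submodule.span R {v : Fin c → R | ∃ i j : Fin c, v = Pi.single i (y j) - Pi.single j (y i)} ≤
        (TR f).comap γ := by
      refine Submodule.span_le.2 ?_
      rintro _ ⟨i, j, rfl⟩
      have h11 : ∀ (i : Fin c) (r : R), γ (Pi.single i r) = r • g i := by
        intro i r
        simp only [γ, Fintype.linearCombination_apply]
        rw [Finset.sum_eq_single i]
        · simp
        · intro j _ hj
          rw [Pi.single_eq_of_ne hj, zero_smul]
        · simp
      have h12 : γ (Pi.single i (y j) - Pi.single j (y i)) = ev f (g j) • g i - ev f (g i) • g j := by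
        rw [map_sub, h11, h11, hg, hg]
      rw [SetLike.mem_coe, Submodule.mem_comap, h12]
      exact ev_smul_sub_mem f (g j) (g i)
    exact h10 h9
  have := Submodule.add_mem _ (h3 q hqI) h8
  rwa [sub_add_cancel] at this

/-- Clearing denominators for trivial relations. -/
theorem exists_smul_mem_TR_of_localization (M : Submonoid R) (S : Type*) [CommRing S] [Algebra R S]
    [IsLocalization M S] (f : σ → R) (q : σ →₀ R)
    (h : q.mapRange (algebraMap R S) (map_zero _) ∈ TR (fun s => algebraMap R S (f s))) :
    ∃ m ∈ M, m • q ∈ TR f := by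
  classical
  let φ : (σ →₀ R) →ₗ[R] (σ →₀ S) := Finsupp.mapRange.linearMap (Algebra.linearMap R S)
  have hφ : IsLocalizedModule M φ := inferInstance
  have h1 : TR (fun s => algebraMap R S (f s)) = Submodule.span S (φ '' {y | ∃ s t, y = f s • Finsupp.single t (1 : R) - f t • Finsupp.single s (1 : R)}) := by
    rw [TR]
    congr 1
    ext y
    constructor
    · rintro ⟨s, t, rfl⟩
      refine ⟨_, ⟨s, t, rfl⟩, ?_⟩
      rw [map_sub, map_smul, map_smul]
      simp [φ]
    · rintro ⟨_, ⟨s, t, rfl⟩, rfl⟩
      refine ⟨s, t, ?_⟩
      rw [map_sub, map_smul, map_smul]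
      simp [φ]
  rw [h1, ← Submodule.localized'_span S M φ] at h
  have h2 : φ q ∈ Submodule.localized' S M φ (TR f) := h
  rw [Submodule.mem_localized'] at h2
  obtain ⟨m, hm, s, hs⟩ := h2
  rw [← IsLocalizedModule.mk'_one M φ q, IsLocalizedModule.mk'_eq_mk'_iff] at hs
  obtain ⟨c, hc⟩ := hs
  refine ⟨c * s, (c * s).2, ?_⟩
  have h3 : ((c : R) * (s : R)) • q = c • s • q := by
    rw [mul_smul]; rfl
  rw [h3, hc, one_smul]
  exact Submodule.smul_mem _ _ hm

end K681.KosRel
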