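import Groth.Agent.Deform.K681.AffRep
import Groth.Prelude.Def_ArtFun3

/-!
# Functionals on the kernel of a semismall extension, applied to polynomials; the obstruction cocycle
-/

set_option autoImplicit false

universe u

open CategoryTheory MvPolynomial TensorProduct

namespace K681.AffRep

open ArtFun ArtFun.Art CotT

section Lam

variable {k : Type u} [Field k] {ι : Type u} {C' C : Art k k}

/-- Coefficientwise application of a `k`-linear functional. -/
noncomputable def lam (l : C' →ₗ[k] k) : MvPolynomial ι C' →ₗ[k] MvPolynomial ι k where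
  toFun z := ∑ m ∈ z.support, monomial m (l (coeff m z))
  map_add' z w := by
    classical
    ext n
    simp only [coeff_add, coeff_sum, coeff_monomial, Finset.sum_ite_eq', mem_support_iff]
    have h : ∀ z : MvPolynomial ι C', (if coeff n z ≠ 0 then l (coeff n z) else 0) = l (coeff n z) := by
      intro z
      split_ifs with h
      · rfl
      · rw [not_ne_iff.1 h, map_zero]
    have h' := h (z + w)
    rw [coeff_add] at h'
    rw [h z, h w, h', map_add]
  map_smul' c z := by
    classical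
    ext n
    simp only [coeff_smul, coeff_sum, coeff_monomial, Finset.sum_ite_eq', mem_support_iff, RingHom.id_apply]
    have h : ∀ z : MvPolynomial ι C', (if coeff n z ≠ 0 then l (coeff n z) else 0) = l (coeff n z) := by
      intro z
      split_ifs with h
      · rfl
      · rw [not_ne_iff.1 h, map_zero]
    have h' := h (c • z)
    rw [coeff_smul] at h'
    rw [h z, h', map_smul]

lemma coeff_lam (l : C' →ₗ[k] k) (z : MvPolynomial ι C') (n : ι →₀ ℕ) : coeff n (lam l z) = l (coeff n z) := by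
  classical
  change coeff n (∑ m ∈ z.support, monomial m (l (coeff m z))) = _
  simp only [coeff_sum, coeff_monomial, Finset.sum_ite_eq', mem_support_iff]
  split_ifs with h
  · rfl
  · rw [not_ne_iff.1 h, map_zero]

lemma lam_add_left (l l' : C' →ₗ[k] k) (z : MvPolynomial ι C') : lam (l + l') z = lam l z + lam l' z := by
  ext n
  simp only [coeff_lam, coeff_add, LinearMap.add_apply]

lemma lam_smul_left (c : k) (l : C' →ₗ[k] k) (z : MvPolynomial ι C') : lam (c • l) z = c • lam l z := by
  ext n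
  simp only [coeff_lam, coeff_smul, LinearMap.smul_apply]

/-- On the kernel `J` of a semismall extension the ring acts through `k`. -/
lemma mul_eq_smul_of_mem_ker {p : C' ⟶ C} (hp : IsSemismallExt p) (c j : C') (hj : p j = 0) :
    c * j = C'.res c • j := by
  have h1 : c - algebraMap k C' (C'.res c) ∈ IsLocalRing.maximalIdeal C' := by
    rw [mem_maximalIdeal_iff, map_sub, C'.res.commutes]
    exact sub_self _
  have h2 : (c - algebraMap k C' (C'.res c)) * j ∈ IsLocalRing.maximalIdeal C' * RingHom.ker p.toAlgHom :=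
    Ideal.mul_mem_mul h1 hj
  rw [hp.2, Ideal.mem_bot, sub_mul, sub_eq_zero] at h2
  rw [h2, Algebra.smul_def]

lemma coeff_eq_zero_of_mp {p : C' ⟶ C} {z : MvPolynomial ι C'} (hz : mp p z = 0) (m : ι →₀ ℕ) :
    p (coeff m z) = 0 := by
  rw [← coeff_mp, hz, coeff_zero]

lemma lam_mul {p : C' ⟶ C} (hp : IsSemismallExt p) (l : C' →ₗ[k] k) (a z : MvPolynomial ι C') (hz : mp p z = 0) :
    lam l (a * z) = red C' a * lam l z := by
  classical
  ext n
  rw [coeff_lam, coeff_mul, coeff_mul, map_sum]
  refine Finset.sum_congr rfl fun x _ => ?_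
  rw [mul_eq_smul_of_mem_ker hp _ _ (coeff_eq_zero_of_mp hz _), map_smul, coeff_red, coeff_lam, smul_eq_mul]

lemma smul_eq_zero_of_mem {p : C' ⟶ C} (hp : IsSemismallExt p) {a : C'} (ha : a ∈ IsLocalRing.maximalIdeal C')
    {z : MvPolynomial ι C'} (hz : mp p z = 0) : a • z = 0 := by
  ext n
  rw [coeff_smul, smul_eq_mul, mul_eq_smul_of_mem_ker hp _ _ (coeff_eq_zero_of_mp hz _),
    (mem_maximalIdeal_iff C' a).1 ha, zero_smul, coeff_zero]

lemma lam_smul_of_ker {p : C' ⟶ C} (hp : IsSemismallExt p) (l : C' →ₗ[k] k) (v : C') (hv : p v = 0)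
    (z : MvPolynomial ι C') : lam l (v • z) = l v • red C' z := by
  ext n
  rw [coeff_lam, coeff_smul, smul_eq_mul, mul_comm, mul_eq_smul_of_mem_ker hp _ _ hv, map_smul, coeff_smul, coeff_red,
    smul_eq_mul, smul_eq_mul, mul_comm]

end Lam

variable {k : Type u} [Field k] {B₀ : Type u} [CommRing B₀] [Algebra k B₀] {ι σ : Type u}
variable {P : Algebra.Presentation k B₀ ι σ} {C' C : Art k k} (ρ : Rep P C)

/-- Lifts of the equations along `p`. -/
def IsLift (p : C' ⟶ C) (F' : σ → MvPolynomial ι C') : Prop := ∀ s, mp p (F' s) = ρ.F s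

lemma exists_isLift (p : C' ⟶ C) (hp : Function.Surjective p) : ∃ F', IsLift ρ p F' := by
  choose F' hF' using fun s => mp_surjective (ι := ι) p hp (ρ.F s)
  exact ⟨F', hF'⟩

variable {ρ} {p : C' ⟶ C} {F' : σ → MvPolynomial ι C'}

/-- Evaluation at lifted equations. -/
noncomputable abbrev ev' (F' : σ → MvPolynomial ι C') : (σ →₀ MvPolynomial ι C') →ₗ[MvPolynomial ι C'] MvPolynomial ι C' :=
  Finsupp.linearCombination _ F'

lemma mp_ev' (hF' : IsLift ρ p F') (Q : σ →₀ MvPolynomial ι C') :
    mp p (ev' F' Q) = ρ.ev (Q.mapRange (mp p) (map_zero _)) := by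
  rw [Finsupp.linearCombination_apply, Finsupp.linearCombination_apply, Finsupp.sum_mapRange_index (by simp),
    Finsupp.sum, Finsupp.sum, map_sum]
  exact Finset.sum_congr rfl fun s _ => by rw [smul_eq_mul, map_mul, hF', smul_eq_mul]

/-- `Q` induces a relation among the `F`. -/
def IsRel (ρ : Rep P C) (p : C' ⟶ C) (Q : σ →₀ MvPolynomial ι C') : Prop :=
  ρ.ev (Q.mapRange (mp p) (map_zero _)) = 0

lemma mapRange_red_mp (Q : σ →₀ MvPolynomial ι C') :
    (Q.mapRange (mp p) (map_zero _)).mapRange (red C) (map_zero _) = Q.mapRange (red C') (map_zero _) := by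
  ext1 s
  simp only [Finsupp.mapRange_apply, red_mp]

lemma exists_isRel (hp : Function.Surjective p) (q : σ →₀ MvPolynomial ι k)
    (hq : Finsupp.linearCombination _ P.relation q = 0) :
    ∃ Q : σ →₀ MvPolynomial ι C', IsRel ρ p Q ∧ Q.mapRange (red C') (map_zero _) = q := by
  obtain ⟨Q₁, h1, h2⟩ := ρ.exists_lift_relation q hq
  obtain ⟨Q, rfl⟩ := Finsupp.mapRange_surjective _ (map_zero _) (mp_surjective (ι := ι) p hp) Q₁
  exact ⟨Q, h2, by rw [← h1, mapRange_red_mp]⟩

/-- The value of the obstruction cocycle on a lifted relation. -/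
noncomputable def val (P : Algebra.Presentation k B₀ ι σ) (l : C' →ₗ[k] k) (F' : σ → MvPolynomial ι C')
    (Q : σ →₀ MvPolynomial ι C') : B₀ := evB P (lam l (ev' F' Q))

lemma val_add (l : C' →ₗ[k] k) (Q Q' : σ →₀ MvPolynomial ι C') :
    val P l F' (Q + Q') = val P l F' Q + val P l F' Q' := by
  simp only [val, map_add]

lemma val_sub (l : C' →ₗ[k] k) (Q Q' : σ →₀ MvPolynomial ι C') :
    val P l F' (Q - Q') = val P l F' Q - val P l F' Q' := by
  simp only [val, map_sub]

lemma isRel_add {Q Q' : σ →₀ MvPolynomial ι C'} (h : IsRel ρ p Q) (h' : IsRel ρ p Q') : IsRel ρ p (Q + Q') := by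
  unfold IsRel at *
  rw [Finsupp.mapRange_add (map_add _), map_add, h, h', add_zero]

lemma isRel_sub {Q Q' : σ →₀ MvPolynomial ι C'} (h : IsRel ρ p Q) (h' : IsRel ρ p Q') : IsRel ρ p (Q - Q') := by
  unfold IsRel at *
  rw [Finsupp.mapRange_sub (map_sub _), map_sub, h, h', sub_zero]

lemma isRel_smul {Q : σ →₀ MvPolynomial ι C'} (a : MvPolynomial ι C') (h : IsRel ρ p Q) : IsRel ρ p (a • Q) := by
  unfold IsRel at *
  have : (a • Q).mapRange (mp p) (map_zero _) = mp p a • Q.mapRange (mp p) (map_zero _) := by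
    ext1 s
    simp
  rw [this, map_smul, h, smul_zero]

lemma mp_ev'_eq_zero (hF' : IsLift ρ p F') {Q : σ →₀ MvPolynomial ι C'} (h : IsRel ρ p Q) : mp p (ev' F' Q) = 0 := by
  rw [mp_ev' hF', h]

lemma val_smul (hp : IsSemismallExt p) (hF' : IsLift ρ p F') (l : C' →ₗ[k] k) (a : MvPolynomial ι C')
    {Q : σ →₀ MvPolynomial ι C'} (h : IsRel ρ p Q) : val P l F' (a • Q) = evB P (red C' a) * val P l F' Q := by
  rw [val, map_smul, smul_eq_mul, lam_mul hp l _ _ (mp_ev'_eq_zero hF' h), map_mul, val]

lemma red_F' (hF' : IsLift ρ p F') (s : σ) : red C' (F' s) = P.relation s := by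
  rw [← red_mp p, hF', ρ.hred]

/-- `val` vanishes on tuples with coefficients in the kernel. -/
lemma val_of_mp_eq_zero (hp : IsSemismallExt p) (hF' : IsLift ρ p F') (l : C' →ₗ[k] k)
    {Y : σ →₀ MvPolynomial ι C'} (hY : Y.mapRange (mp p) (map_zero _) = 0) : val P l F' Y = 0 := by
  rw [val, Finsupp.linearCombination_apply, Finsupp.sum, map_sum, map_sum]
  refine Finset.sum_eq_zero fun s _ => ?_
  have h1 : mp p (Y s) = 0 := by
    have := DFunLike.congr_fun hY s
    rwa [Finsupp.mapRange_apply] at this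
  rw [smul_eq_mul, mul_comm, lam_mul hp l _ _ h1, red_F' hF', map_mul, evB_relation, zero_mul]

/-- `val` only depends on the reduction of the lifted relation. -/
theorem val_eq_zero (hp : IsSemismallExt p) (hF' : IsLift ρ p F') (l : C' →ₗ[k] k)
    {Q : σ →₀ MvPolynomial ι C'} (hQ : IsRel ρ p Q) (hred : Q.mapRange (red C') (map_zero _) = 0) :
    val P l F' Q = 0 := by
  have h1 : Q.mapRange (mp p) (map_zero _) ∈ IsLocalRing.maximalIdeal C • LinearMap.ker (ρ.ev.restrictScalars C) := by
    refine ρ.exists_sum_relation _ ?_ hQ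
    rw [mapRange_red_mp, hred]
  suffices h : ∀ x ∈ IsLocalRing.maximalIdeal C • LinearMap.ker (ρ.ev.restrictScalars C),
      ∀ Q : σ →₀ MvPolynomial ι C', Q.mapRange (mp p) (map_zero _) = x → val P l F' Q = 0 from h _ h1 Q rfl
  intro x hx
  induction hx using Submodule.smul_induction_on' with
  | smul a ha y hy =>
    intro Q hQ
    obtain ⟨a', rfl⟩ := hp.1 a
    obtain ⟨R, rfl⟩ := Finsupp.mapRange_surjective _ (map_zero _) (mp_surjective (ι := ι) p hp.1) y
    have hR : IsRel ρ p R := hy
    have ha' : a' ∈ IsLocalRing.maximalIdeal C' := by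
      rw [mem_maximalIdeal_iff] at ha ⊢
      rw [← ha, res_app]
    have h2 : (Q - a' • R).mapRange (mp p) (map_zero _) = 0 := by
      rw [Finsupp.mapRange_sub (map_sub _), hQ, sub_eq_zero]
      ext1 s
      simp only [Finsupp.mapRange_apply, Finsupp.smul_apply, mp_smul]
    have h3 : val P l F' (a' • R) = 0 := by
      have h4 : ev' F' (a' • R) = a' • ev' F' R := by
        rw [← algebraMap_smul (MvPolynomial ι C') a' R, map_smul, algebraMap_smul]
      rw [val, h4, smul_eq_zero_of_mem hp ha' (mp_ev'_eq_zero hF' hR), map_zero, map_zero]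
    have h5 := val_of_mp_eq_zero hp hF' l h2
    rw [val_sub, h3, sub_zero] at h5
    exact h5
  | add x _ y _ hx hy =>
    intro Q hQ
    obtain ⟨Q₁, hQ₁⟩ := Finsupp.mapRange_surjective _ (map_zero _) (mp_surjective (ι := ι) p hp.1) x
    have h2 : (Q - Q₁).mapRange (mp p) (map_zero _) = y := by
      rw [Finsupp.mapRange_sub (map_sub _), hQ, hQ₁, add_sub_cancel_left]
    have h3 := hy (Q - Q₁) h2
    rw [val_sub, hx Q₁ hQ₁, sub_zero] at h3
    exact h3

lemma val_congr (hp : IsSemismallExt p) (hF' : IsLift ρ p F') (l : C' →ₗ[k] k)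
    {Q Q' : σ →₀ MvPolynomial ι C'} (hQ : IsRel ρ p Q) (hQ' : IsRel ρ p Q')
    (h : Q.mapRange (red C') (map_zero _) = Q'.mapRange (red C') (map_zero _)) : val P l F' Q = val P l F' Q' := by
  rw [← sub_eq_zero, ← val_sub]
  refine val_eq_zero hp hF' l (isRel_sub hQ hQ') ?_
  rw [Finsupp.mapRange_sub (map_sub _), h, sub_self]

/-- `val` only depends on the functional on the kernel. -/
lemma val_congr_left (hF' : IsLift ρ p F') {l l' : C' →ₗ[k] k} (h : ∀ j, p j = 0 → l j = l' j)
    {Q : σ →₀ MvPolynomial ι C'} (hQ : IsRel ρ p Q) : val P l F' Q = val P l' F' Q := by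
  rw [val, val]
  congr 1
  ext n
  rw [coeff_lam, coeff_lam]
  exact h _ (coeff_eq_zero_of_mp (mp_ev'_eq_zero hF' hQ) n)

lemma val_add_left (l l' : C' →ₗ[k] k) (Q : σ →₀ MvPolynomial ι C') :
    val P (l + l') F' Q = val P l F' Q + val P l' F' Q := by
  rw [val, lam_add_left, map_add, val, val]

lemma val_smul_left (c : k) (l : C' →ₗ[k] k) (Q : σ →₀ MvPolynomial ι C') :
    val P (c • l) F' Q = c • val P l F' Q := by
  rw [val, lam_smul_left, map_smul, val]

/-- Change of the lifted equations. -/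
lemma val_change (hp : IsSemismallExt p) {F'' : σ → MvPolynomial ι C'} (hF' : IsLift ρ p F') (hF'' : IsLift ρ p F'')
    (l : C' →ₗ[k] k) (Q : σ →₀ MvPolynomial ι C') :
    val P l F'' Q = val P l F' Q +
      (Q.mapRange (red C') (map_zero _)).sum fun s r => evB P r * evB P (lam l (F'' s - F' s)) := by
  have h1 : ev' F'' Q = ev' F' Q + Q.sum fun s r => r * (F'' s - F' s) := by
    rw [Finsupp.linearCombination_apply, Finsupp.linearCombination_apply, ← Finsupp.sum_add]
    refine Finsupp.sum_congr fun s _ => ?_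
    rw [smul_eq_mul, smul_eq_mul]; ring
  rw [val, h1, map_add, map_add, val]
  congr 1
  rw [Finsupp.sum_mapRange_index (by simp), Finsupp.sum, map_sum, map_sum, Finsupp.sum]
  refine Finset.sum_congr rfl fun s _ => ?_
  rw [lam_mul hp l _ _ (by rw [map_sub, hF'', hF', sub_self]), map_mul]

end K681.AffRep
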