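import Groth.Agent.Deform.K681.AffOb

/-!
# Lifting deformations of algebras along semismall extensions: flatness
-/

set_option autoImplicit false

universe u

open CategoryTheory MvPolynomial TensorProduct

namespace K681.AffRep

open ArtFun ArtFun.Art CotT

variable {k : Type u} [Field k] {B₀ : Type u} [CommRing B₀] [Algebra k B₀] {ι σ : Type u}
variable {P : Algebra.Presentation k B₀ ι σ} {C' C : Art k k} {p : C' ⟶ C}

section General

variable {κ : Type u}

/-- In a deformation over `C`, lifts of a `k`-basis of `B₀` form a basis. -/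
theorem bijective_of_basis (D : AlgDef k B₀ C) (b : Module.Basis κ k B₀) (β : κ → D.carrier)
    (hβ : ∀ i, D.π (β i) = b i) : Function.Bijective (Finsupp.linearCombination C β) := by
  have hπ : ∀ v : κ →₀ C, D.π (Finsupp.linearCombination C β v) =
      Finsupp.linearCombination k b (v.mapRange C.res (map_zero _)) := by
    intro v
    rw [Finsupp.linearCombination_apply, Finsupp.linearCombination_apply, Finsupp.sum_mapRange_index (by simp),
      Finsupp.sum, Finsupp.sum, map_sum]
    refine Finset.sum_congr rfl fun i _ => ?_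
    rw [Algebra.smul_def, map_mul, D.comp, hβ, Algebra.smul_def]
  refine FlatNil.bijective_of_nilpotent (IsLocalRing.maximalIdeal C) (isNilpotent_maximalIdeal C) _ ?_ ?_
  · intro d
    obtain ⟨v, hv⟩ := Finsupp.mapRange_surjective C.res (map_zero _) C.res_surjective (b.repr (D.π d))
    refine ⟨v, (mem_smul_top_iff_π D _).1 ?_⟩
    rw [map_sub, hπ, hv, b.linearCombination_repr, sub_self]
  · intro v hv
    rw [← mem_smul_top_iff_π, hπ] at hv
    have h1 : v.mapRange C.res (map_zero _) = 0 := by
      have h2 := congrArg b.repr hv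
      rwa [b.repr_linearCombination, map_zero] at h2
    rw [← Finsupp.sum_single v]
    refine Submodule.sum_mem _ fun i _ => ?_
    have h3 : Finsupp.single i (v i) = v i • Finsupp.single i (1 : C) := by
      rw [Finsupp.smul_single, smul_eq_mul, mul_one]
    rw [h3]
    refine Submodule.smul_mem_smul ?_ trivial
    rw [mem_maximalIdeal_iff]
    have := DFunLike.congr_fun h1 i
    rwa [Finsupp.mapRange_apply] at this

end General

variable (ρ : Rep P C) {F' : σ → MvPolynomial ι C'}

section Construction

variable (F')

/-- The candidate total ring. -/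
abbrev Tot : Type u := MvPolynomial ι C' ⧸ Ideal.span (Set.range F')

variable {F'}

lemma mem_span_iff (z : MvPolynomial ι C') : z ∈ Ideal.span (Set.range F') ↔ ∃ Q, ev' F' Q = z := by
  rw [Finsupp.mem_span_range_iff_exists_finsupp]
  constructor
  · rintro ⟨c, hc⟩; exact ⟨c, by rw [Finsupp.linearCombination_apply]; exact hc⟩
  · rintro ⟨c, hc⟩; exact ⟨c, by rw [Finsupp.linearCombination_apply] at hc; exact hc⟩

variable {ρ} (hF' : IsLift ρ p F')

include hF' in
lemma evB_red_eq_zero (z : MvPolynomial ι C') (hz : z ∈ Ideal.span (Set.range F')) : evB P (red C' z) = 0 := by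
  obtain ⟨Q, rfl⟩ := (mem_span_iff z).1 hz
  rw [red_ev' hF', Finsupp.linearCombination_apply, Finsupp.sum, map_sum]
  exact Finset.sum_eq_zero fun s _ => by rw [smul_eq_mul, map_mul, evB_relation, mul_zero]

/-- The reduction map of the candidate. -/
noncomputable def totπ : Tot F' →+* B₀ :=
  Ideal.Quotient.lift _ ((evB P).toRingHom.comp (red C')) (evB_red_eq_zero hF')

lemma totπ_mk (z : MvPolynomial ι C') : totπ hF' (Ideal.Quotient.mk _ z) = evB P (red C' z) := rfl

lemma totπ_eq_zero_iff (y : Tot F') :
    totπ hF' y = 0 ↔ y ∈ IsLocalRing.maximalIdeal C' • (⊤ : Submodule C' (Tot F')) := by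
  constructor
  · intro hy
    obtain ⟨z, rfl⟩ := Ideal.Quotient.mk_surjective y
    rw [totπ_mk] at hy
    obtain ⟨c, hc⟩ := exists_of_evB_eq_zero P _ hy
    obtain ⟨Q, rfl⟩ := Rep.exists_lift_finsupp (C := C') (ι := ι) c
    have h1 : red C' (z - ev' F' Q) = 0 := by rw [map_sub, red_ev' hF', hc, sub_self]
    rw [red_eq_zero_iff] at h1
    have h2 : Ideal.Quotient.mk (Ideal.span (Set.range F')) z = Ideal.Quotient.mk _ (z - ev' F' Q) := by
      rw [Ideal.Quotient.mk_eq_mk_iff_sub_mem, sub_sub_cancel]
      exact (mem_span_iff _).2 ⟨Q, rfl⟩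
    rw [h2]
    have h3 : (IsLocalRing.maximalIdeal C' • (⊤ : Submodule C' (MvPolynomial ι C'))).map
        (Ideal.Quotient.mkₐ C' (Ideal.span (Set.range F'))).toLinearMap ≤
        IsLocalRing.maximalIdeal C' • (⊤ : Submodule C' (Tot F')) := by
      rw [Submodule.map_smul'']
      exact Submodule.smul_mono le_rfl le_top
    exact h3 ⟨_, h1, rfl⟩
  · intro hy
    induction hy using Submodule.smul_induction_on' with
    | smul a ha y _ =>
      obtain ⟨z, rfl⟩ := Ideal.Quotient.mk_surjective y
      have h1 : a • (Ideal.Quotient.mk (Ideal.span (Set.range F')) z) = Ideal.Quotient.mk _ (a • z) := rfl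
      rw [h1, totπ_mk, red_smul, (mem_maximalIdeal_iff C' a).1 ha, zero_smul, map_zero]
    | add x _ y _ hx hy => rw [map_add, hx, hy, add_zero]

include hF' in
/-- If the obstruction cocycles of the lifted equations vanish then these equations define a deformation. -/
theorem flat_tot (hp : IsSemismallExt p) (h : ∀ (l : C' →ₗ[k] k) (Q : σ →₀ MvPolynomial ι C'), IsRel ρ p Q → val P l F' Q = 0) :
    Module.Flat C' (Tot F') := by
  let b := Module.Basis.ofVectorSpace k B₀
  choose β₀ hβ₀ using fun i => evB_surjective P (b i)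
  choose β hβ using fun i => red_surjective (ι := ι) C' (β₀ i)
  have hβ' : ∀ i, evB P (red C' (β i)) = b i := fun i => by rw [hβ, hβ₀]
  let Ψ := Finsupp.linearCombination C' (fun i => (Ideal.Quotient.mk (Ideal.span (Set.range F')) (β i) : Tot F'))
  have hΨ : ∀ v, Ψ v = Ideal.Quotient.mk _ (Finsupp.linearCombination C' β v) := by
    intro v
    have : Ψ = (Ideal.Quotient.mkₐ C' (Ideal.span (Set.range F'))).toLinearMap ∘ₗ Finsupp.linearCombination C' β := by
      ext i
      simp only [Ψ, LinearMap.coe_comp, Function.comp_apply, Finsupp.lsingle_apply, Finsupp.linearCombination_single,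
        one_smul]
      rfl
    rw [this]
    rfl
  have hbij : Function.Bijective Ψ := by
    constructor
    · rw [injective_iff_map_eq_zero]
      intro v hv
      rw [hΨ, Ideal.Quotient.eq_zero_iff_mem] at hv
      obtain ⟨Q, hQ⟩ := (mem_span_iff _).1 hv
      -- reduction to `D`
      have h1 : ∀ i, p (v i) = 0 := by
        have hb := bijective_of_basis ρ.D b (fun i => ρ.θ (mp p (β i))) (fun i => by rw [ρ.hθ, red_mp, hβ'])
        have h2 : Finsupp.linearCombination C (fun i => ρ.θ (mp p (β i))) (v.mapRange p.toAlgHom (map_zero _)) = 0 := by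
          have h3 : Finsupp.linearCombination C (fun i => ρ.θ (mp p (β i))) (v.mapRange p.toAlgHom (map_zero _)) =
              ρ.θ (mp p (Finsupp.linearCombination C' β v)) := by
            rw [Finsupp.linearCombination_apply, Finsupp.linearCombination_apply, Finsupp.sum_mapRange_index (by simp),
              Finsupp.sum, Finsupp.sum, map_sum, map_sum]
            refine Finset.sum_congr rfl fun i _ => ?_
            rw [mp_smul, map_smul]
          rw [h3, ← hQ, mp_ev' hF', ρ.θ_ev]
        have h4 := hb.1 (h2.trans (map_zero _).symm)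
        intro i
        have := DFunLike.congr_fun h4 i
        rwa [Finsupp.mapRange_apply] at this
      have hrel : IsRel ρ p Q := by
        unfold IsRel
        rw [← mp_ev' hF', hQ, Finsupp.linearCombination_apply, Finsupp.sum, map_sum]
        refine Finset.sum_eq_zero fun i _ => ?_
        rw [mp_smul, h1, zero_smul]
      ext i
      rw [Finsupp.coe_zero, Pi.zero_apply]
      refine (Module.forall_dual_apply_eq_zero_iff k (v i)).1 fun l => ?_
      have h5 := h l Q hrel
      rw [val, hQ, Finsupp.linearCombination_apply, Finsupp.sum, map_sum, map_sum] at h5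
      have h6 : ∑ x ∈ v.support, l (v x) • b x = 0 := by
        rw [← h5]
        refine Finset.sum_congr rfl fun x _ => ?_
        rw [lam_smul_of_ker hp l _ (h1 x), map_smul, hβ']
      have h7 : Finsupp.linearCombination k b (v.mapRange l (map_zero _)) = 0 := by
        rw [Finsupp.linearCombination_apply, Finsupp.sum_mapRange_index (by simp), Finsupp.sum]
        exact h6
      have h8 := congrArg b.repr h7
      rw [b.repr_linearCombination, map_zero] at h8
      have h9 := DFunLike.congr_fun h8 i
      rwa [Finsupp.mapRange_apply] at h9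
    · refine FlatNil.surjective_of_nilpotent (IsLocalRing.maximalIdeal C') (isNilpotent_maximalIdeal C') _ ?_
      intro y
      obtain ⟨v, hv⟩ := Finsupp.mapRange_surjective C'.res (map_zero _) C'.res_surjective (b.repr (totπ hF' y))
      refine ⟨v, (totπ_eq_zero_iff hF' _).1 ?_⟩
      rw [map_sub, hΨ, totπ_mk, sub_eq_zero]
      have h3 : evB P (red C' (Finsupp.linearCombination C' β v)) =
          Finsupp.linearCombination k b (v.mapRange C'.res (map_zero _)) := by
        rw [Finsupp.linearCombination_apply, Finsupp.linearCombination_apply, Finsupp.sum_mapRange_index (by simp),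
          Finsupp.sum, Finsupp.sum, map_sum, map_sum]
        refine Finset.sum_congr rfl fun i _ => ?_
        rw [red_smul, map_smul, hβ']
      rw [h3, hv, b.linearCombination_repr]
  exact Module.Flat.of_linearEquiv (LinearEquiv.ofBijective Ψ hbij).symm

/-- The deformation defined by lifted equations with vanishing obstruction cocycles. -/
noncomputable def totDef (hp : IsSemismallExt p)
    (h : ∀ (l : C' →ₗ[k] k) (Q : σ →₀ MvPolynomial ι C'), IsRel ρ p Q → val P l F' Q = 0) : AlgDef k B₀ C' where
  carrier := Tot F'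
  flat := flat_tot hF' hp h
  π := totπ hF'
  comp a := by
    have h1 : algebraMap C' (Tot F') a = Ideal.Quotient.mk _ (MvPolynomial.C a) := rfl
    rw [h1, totπ_mk, red, MvPolynomial.map_C]
    exact (evB P).commutes _
  surj b := by
    obtain ⟨r, hr⟩ := evB_surjective P b
    obtain ⟨z, rfl⟩ := red_surjective (ι := ι) C' r
    exact ⟨Ideal.Quotient.mk _ z, hr⟩
  ker := by
    ext y
    rw [RingHom.mem_ker, totπ_eq_zero_iff, Ideal.smul_top_eq_map]
    rfl

/-- It restricts to the given deformation. -/
theorem nonempty_totDef_iso (hp : IsSemismallExt p)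
    (h : ∀ (l : C' →ₗ[k] k) (Q : σ →₀ MvPolynomial ι C'), IsRel ρ p Q → val P l F' Q = 0) :
    Nonempty (((totDef hF' hp h).toDefSch.baseChange p).Iso ρ.D.toDefSch) := by
  let φ : Tot F' →+* ρ.D.carrier := Ideal.Quotient.lift _ (ρ.θ.toRingHom.comp (mp p)) (by
    intro z hz
    obtain ⟨Q, rfl⟩ := (mem_span_iff z).1 hz
    change ρ.θ (mp p (ev' F' Q)) = 0
    rw [mp_ev' hF', ρ.θ_ev])
  have hφ : ∀ z, φ (Ideal.Quotient.mk _ z) = ρ.θ (mp p z) := fun _ => rfl
  refine AlgDef.nonempty_baseChange_iso p (totDef hF' hp h) ρ.D φ ?_ ?_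
  · intro a
    change φ (Ideal.Quotient.mk _ (MvPolynomial.C a)) = _
    rw [hφ, mp, MvPolynomial.map_C]
    exact ρ.θ.commutes _
  · intro y
    obtain ⟨z, rfl⟩ := Ideal.Quotient.mk_surjective y
    change ρ.D.π (φ (Ideal.Quotient.mk _ z)) = totπ hF' (Ideal.Quotient.mk _ z)
    rw [hφ, ρ.hθ, red_mp, totπ_mk]

end Construction

end K681.AffRep
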