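import Groth.Agent.Deform.K681.AffLam

/-!
# The obstruction class of a deformation of an algebra in `T²`
-/

set_option autoImplicit false

universe u

open CategoryTheory MvPolynomial TensorProduct

namespace K681.AffRep

open ArtFun ArtFun.Art CotT

variable {k : Type u} [Field k] {B₀ : Type u} [CommRing B₀] [Algebra k B₀] {ι σ : Type u}
variable (P : Algebra.Presentation k B₀ ι σ) {C' C : Art k k}

local notation "RR" => P.toExtension.Ring

lemma algebraMap_eq_evB (r : RR) : algebraMap RR B₀ r = evB P r := algebraMap_toExtension P r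

lemma algebraMap_RR_surj : Function.Surjective (algebraMap RR B₀) := P.toExtension.algebraMap_surjective

/-- A map out of the second term of the cotangent complex from a linear map on the relation module that kills the
trivial relations. -/
noncomputable def liftL2 (φ : relKer P →ₗ[RR] B₀)
    (h : ∀ a b : relMod P, ∀ hab, φ ⟨jmap P a • b - jmap P b • a, hab⟩ = 0) : L2 P →ₗ[B₀] B₀ :=
  Submodule.liftQ _ (LinearMap.liftBaseChange B₀ φ) (by
    have h1 : ∀ q : relKer P, (q : relMod P) ∈ trivRel P → φ q = 0 := by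
      have h2 : trivRel P ≤ (LinearMap.ker φ).map (relKer P).subtype := by
        refine Submodule.span_le.2 ?_
        rintro _ ⟨a, b, rfl⟩
        have h3 : jmap P a • b - jmap P b • a ∈ relKer P :=
          trivRel_le_relKer P (Submodule.subset_span ⟨a, b, rfl⟩)
        exact ⟨⟨_, h3⟩, h a b h3, rfl⟩
      intro q hq
      obtain ⟨q', hq', h3⟩ := h2 hq
      rw [← show q' = q from Subtype.ext h3]
      exact hq'
    rw [LinearMap.range_le_ker_iff]
    refine TensorProduct.AlgebraTensorModule.ext fun b q => ?_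
    simp only [LinearMap.coe_comp, Function.comp_apply, LinearMap.baseChange_tmul, Submodule.coe_subtype,
      LinearMap.zero_apply, LinearMap.liftBaseChange_tmul]
    rw [h1 q q.2, smul_zero])

lemma liftL2_mk (φ : relKer P →ₗ[RR] B₀)
    (h : ∀ a b : relMod P, ∀ hab, φ ⟨jmap P a • b - jmap P b • a, hab⟩ = 0) (b : B₀) (q : relKer P) :
    liftL2 P φ h (Submodule.Quotient.mk (b ⊗ₜ q)) = b * φ q := by
  change (LinearMap.liftBaseChange B₀ φ) (b ⊗ₜ[RR] q) = _
  rw [LinearMap.liftBaseChange_tmul, smul_eq_mul]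

/-- Evaluation at the relations of `P`, in terms of polynomials. -/
noncomputable abbrev lc (P : Algebra.Presentation k B₀ ι σ) :
    (σ →₀ MvPolynomial ι k) →ₗ[MvPolynomial ι k] MvPolynomial ι k :=
  Finsupp.linearCombination _ P.relation

lemma jmap_eq (a : relMod P) : jmap P a = lc P a := rfl

lemma triv_eq (a b : σ →₀ MvPolynomial ι k) :
    (lc P a • b - lc P b • a : σ →₀ MvPolynomial ι k) =
      (fun (a b : relMod P) => jmap P a • b - jmap P b • a) a b := rfl

lemma one_tmul_eq_sum (q : relMod P) :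
    (1 : B₀) ⊗ₜ[RR] q = q.sum fun s r => algebraMap RR B₀ r • L1basis P s := by
  conv_lhs => rw [← Finsupp.sum_single q]
  rw [Finsupp.sum, Finsupp.sum, TensorProduct.tmul_sum]
  refine Finset.sum_congr rfl fun s _ => ?_
  have h2 : Finsupp.single s (q s) = q s • Finsupp.single s (1 : RR) := by
    rw [Finsupp.smul_single, smul_eq_mul, mul_one]
  rw [h2, ← TensorProduct.smul_tmul, Algebra.smul_def, mul_one, L1basis_apply, TensorProduct.smul_tmul', smul_eq_mul,
    mul_one]

lemma L2_ext {φ ψ : L2 P →ₗ[B₀] B₀}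
    (h : ∀ q : relKer P, φ (Submodule.Quotient.mk (1 ⊗ₜ q)) = ψ (Submodule.Quotient.mk (1 ⊗ₜ q))) : φ = ψ := by
  refine Submodule.linearMap_qext _ (TensorProduct.AlgebraTensorModule.ext fun b q => ?_)
  have h1 : (b ⊗ₜ[RR] q : B₀ ⊗[RR] relKer P) = b • (1 ⊗ₜ q) := by
    rw [TensorProduct.smul_tmul', smul_eq_mul, mul_one]
  simp only [LinearMap.coe_comp, Function.comp_apply, Submodule.mkQ_apply]
  rw [h1, Submodule.Quotient.mk_smul, map_smul, map_smul, h q]

variable {P}
variable {ρ : Rep P C} {p : C' ⟶ C} {F' : σ → MvPolynomial ι C'}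

lemma mapRange_red_smul' (z : MvPolynomial ι C') (c : σ →₀ MvPolynomial ι C') :
    (z • c).mapRange (red C') (map_zero _) = red C' z • c.mapRange (red C') (map_zero _) := by
  ext1 s
  simp only [Finsupp.mapRange_apply, Finsupp.smul_apply, smul_eq_mul, map_mul]

lemma red_ev' (hF' : IsLift ρ p F') (c : σ →₀ MvPolynomial ι C') :
    red C' (ev' F' c) = lc P (c.mapRange (red C') (map_zero _)) := by
  rw [Finsupp.linearCombination_apply, Finsupp.linearCombination_apply, Finsupp.sum_mapRange_index (by simp),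
    Finsupp.sum, Finsupp.sum, map_sum]
  exact Finset.sum_congr rfl fun s _ => by rw [smul_eq_mul, map_mul, red_F' hF', smul_eq_mul]

section Cocycle

variable (hp : IsSemismallExt p) (hF' : IsLift ρ p F') (l : C' →ₗ[k] k)

/-- The obstruction cocycle on the relation module. -/
noncomputable def phi0 : relKer P →ₗ[RR] B₀ where
  toFun q := val P l F' (exists_isRel (ρ := ρ) hp.1 (q : relMod P) q.2).choose
  map_add' q q' := by
    rw [← val_add]
    refine val_congr hp hF' l (exists_isRel (ρ := ρ) hp.1 ((q + q' : relKer P) : relMod P) (q + q').2).choose_spec.1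
      (isRel_add (exists_isRel (ρ := ρ) hp.1 (q : relMod P) q.2).choose_spec.1
        (exists_isRel (ρ := ρ) hp.1 (q' : relMod P) q'.2).choose_spec.1) ?_
    rw [(exists_isRel (ρ := ρ) hp.1 ((q + q' : relKer P) : relMod P) (q + q').2).choose_spec.2,
      Finsupp.mapRange_add (map_add _), (exists_isRel (ρ := ρ) hp.1 (q : relMod P) q.2).choose_spec.2,
      (exists_isRel (ρ := ρ) hp.1 (q' : relMod P) q'.2).choose_spec.2]
    rfl
  map_smul' r q := by
    obtain ⟨a, ha⟩ := red_surjective (ι := ι) C' r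
    rw [RingHom.id_apply, Algebra.smul_def, algebraMap_eq_evB]
    have h1 := val_smul hp hF' l a (exists_isRel (ρ := ρ) hp.1 (q : relMod P) q.2).choose_spec.1
    rw [ha] at h1
    rw [← h1]
    refine val_congr hp hF' l (exists_isRel (ρ := ρ) hp.1 ((r • q : relKer P) : relMod P) (r • q).2).choose_spec.1
      (isRel_smul a (exists_isRel (ρ := ρ) hp.1 (q : relMod P) q.2).choose_spec.1) ?_
    rw [(exists_isRel (ρ := ρ) hp.1 ((r • q : relKer P) : relMod P) (r • q).2).choose_spec.2]
    rw [mapRange_red_smul', (exists_isRel (ρ := ρ) hp.1 (q : relMod P) q.2).choose_spec.2, ha]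
    rfl

lemma phi0_eq (q : relKer P) {Q : σ →₀ MvPolynomial ι C'} (hQ : IsRel ρ p Q)
    (h : Q.mapRange (red C') (map_zero _) = (q : relMod P)) : phi0 hp hF' l q = val P l F' Q :=
  val_congr hp hF' l (exists_isRel (ρ := ρ) hp.1 (q : relMod P) q.2).choose_spec.1 hQ
    ((exists_isRel (ρ := ρ) hp.1 (q : relMod P) q.2).choose_spec.2.trans h.symm)

lemma phi0_trivial (a b : relMod P) (hab : jmap P a • b - jmap P b • a ∈ relKer P) :
    phi0 hp hF' l ⟨jmap P a • b - jmap P b • a, hab⟩ = 0 := by
  obtain ⟨a', ha'⟩ := Rep.exists_lift_finsupp (C := C') (ι := ι) a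
  obtain ⟨b', hb'⟩ := Rep.exists_lift_finsupp (C := C') (ι := ι) b
  have hev : ev' F' (ev' F' a' • b' - ev' F' b' • a') = 0 := by
    rw [map_sub, map_smul, map_smul, smul_eq_mul, smul_eq_mul, mul_comm, sub_self]
  have hrel : IsRel ρ p (ev' F' a' • b' - ev' F' b' • a') := by
    unfold IsRel
    rw [← mp_ev' hF', hev, map_zero]
  have hred : (ev' F' a' • b' - ev' F' b' • a').mapRange (red C') (map_zero _) = jmap P a • b - jmap P b • a := by
    refine Eq.trans ?_ (triv_eq P a b)
    rw [Finsupp.mapRange_sub (map_sub _), mapRange_red_smul', mapRange_red_smul', red_ev' hF', red_ev' hF',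
      ha', hb']
  rw [phi0_eq hp hF' l _ hrel hred, val, hev, map_zero, map_zero]

/-- The obstruction cocycle on the second term of the cotangent complex. -/
noncomputable def phi : L2 P →ₗ[B₀] B₀ := liftL2 P (phi0 hp hF' l) (phi0_trivial hp hF' l)

lemma phi_mk (q : relKer P) {Q : σ →₀ MvPolynomial ι C'} (hQ : IsRel ρ p Q)
    (h : Q.mapRange (red C') (map_zero _) = (q : relMod P)) :
    phi hp hF' l (Submodule.Quotient.mk (1 ⊗ₜ q)) = val P l F' Q := by
  rw [phi, liftL2_mk, one_mul, phi0_eq hp hF' l q hQ h]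

lemma exists_isRel' (hp : IsSemismallExt p) (q : relKer P) :
    ∃ Q : σ →₀ MvPolynomial ι C', IsRel ρ p Q ∧ Q.mapRange (red C') (map_zero _) = (q : relMod P) :=
  exists_isRel hp.1 (q : relMod P) q.2

/-- The obstruction class for a functional. -/
noncomputable def ob : T2 P B₀ := toT2 P B₀ (phi hp hF' l)

/-- The obstruction class does not depend on the lifted equations, and only depends on the functional on the kernel. -/
theorem ob_congr {F'' : σ → MvPolynomial ι C'} (hF'' : IsLift ρ p F'') {l l' : C' →ₗ[k] k}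
    (h : ∀ j, p j = 0 → l j = l' j) : ob hp hF' l = ob hp hF'' l' := by
  refine (Submodule.Quotient.eq _).2 ?_
  refine ⟨(L1basis P).constr B₀ (fun s => - evB P (lam l' (F'' s - F' s))), ?_⟩
  refine L2_ext P fun q => ?_
  obtain ⟨Q, hQ, hq⟩ := exists_isRel' (ρ := ρ) hp q
  rw [d2Star_apply, LinearMap.comp_apply, d2_mk_tmul, LinearMap.sub_apply, phi_mk hp hF' l q hQ hq,
    phi_mk hp hF'' l' q hQ hq, val_congr_left hF' h hQ, val_change hp hF' hF'' l' Q, ← sub_sub, sub_self, zero_sub, hq]
  simp only [one_tmul_eq_sum, Finsupp.sum, map_sum, ← Finset.sum_neg_distrib]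
  refine Finset.sum_congr rfl fun s _ => ?_
  rw [map_smul, Module.Basis.constr_basis, smul_eq_mul, mul_neg, algebraMap_eq_evB]
  rfl

lemma phi_add (l l' : C' →ₗ[k] k) : phi hp hF' (l + l') = phi hp hF' l + phi hp hF' l' := by
  refine L2_ext P fun q => ?_
  obtain ⟨Q, hQ, hq⟩ := exists_isRel' (ρ := ρ) hp q
  rw [LinearMap.add_apply, phi_mk hp hF' _ q hQ hq, phi_mk hp hF' _ q hQ hq, phi_mk hp hF' _ q hQ hq, val_add_left]

lemma phi_smul (c : k) (l : C' →ₗ[k] k) : phi hp hF' (c • l) = c • phi hp hF' l := by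
  refine L2_ext P fun q => ?_
  obtain ⟨Q, hQ, hq⟩ := exists_isRel' (ρ := ρ) hp q
  rw [LinearMap.smul_apply, phi_mk hp hF' _ q hQ hq, phi_mk hp hF' _ q hQ hq, val_smul_left]

lemma ob_add (l l' : C' →ₗ[k] k) : ob hp hF' (l + l') = ob hp hF' l + ob hp hF' l' := by
  rw [ob, phi_add, map_add]; rfl

lemma ob_smul (c : k) (l : C' →ₗ[k] k) : ob hp hF' (c • l) = c • ob hp hF' l := by
  rw [ob, phi_smul, ob]
  rfl

end Cocycle

end K681.AffRep
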