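import Groth.Agent.Deform.K681.AffObs
import Groth.Prelude.Def_ArtFun4

/-!
# The obstruction theory `T²` for the deformation functor of an affine scheme
-/

set_option autoImplicit false

universe u

open CategoryTheory MvPolynomial TensorProduct AlgebraicGeometry

namespace K681.AffRep

open ArtFun ArtFun.Art CotT

variable {k : Type u} [Field k] {B₀ : Type u} [CommRing B₀] [Algebra k B₀] {ι σ : Type u}
variable {P : Algebra.Presentation k B₀ ι σ} {C' C : Art k k} {p : C' ⟶ C}

section Map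

variable {ρ : Rep P C} {F' : σ → MvPolynomial ι C'}

lemma lam_mp {C'' : Art k k} (π : C' ⟶ C'') (l : C'' →ₗ[k] k) (z : MvPolynomial ι C') :
    lam l (mp π z) = lam (l ∘ₗ π.toAlgHom.toLinearMap) z := by
  ext m
  rw [coeff_lam, coeff_lam, coeff_mp]
  rfl

lemma mp_comp {C₁ C₂ C₃ : Art k k} (f : C₁ ⟶ C₂) (g : C₂ ⟶ C₃) (z : MvPolynomial ι C₁) :
    mp g (mp f z) = mp (f ≫ g) z := by
  ext m
  rw [coeff_mp, coeff_mp, coeff_mp]
  rfl

lemma ev'_mapRange {C'' : Art k k} (π : C' ⟶ C'') (Q : σ →₀ MvPolynomial ι C') :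
    ev' (fun s => mp π (F' s)) (Q.mapRange (mp π) (map_zero _)) = mp π (ev' F' Q) := by
  rw [Finsupp.linearCombination_apply, Finsupp.linearCombination_apply, Finsupp.sum_mapRange_index (by simp),
    Finsupp.sum, Finsupp.sum, map_sum]
  exact Finset.sum_congr rfl fun s _ => by rw [smul_eq_mul, smul_eq_mul, map_mul]

/-- Compatibility of the obstruction cocycle with changing the extension. -/
lemma ob_comp {C'' : Art k k} (π : C' ⟶ C'') (q : C'' ⟶ C) (hπ : π ≫ q = p) (hp : IsSemismallExt p)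
    (hq : IsSemismallExt q) (hF' : IsLift ρ p F') (hF'' : IsLift ρ q (fun s => mp π (F' s))) (l : C'' →ₗ[k] k) :
    ob hq hF'' l = ob hp hF' (l ∘ₗ π.toAlgHom.toLinearMap) := by
  have h : phi hq hF'' l = phi hp hF' (l ∘ₗ π.toAlgHom.toLinearMap) := by
    refine L2_ext P fun r => ?_
    obtain ⟨Q, hQ, hr⟩ := exists_isRel' (ρ := ρ) hp r
    have h1 : IsRel ρ q (Q.mapRange (mp π) (map_zero _)) := by
      unfold IsRel at hQ ⊢
      rw [← hQ]
      congr 1
      ext1 s
      simp only [Finsupp.mapRange_apply, mp_comp, hπ]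
    have h2 : (Q.mapRange (mp π) (map_zero _)).mapRange (red C'') (map_zero _) = (r : relMod P) := by
      rw [← hr]
      exact mapRange_red_mp Q
    rw [phi_mk hq hF'' l r h1 h2, phi_mk hp hF' _ r hQ hr, val, val, ev'_mapRange, lam_mp]
  rw [ob, ob, h]

end Map

section Theory

variable (P)

/-- The functor of deformations of `Spec B₀`. -/
noncomputable abbrev DefB (k : Type u) [Field k] (B₀ : Type u) [CommRing B₀] [Algebra k B₀] : Art k k ⥤ Type (u + 1) :=
  defFunctor (Λ := k) (Spec (CommRingCat.of B₀)) (Spec.map (CommRingCat.ofHom (algebraMap k B₀)))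

lemma exists_rep_cl (u : (DefB k B₀).obj C) : ∃ ρ : Rep P C, ρ.D.toDefSch.cl = u := by
  induction u using Quotient.inductionOn with
  | h ξ =>
    obtain ⟨D, ⟨e⟩⟩ := AlgDef.exists_iso_toDefSch ξ
    obtain ⟨ρ, rfl⟩ := exists_rep (P := P) D
    exact ⟨ρ, Quotient.sound ⟨e.symm⟩⟩

/-- A chosen presentation of a class. -/
noncomputable def repOf (u : (DefB k B₀).obj C) : Rep P C := (exists_rep_cl P u).choose

lemma repOf_cl (u : (DefB k B₀).obj C) : (repOf P u).D.toDefSch.cl = u := (exists_rep_cl P u).choose_spec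

lemma exists_lift_iff (ρ : Rep P C) :
    (∃ D' : AlgDef k B₀ C', Nonempty ((D'.toDefSch.baseChange p).Iso ρ.D.toDefSch)) ↔
      ∃ u' : (DefB k B₀).obj C', (DefB k B₀).map p u' = ρ.D.toDefSch.cl := by
  constructor
  · rintro ⟨D', ⟨e⟩⟩
    refine ⟨D'.toDefSch.cl, ?_⟩
    exact Quotient.sound ⟨e⟩
  · rintro ⟨u', hu'⟩
    induction u' using Quotient.inductionOn with
    | h ξ =>
      obtain ⟨D', ⟨e⟩⟩ := AlgDef.exists_iso_toDefSch ξ
      obtain ⟨e'⟩ := Quotient.exact hu'
      exact ⟨D', ⟨(e.symm.baseChange p).trans e'⟩⟩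

/-- Chosen lifts of the equations. -/
noncomputable def liftOf (ρ : Rep P C) (p : C' ⟶ C) (hp : IsSemismallExt p) : σ → MvPolynomial ι C' :=
  (exists_isLift ρ p hp.1).choose

lemma liftOf_spec (ρ : Rep P C) (p : C' ⟶ C) (hp : IsSemismallExt p) : IsLift ρ p (liftOf P ρ p hp) :=
  (exists_isLift ρ p hp.1).choose_spec

/-- The obstruction element. -/
noncomputable def obsEl (p : C' ⟶ C) (hp : IsSemismallExt p) (u : (DefB k B₀).obj C) :
    T2 P B₀ ⊗[k] (RingHom.ker p.toAlgHom) :=
  haveI := finite_ker hp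
  TensorDual.ofDual (obLin hp (liftOf_spec P (repOf P u) p hp))

lemma contr_obsEl (p : C' ⟶ C) (hp : IsSemismallExt p) (u : (DefB k B₀).obj C)
    (l : Module.Dual k (RingHom.ker p.toAlgHom)) :
    TensorDual.contr l (obsEl P p hp u) = obLin hp (liftOf_spec P (repOf P u) p hp) l := by
  have := finite_ker hp
  exact TensorDual.contr_ofDual _ _

theorem obsEl_eq_zero_iff (p : C' ⟶ C) (hp : IsSemismallExt p) (u : (DefB k B₀).obj C) :
    obsEl P p hp u = 0 ↔ ∃ u' : (DefB k B₀).obj C', (DefB k B₀).map p u' = u := by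
  have := finite_ker hp
  rw [obsEl, TensorDual.ofDual_eq_zero_iff, obLin_eq_zero_iff, exists_lift_iff, repOf_cl]

/-- Functionals pulled back along the quotient map of kernels. -/
lemma obLin_quot (ρ : Rep P C) (p : C' ⟶ C) (hp : IsSemismallExt p) (K : Ideal C')
    (hK : K ≤ IsLocalRing.maximalIdeal C') (hKJ : K ≤ RingHom.ker p.toAlgHom)
    (hq : IsSemismallExt (quotFactor hK p hKJ)) (l : Module.Dual k (RingHom.ker (quotFactor hK p hKJ).toAlgHom))
    {F' : σ → MvPolynomial ι C'} (hF' : IsLift ρ p F')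
    {F'' : σ → MvPolynomial ι (quot C' K hK)} (hF'' : IsLift ρ (quotFactor hK p hKJ) F'') :
    obLin hq hF'' l = obLin hp hF' (l ∘ₗ ((kerToQuot hK p hKJ).restrictScalars k)) := by
  have hF3 : IsLift ρ (quotFactor hK p hKJ) (fun s => mp (quotMk C' K hK) (F' s)) := by
    intro s
    rw [mp_comp, quotMk_quotFactor]
    exact hF' s
  rw [obLin_congr hq hF'' hF3]
  rw [obLin_apply hq hF3 l (extL _ l) (fun j hj => extL_apply l j hj),
    ob_comp (quotMk C' K hK) (quotFactor hK p hKJ) (quotMk_quotFactor hK p hKJ) hp hq hF' hF3 _]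
  refine (obLin_apply hp hF' _ _ fun j hj => ?_).symm
  exact extL_apply l _ hj

theorem obsEl_quot (p : C' ⟶ C) (hp : IsSemismallExt p) (K : Ideal C')
    (hK : K ≤ IsLocalRing.maximalIdeal C') (hKJ : K ≤ RingHom.ker p.toAlgHom)
    (hq : IsSemismallExt (quotFactor hK p hKJ)) (u : (DefB k B₀).obj C) :
    obsEl P (quotFactor hK p hKJ) hq u =
      LinearMap.lTensor (T2 P B₀) ((kerToQuot hK p hKJ).restrictScalars k) (obsEl P p hp u) := by
  have h1 := finite_ker hp
  have h2 := finite_ker hq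
  refine TensorDual.lTensor_eq_iff ((kerToQuot hK p hKJ).restrictScalars k) (obsEl P p hp u) _ fun l => ?_
  exact (contr_obsEl P _ hq u l).trans ((obLin_quot P _ p hp K hK hKJ hq l _ _).trans
    (contr_obsEl P p hp u _).symm)

/-- `T²` is an obstruction theory for `Def_{B₀}`. -/
noncomputable def obsTheory : ObsTheory (DefB k B₀) (T2 P B₀) where
  obs p hp u := obsEl P p hp u
  obs_eq_zero_iff p hp u := obsEl_eq_zero_iff P p hp u
  obs_quot p hp K hK hKJ hq u := obsEl_quot P p hp K hK hKJ hq u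

end Theory

end K681.AffRep
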