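import Mathlib.RingTheory.Flat.Equalizer
import Mathlib.RingTheory.Flat.Basic

/-!
# The kernel of a surjection between flat modules is flat
-/

set_option autoImplicit false

universe u

namespace K681.FlatKer

variable {A : Type u} [CommRing A]

/-- The kernel of a surjection between flat modules is flat. -/
theorem flat_of_exact {K M N : Type u} [AddCommGroup K] [AddCommGroup M] [AddCommGroup N]
    [Module A K] [Module A M] [Module A N] [Module.Flat A M] [Module.Flat A N]
    (g : K →ₗ[A] M) (f : M →ₗ[A] N) (hg : Function.Injective g) (hf : Function.Surjective f)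
    (H : Function.Exact g f) : Module.Flat A K := by
  rw [Module.Flat.iff_lTensor_preserves_injective_linearMap]
  intro N N' _ _ _ _ h hh
  have h1 : Function.Injective (h.lTensor M) :=
    Module.Flat.lTensor_preserves_injective_linearMap h hh
  have h2 : Function.Injective (g.rTensor N) := by
    rw [← LinearMap.lTensor_inj_iff_rTensor_inj]
    exact LinearMap.lTensor_injective_of_exact_of_flat f hf g hg H N
  have h3 : (g.rTensor N') ∘ₗ (h.lTensor K) = (h.lTensor M) ∘ₗ (g.rTensor N) := by
    ext x y
    simp
  have h4 : Function.Injective ((g.rTensor N') ∘ₗ (h.lTensor K)) := by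
    rw [h3]
    exact h1.comp h2
  rw [LinearMap.coe_comp] at h4
  exact Function.Injective.of_comp h4

/-- The kernel of a surjection between flat modules is flat. -/
theorem flat_ker {M N : Type u} [AddCommGroup M] [AddCommGroup N]
    [Module A M] [Module A N] [Module.Flat A M] [Module.Flat A N]
    (f : M →ₗ[A] N) (hf : Function.Surjective f) : Module.Flat A (LinearMap.ker f) :=
  flat_of_exact (LinearMap.ker f).subtype f Subtype.val_injective hf (LinearMap.exact_subtype_ker_map f)

end K681.FlatKer
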