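import Groth.Agent.Deform.K681.AlgDef
import Groth.Prelude.Def_CotT
import Groth.Agent.Deform.K681.FlatKer

/-!
# Presentations of deformations of an algebra

`P` is a presentation of the `k`-algebra `B₀`, `R = k[x]` its polynomial ring, `f` its relations.  A deformation `D` of
`B₀` over the Artinian ring `C` is presented as `C[x] / (F)` with `F` lifting `f`; the relations among the `f` lift to
relations among the `F`.
-/

set_option autoImplicit false

universe u

open CategoryTheory MvPolynomial

namespace K681.AffRep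

open ArtFun ArtFun.Art CotT

section Reduction

variable {k : Type u} [Field k] {ι : Type u}

/-- Reduction of the coefficients to the residue field. -/
noncomputable def red (C : Art k k) : MvPolynomial ι C →+* MvPolynomial ι k := MvPolynomial.map C.res.toRingHom

/-- Change of coefficients along a morphism. -/
noncomputable def mp {C' C : Art k k} (p : C' ⟶ C) : MvPolynomial ι C' →+* MvPolynomial ι C :=
  MvPolynomial.map p.toAlgHom.toRingHom

lemma red_surjective (C : Art k k) : Function.Surjective (red (ι := ι) C) :=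
  MvPolynomial.map_surjective _ C.res_surjective

lemma mp_surjective {C' C : Art k k} (p : C' ⟶ C) (hp : Function.Surjective p) :
    Function.Surjective (mp (ι := ι) p) :=
  MvPolynomial.map_surjective _ hp

@[simp] lemma red_mp {C' C : Art k k} (p : C' ⟶ C) (z : MvPolynomial ι C') : red C (mp p z) = red C' z := by
  rw [red, mp, MvPolynomial.map_map]
  congr 1
  congr 1
  ext a
  exact res_app p a

lemma coeff_red (C : Art k k) (z : MvPolynomial ι C) (m : ι →₀ ℕ) : coeff m (red C z) = C.res (coeff m z) :=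
  MvPolynomial.coeff_map _ _ _

lemma coeff_mp {C' C : Art k k} (p : C' ⟶ C) (z : MvPolynomial ι C') (m : ι →₀ ℕ) :
    coeff m (mp p z) = p (coeff m z) :=
  MvPolynomial.coeff_map _ _ _

lemma red_smul (C : Art k k) (a : C) (z : MvPolynomial ι C) : red C (a • z) = C.res a • red C z := by
  ext m
  rw [coeff_red, coeff_smul, coeff_smul, coeff_red, smul_eq_mul, smul_eq_mul, map_mul]

lemma mp_smul {C' C : Art k k} (p : C' ⟶ C) (a : C') (z : MvPolynomial ι C') : mp p (a • z) = p a • mp p z := by
  ext m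
  rw [coeff_mp, coeff_smul, coeff_smul, coeff_mp, smul_eq_mul, smul_eq_mul, map_mul]

/-- An element of `C[x]` reduces to zero iff it is in `m_C C[x]`. -/
lemma red_eq_zero_iff (C : Art k k) (z : MvPolynomial ι C) :
    red C z = 0 ↔ z ∈ IsLocalRing.maximalIdeal C • (⊤ : Submodule C (MvPolynomial ι C)) := by
  constructor
  · intro h
    rw [← MvPolynomial.support_sum_monomial_coeff z]
    refine Submodule.sum_mem _ fun m _ => ?_
    have h1 : monomial m (coeff m z) = coeff m z • monomial m (1 : C) := by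
      rw [smul_monomial, smul_eq_mul, mul_one]
    rw [h1]
    refine Submodule.smul_mem_smul ?_ trivial
    rw [mem_maximalIdeal_iff, ← coeff_red, h, coeff_zero]
  · intro h
    induction h using Submodule.smul_induction_on' with
    | smul a ha y _ => rw [red_smul, (mem_maximalIdeal_iff C a).1 ha, zero_smul]
    | add x _ y _ hx hy => rw [map_add, hx, hy, add_zero]

end Reduction

variable {k : Type u} [Field k] {B₀ : Type u} [CommRing B₀] [Algebra k B₀] {ι σ : Type u}

/-- Evaluation of `k[x]` in `B₀`. -/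
noncomputable abbrev evB (P : Algebra.Presentation k B₀ ι σ) : MvPolynomial ι k →ₐ[k] B₀ := aeval P.val

lemma evB_surjective (P : Algebra.Presentation k B₀ ι σ) : Function.Surjective (evB P) := P.aeval_val_surjective

lemma evB_relation (P : Algebra.Presentation k B₀ ι σ) (s : σ) : evB P (P.relation s) = 0 :=
  P.aeval_val_relation s

lemma exists_of_evB_eq_zero (P : Algebra.Presentation k B₀ ι σ) (r : MvPolynomial ι k) (h : evB P r = 0) :
    ∃ c : σ →₀ MvPolynomial ι k, Finsupp.linearCombination _ P.relation c = r := by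
  have h1 : r ∈ P.ker := by
    rw [Algebra.Generators.ker_eq_ker_aeval_val]
    exact h
  rw [← P.span_range_relation_eq_ker] at h1
  exact (Finsupp.mem_span_range_iff_exists_finsupp).1 h1 |>.imp fun c hc => by
    rw [Finsupp.linearCombination_apply]; exact hc

variable (P : Algebra.Presentation k B₀ ι σ) (C : Art k k)

/-- A presentation of a deformation of `B₀` over `C` lifting the presentation `P`. -/
structure Rep where
  /-- the deformation -/
  D : AlgDef k B₀ C
  /-- the surjection from the polynomial ring -/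
  θ : MvPolynomial ι C →ₐ[C] D.carrier
  hθ : ∀ z, D.π (θ z) = evB P (red C z)
  /-- the lifted equations -/
  F : σ → MvPolynomial ι C
  hF : ∀ s, θ (F s) = 0
  hred : ∀ s, red C (F s) = P.relation s

variable {P C}

lemma mem_smul_top_iff_π (D : AlgDef k B₀ C) (y : D.carrier) :
    D.π y = 0 ↔ y ∈ IsLocalRing.maximalIdeal C • (⊤ : Submodule C D.carrier) := by
  rw [← RingHom.mem_ker, D.ker, Ideal.smul_top_eq_map]
  rfl

section Theta

variable (D : AlgDef k B₀ C) (θ : MvPolynomial ι C →ₐ[C] D.carrier) (hθ : ∀ z, D.π (θ z) = evB P (red C z))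

include hθ

theorem θ_surjective : Function.Surjective θ := by
  refine FlatNil.surjective_of_nilpotent (IsLocalRing.maximalIdeal C) (isNilpotent_maximalIdeal C) θ.toLinearMap ?_
  intro d
  obtain ⟨r, hr⟩ := evB_surjective P (D.π d)
  obtain ⟨z, rfl⟩ := red_surjective C r
  refine ⟨z, (mem_smul_top_iff_π D _).1 ?_⟩
  change D.π (d - θ z) = 0
  rw [map_sub, hθ, hr, sub_self]

theorem exists_lift_kernel (r : MvPolynomial ι k) (hr : evB P r = 0) : ∃ z, θ z = 0 ∧ red C z = r := by
  obtain ⟨z, rfl⟩ := red_surjective C r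
  have h1 : θ z ∈ IsLocalRing.maximalIdeal C • (⊤ : Submodule C D.carrier) := by
    rw [← mem_smul_top_iff_π, hθ, hr]
  have h2 : (IsLocalRing.maximalIdeal C • (⊤ : Submodule C D.carrier)) =
      (IsLocalRing.maximalIdeal C • (⊤ : Submodule C (MvPolynomial ι C))).map θ.toLinearMap := by
    rw [Submodule.map_smul'', Submodule.map_top, LinearMap.range_eq_top.2 (θ_surjective D θ hθ)]
  rw [h2] at h1
  obtain ⟨w, hw, hw'⟩ := h1
  refine ⟨z - w, ?_, ?_⟩
  · rw [map_sub, sub_eq_zero]
    exact hw'.symm
  · rw [map_sub, (red_eq_zero_iff C w).2 hw, sub_zero]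

end Theta

/-- Every deformation has a presentation lifting `P`. -/
theorem exists_rep (D : AlgDef k B₀ C) : ∃ ρ : Rep P C, ρ.D = D := by
  choose b hb using fun i => D.surj (P.val i)
  let θ : MvPolynomial ι C →ₐ[C] D.carrier := aeval b
  have hθ : ∀ z, D.π (θ z) = evB P (red C z) := by
    intro z
    have : D.π.comp θ.toRingHom = (evB P).toRingHom.comp (red C) := by
      refine MvPolynomial.ringHom_ext ?_ ?_
      · intro a
        have h1 : θ (MvPolynomial.C a) = algebraMap C D.carrier a := θ.commutes a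
        change D.π (θ (MvPolynomial.C a)) = evB P (red C (MvPolynomial.C a))
        rw [h1, D.comp, red, MvPolynomial.map_C]
        exact ((evB P).commutes _).symm
      · intro i
        change D.π (θ (X i)) = evB P (red C (X i))
        rw [red, MvPolynomial.map_X, aeval_X, aeval_X, hb]
    exact RingHom.congr_fun this z
  choose F hF using fun s => exists_lift_kernel D θ hθ (P.relation s) (evB_relation P s)
  exact ⟨⟨D, θ, hθ, F, fun s => (hF s).1, fun s => (hF s).2⟩, rfl⟩

namespace Rep

variable (ρ : Rep P C)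

/-- Evaluation at the equations. -/
noncomputable abbrev ev : (σ →₀ MvPolynomial ι C) →ₗ[MvPolynomial ι C] MvPolynomial ι C :=
  Finsupp.linearCombination _ ρ.F

lemma θ_ev (c : σ →₀ MvPolynomial ι C) : ρ.θ (ρ.ev c) = 0 := by
  rw [ev, Finsupp.linearCombination_apply, Finsupp.sum, map_sum]
  exact Finset.sum_eq_zero fun s _ => by rw [smul_eq_mul, map_mul, ρ.hF, mul_zero]

/-- The kernel of `θ` as a `C`-submodule. -/
noncomputable def K : Submodule C (MvPolynomial ι C) := LinearMap.ker ρ.θ.toLinearMap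

lemma mem_K (z : MvPolynomial ι C) : z ∈ ρ.K ↔ ρ.θ z = 0 := Iff.rfl

lemma mem_smul_K {z : MvPolynomial ι C} (h : ρ.θ z = 0) (h' : red C z = 0) : z ∈ IsLocalRing.maximalIdeal C • ρ.K :=
  FlatNil.mem_smul_ker (IsLocalRing.maximalIdeal C) ρ.θ.toLinearMap (θ_surjective ρ.D ρ.θ ρ.hθ) h
    ((red_eq_zero_iff C z).1 h')

/-- `ev` with values in `K`, over `C`. -/
noncomputable def evK : (σ →₀ MvPolynomial ι C) →ₗ[C] ρ.K :=
  LinearMap.codRestrict ρ.K (ρ.ev.restrictScalars C) (fun c => ρ.θ_ev c)

lemma coe_evK (c : σ →₀ MvPolynomial ι C) : (ρ.evK c : MvPolynomial ι C) = ρ.ev c := rfl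

lemma red_ev (c : σ →₀ MvPolynomial ι C) :
    red C (ρ.ev c) = Finsupp.linearCombination _ P.relation (c.mapRange (red C) (map_zero _)) := by
  rw [ev, Finsupp.linearCombination_apply, Finsupp.linearCombination_apply, Finsupp.sum_mapRange_index (by simp),
    Finsupp.sum, Finsupp.sum, map_sum]
  exact Finset.sum_congr rfl fun s _ => by rw [smul_eq_mul, map_mul, ρ.hred, smul_eq_mul]

lemma exists_lift_finsupp (q : σ →₀ MvPolynomial ι k) : ∃ Q : σ →₀ MvPolynomial ι C, Q.mapRange (red C) (map_zero _) = q :=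
  Finsupp.mapRange_surjective _ (map_zero _) (red_surjective C) q

theorem evK_surjective : Function.Surjective ρ.evK := by
  refine FlatNil.surjective_of_nilpotent (IsLocalRing.maximalIdeal C) (isNilpotent_maximalIdeal C) _ ?_
  rintro ⟨z, hz⟩
  have h1 : evB P (red C z) = 0 := by rw [← ρ.hθ, (ρ.mem_K z).1 hz, map_zero]
  obtain ⟨q, hq⟩ := exists_of_evB_eq_zero P _ h1
  obtain ⟨Q, rfl⟩ := exists_lift_finsupp (C := C) q
  refine ⟨Q, ?_⟩
  rw [Submodule.mem_smul_top_iff]
  change z - ρ.ev Q ∈ _
  refine ρ.mem_smul_K ?_ ?_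
  · rw [map_sub, ρ.θ_ev, (ρ.mem_K z).1 hz, sub_zero]
  · rw [map_sub, red_ev, hq, sub_self]

theorem exists_ev_eq {z : MvPolynomial ι C} (hz : ρ.θ z = 0) : ∃ c, ρ.ev c = z := by
  obtain ⟨c, hc⟩ := ρ.evK_surjective ⟨z, hz⟩
  exact ⟨c, congrArg Subtype.val hc⟩

lemma mapRange_red_smul (a : C) (c : σ →₀ MvPolynomial ι C) :
    (a • c).mapRange (red C) (map_zero _) = C.res a • c.mapRange (red C) (map_zero _) := by
  ext1 s
  rw [Finsupp.mapRange_apply, Finsupp.smul_apply, Finsupp.smul_apply, Finsupp.mapRange_apply, red_smul]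

lemma mapRange_red_eq_zero {c : σ →₀ MvPolynomial ι C}
    (hc : c ∈ IsLocalRing.maximalIdeal C • (⊤ : Submodule C (σ →₀ MvPolynomial ι C))) :
    c.mapRange (red C) (map_zero _) = 0 := by
  induction hc using Submodule.smul_induction_on' with
  | smul a ha y _ => rw [mapRange_red_smul, (mem_maximalIdeal_iff C a).1 ha, zero_smul]
  | add x _ y _ hx hy => rw [Finsupp.mapRange_add (map_add _), hx, hy, add_zero]

/-- Relations among the `f` lift to relations among the `F`. -/
theorem exists_lift_relation (q : σ →₀ MvPolynomial ι k) (hq : Finsupp.linearCombination _ P.relation q = 0) :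
    ∃ Q : σ →₀ MvPolynomial ι C, Q.mapRange (red C) (map_zero _) = q ∧ ρ.ev Q = 0 := by
  obtain ⟨Q, hQ⟩ := exists_lift_finsupp (C := C) q
  have h1 : ρ.ev Q ∈ IsLocalRing.maximalIdeal C • ρ.K := by
    refine ρ.mem_smul_K (ρ.θ_ev Q) ?_
    rw [red_ev, hQ, hq]
  have h2 : ρ.K = Submodule.map (ρ.ev.restrictScalars C) ⊤ := by
    apply le_antisymm
    · intro z hz
      obtain ⟨c, rfl⟩ := ρ.exists_ev_eq ((ρ.mem_K z).1 hz)
      exact ⟨c, trivial, rfl⟩
    · rintro _ ⟨c, _, rfl⟩
      exact ρ.θ_ev c
  rw [h2, ← Submodule.map_smul''] at h1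
  obtain ⟨c, hc, hc'⟩ := h1
  refine ⟨Q - c, ?_, ?_⟩
  · rw [Finsupp.mapRange_sub (map_sub _), hQ, mapRange_red_eq_zero hc, sub_zero]
  · rw [map_sub, sub_eq_zero]
    exact hc'.symm

instance flat_K : Module.Flat C ρ.K :=
  FlatKer.flat_ker ρ.θ.toLinearMap (θ_surjective ρ.D ρ.θ ρ.hθ)

lemma mem_smul_top_of_mapRange_red_eq_zero {c : σ →₀ MvPolynomial ι C} (hc : c.mapRange (red C) (map_zero _) = 0) :
    c ∈ IsLocalRing.maximalIdeal C • (⊤ : Submodule C (σ →₀ MvPolynomial ι C)) := by
  rw [← Finsupp.sum_single c]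
  refine Submodule.sum_mem _ fun s _ => ?_
  have h1 : red C (c s) = 0 := by
    have := DFunLike.congr_fun hc s
    rwa [Finsupp.mapRange_apply] at this
  have h2 := (red_eq_zero_iff C _).1 h1
  have h3 : (IsLocalRing.maximalIdeal C • (⊤ : Submodule C (MvPolynomial ι C))).map
      ((Finsupp.lsingle s : MvPolynomial ι C →ₗ[C] (σ →₀ MvPolynomial ι C))) ≤
      IsLocalRing.maximalIdeal C • (⊤ : Submodule C (σ →₀ MvPolynomial ι C)) := by
    rw [Submodule.map_smul'']
    exact Submodule.smul_mono le_rfl le_top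
  exact h3 ⟨_, h2, rfl⟩

/-- A relation among the `F` reducing to zero is a combination of relations with coefficients in the maximal ideal. -/
theorem exists_sum_relation (Q : σ →₀ MvPolynomial ι C) (hQ : Q.mapRange (red C) (map_zero _) = 0) (hQ' : ρ.ev Q = 0) :
    Q ∈ IsLocalRing.maximalIdeal C • LinearMap.ker (ρ.ev.restrictScalars C) := by
  have h1 : LinearMap.ker ρ.evK = LinearMap.ker (ρ.ev.restrictScalars C) := by
    ext c
    rw [LinearMap.mem_ker, LinearMap.mem_ker, Subtype.ext_iff]
    rfl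
  rw [← h1]
  refine FlatNil.mem_smul_ker _ ρ.evK ρ.evK_surjective ?_ (mem_smul_top_of_mapRange_red_eq_zero hQ)
  exact Subtype.ext hQ'

end Rep

end K681.AffRep
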