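import Groth.Agent.Deform.K681.AffObsTh
import Groth.Agent.ArtFun.K724.Dual

/-!
# First-order deformations of an algebra and `T¹`
-/

set_option autoImplicit false

universe u

open CategoryTheory MvPolynomial TensorProduct AlgebraicGeometry

namespace K681.AffRep

open ArtFun ArtFun.Art CotT

variable {k : Type u} [Field k] {B₀ : Type u} [CommRing B₀] [Algebra k B₀] {ι σ : Type u}
variable {P : Algebra.Presentation k B₀ ι σ} {C' C : Art k k} {p : C' ⟶ C}

local notation "RR" => P.toExtension.Ring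

section DerFun

/-- A functional on `C` which is a derivation over the augmentation. -/
def IsDer (l : C →ₗ[k] k) : Prop := ∀ a b : C, l (a * b) = C.res a * l b + C.res b * l a

lemma IsDer.one {l : C →ₗ[k] k} (hl : IsDer l) : l 1 = 0 := by
  have h := hl 1 1
  have h1 : C.res 1 = 1 := map_one _
  rw [mul_one, h1, one_mul] at h
  linear_combination -h

lemma IsDer.algebraMap {l : C →ₗ[k] k} (hl : IsDer l) (c : k) : l (algebraMap k C c) = 0 := by
  rw [Algebra.algebraMap_eq_smul_one, map_smul, hl.one, smul_zero]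

lemma lam_mul_of_isDer {l : C →ₗ[k] k} (hl : IsDer l) (z w : MvPolynomial ι C) :
    lam l (z * w) = red C z * lam l w + red C w * lam l z := by
  classical
  ext n
  rw [coeff_lam, coeff_add, coeff_mul, coeff_mul, mul_comm (red C w), coeff_mul, map_sum, ← Finset.sum_add_distrib]
  refine Finset.sum_congr rfl fun x _ => ?_
  rw [hl, coeff_red, coeff_lam, coeff_red, coeff_lam, mul_comm (l (coeff x.1 z))]

lemma lam_C (l : C →ₗ[k] k) (a : C) : lam l (MvPolynomial.C a : MvPolynomial ι C) = MvPolynomial.C (l a) := by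
  classical
  ext n
  rw [coeff_lam, coeff_C, coeff_C]
  split_ifs
  · rfl
  · rw [map_zero]

lemma lam_X {l : C →ₗ[k] k} (hl : IsDer l) (i : ι) : lam l (X i : MvPolynomial ι C) = 0 := by
  classical
  ext n
  rw [coeff_lam, coeff_X, coeff_zero]
  split_ifs
  · exact hl.one
  · rw [map_zero]

lemma lam_smul_of_isDer {l : C →ₗ[k] k} (hl : IsDer l) (a : C) (z : MvPolynomial ι C) :
    lam l (a • z) = l a • red C z + C.res a • lam l z := by
  ext n
  rw [coeff_lam, coeff_smul, smul_eq_mul, hl, coeff_add, coeff_smul, coeff_smul, coeff_red, coeff_lam, smul_eq_mul,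
    smul_eq_mul]
  ring

end DerFun

section Kappa

variable (ρ : Rep P C) (l : C →ₗ[k] k)

/-- The first-order class of a presented deformation along a functional: on the relations. -/
noncomputable def kappa : L1 P →ₗ[B₀] B₀ := (L1basis P).constr B₀ (fun s => evB P (lam l (ρ.F s)))

lemma kappa_basis (s : σ) : kappa ρ l (L1basis P s) = evB P (lam l (ρ.F s)) := (L1basis P).constr_basis _ _ _

lemma kappa_add (l' : C →ₗ[k] k) : kappa ρ (l + l') = kappa ρ l + kappa ρ l' := by
  refine (L1basis P).ext fun s => ?_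
  rw [LinearMap.add_apply, kappa_basis, kappa_basis, kappa_basis, lam_add_left, map_add]

lemma kappa_smul (c : k) : kappa ρ (c • l) = c • kappa ρ l := by
  refine (L1basis P).ext fun s => ?_
  rw [LinearMap.smul_apply, kappa_basis, kappa_basis, lam_smul_left, map_smul]

lemma apply_one_tmul (ψ : L1 P →ₗ[B₀] B₀) (q : relMod P) :
    ψ (1 ⊗ₜ[RR] q) = q.sum fun s r => evB P r * ψ (L1basis P s) := by
  rw [one_tmul_eq_sum, Finsupp.sum, Finsupp.sum, map_sum]
  refine Finset.sum_congr rfl fun s _ => ?_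
  rw [map_smul, smul_eq_mul, algebraMap_eq_evB]

variable {l}

/-- evaluation of `lam l` at combinations of the equations. -/
lemma evB_lam_ev' (hl : IsDer l) (F : σ → MvPolynomial ι C) (hF : ∀ s, red C (F s) = P.relation s)
    (Q : σ →₀ MvPolynomial ι C) :
    evB P (lam l (ev' F Q)) =
      (Q.mapRange (red C) (map_zero _)).sum fun s r => evB P r * evB P (lam l (F s)) := by
  rw [Finsupp.linearCombination_apply, Finsupp.sum_mapRange_index (by simp), Finsupp.sum, Finsupp.sum, map_sum, map_sum]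
  refine Finset.sum_congr rfl fun s _ => ?_
  rw [smul_eq_mul, lam_mul_of_isDer hl, map_add, map_mul, map_mul, hF, evB_relation, zero_mul, add_zero]

lemma kappa_mem (hl : IsDer l) : kappa ρ l ∈ cocycles1 P B₀ := by
  rw [LinearMap.mem_ker, d2Star_apply]
  refine L2_ext P fun q => ?_
  obtain ⟨Q, hq, hQ⟩ := ρ.exists_lift_relation (q : relMod P) q.2
  rw [LinearMap.comp_apply, d2_mk_tmul, apply_one_tmul, LinearMap.zero_apply]
  simp only [kappa_basis]
  have h := evB_lam_ev' hl ρ.F ρ.hred Q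
  rw [hq, show ev' ρ.F Q = 0 from hQ, map_zero, map_zero] at h
  exact h.symm

/-- The class in `T¹`. -/
noncomputable def ks (hl : IsDer l) : T1 P B₀ := Submodule.Quotient.mk ⟨kappa ρ l, kappa_mem ρ hl⟩

end Kappa

section Compare

variable {l : C →ₗ[k] k}

variable (P) in
/-- The differential of a polynomial in the cotangent complex. -/
noncomputable def dR (r : MvPolynomial ι k) : L0 P := (1 : B₀) ⊗ₜ[RR] (KaehlerDifferential.D k RR r)

lemma dR_add (r s : MvPolynomial ι k) : dR P (r + s) = dR P r + dR P s := by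
  have h : KaehlerDifferential.D k RR ((r : RR) + (s : RR)) =
    KaehlerDifferential.D k RR (r : RR) + KaehlerDifferential.D k RR (s : RR) := map_add _ _ _
  exact (congrArg (fun x => (1 : B₀) ⊗ₜ[RR] x) h).trans (TensorProduct.tmul_add _ _ _)

lemma dR_C (a : k) : dR P (MvPolynomial.C a) = 0 := by
  have h : KaehlerDifferential.D k RR (algebraMap k RR a) = 0 := (KaehlerDifferential.D k RR).map_algebraMap _
  exact (congrArg (fun x => (1 : B₀) ⊗ₜ[RR] x) h).trans (TensorProduct.tmul_zero _ _)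

lemma dR_mul_aux (D₀ : L0 P →ₗ[B₀] B₀) (r s : RR) :
    D₀ ((1 : B₀) ⊗ₜ[RR] KaehlerDifferential.D k RR (r * s)) =
      evB P r * D₀ ((1 : B₀) ⊗ₜ[RR] KaehlerDifferential.D k RR s) +
        evB P s * D₀ ((1 : B₀) ⊗ₜ[RR] KaehlerDifferential.D k RR r) := by
  have h2 : ∀ (r : RR) (x : Ω[RR⁄k]), D₀ ((1 : B₀) ⊗ₜ[RR] (r • x)) = algebraMap RR B₀ r * D₀ (1 ⊗ₜ x) := by
    intro r x
    have h3 : ((1 : B₀) ⊗ₜ[RR] (r • x)) = (algebraMap RR B₀ r) • ((1 : B₀) ⊗ₜ[RR] x) := by
      rw [← TensorProduct.smul_tmul, Algebra.smul_def, mul_one, TensorProduct.smul_tmul', smul_eq_mul, mul_one]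
    rw [h3, map_smul, smul_eq_mul]
  rw [Derivation.leibniz, TensorProduct.tmul_add, map_add, h2, h2, algebraMap_eq_evB, algebraMap_eq_evB]

lemma dR_mul (D₀ : L0 P →ₗ[B₀] B₀) (r s : MvPolynomial ι k) :
    D₀ (dR P (r * s)) = evB P r * D₀ (dR P s) + evB P s * D₀ (dR P r) :=
  dR_mul_aux D₀ r s

/-- The effect of an infinitesimal change of variables. -/
lemma lam_subst (hl : IsDer l) (w : ι → MvPolynomial ι C) (hw : ∀ i, red C (w i) = 0)
    (D₀ : L0 P →ₗ[B₀] B₀) (hD : ∀ i, D₀ (dR P (X i)) = evB P (lam l (w i))) (z : MvPolynomial ι C) :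
    red C (aeval (fun i => X i + w i) z) = red C z ∧
    evB P (lam l (aeval (fun i => X i + w i) z)) = evB P (lam l z) + D₀ (dR P (red C z)) := by
  induction z using MvPolynomial.induction_on with
  | C a =>
    have h1 : aeval (fun i => X i + w i) (MvPolynomial.C a : MvPolynomial ι C) = MvPolynomial.C a := by
      rw [aeval_C]; rfl
    have h2 : dR P (red C (MvPolynomial.C a : MvPolynomial ι C)) = 0 := by
      rw [red, MvPolynomial.map_C]
      exact dR_C _
    refine ⟨by rw [h1], ?_⟩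
    rw [h1, h2, map_zero, add_zero]
  | add z z' h h' =>
    refine ⟨by rw [map_add, map_add, h.1, h'.1, map_add], ?_⟩
    rw [map_add, map_add, map_add, h.2, h'.2, map_add, map_add, map_add, dR_add, map_add]
    ring
  | mul_X z i h =>
    have h1 : red C (X i + w i) = X i := by
      rw [map_add, hw, add_zero, red, MvPolynomial.map_X]
    have h2 : red C (X i : MvPolynomial ι C) = X i := by rw [red, MvPolynomial.map_X]
    refine ⟨by rw [map_mul, map_mul, h.1, aeval_X, h1, map_mul, h2], ?_⟩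
    rw [map_mul, aeval_X, lam_mul_of_isDer hl, h.1, h1, map_add, map_mul, map_mul, h.2, map_add, lam_X hl,
      zero_add, lam_mul_of_isDer hl, lam_X hl, mul_zero, zero_add, map_mul, h2, map_mul, h2, dR_mul, hD]
    ring

lemma d1_basis (s : σ) : d1 P (L1basis P s) = dR P (P.relation s) := by
  rw [L1basis_apply, d1_tmul, one_smul, jmap_single, one_mul]
  rfl

lemma evB_lam_of_mem_smul_K (hl : IsDer l) (ρ : Rep P C) {z : MvPolynomial ι C}
    (hz : z ∈ IsLocalRing.maximalIdeal C • ρ.K) : evB P (lam l z) = 0 := by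
  induction hz using Submodule.smul_induction_on' with
  | smul a ha y hy =>
    have h3 : evB P (red C y) = 0 := by rw [← ρ.hθ, (ρ.mem_K y).1 hy, map_zero]
    rw [lam_smul_of_isDer hl, map_add, map_smul, h3, smul_zero, (mem_maximalIdeal_iff C a).1 ha, zero_smul, map_zero,
      add_zero]
  | add x _ y _ hx hy => rw [map_add, map_add, hx, hy, add_zero]

/-- Two presented deformations with a map between them have the same class. -/
theorem kappa_sub_mem (hl : IsDer l) (ρ ρ' : Rep P C) (e : ρ.D.carrier →ₐ[C] ρ'.D.carrier)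
    (he : ∀ d, ρ'.D.π (e d) = ρ.D.π d) : kappa ρ' l - kappa ρ l ∈ LinearMap.range (d1Star P B₀) := by
  have hw : ∀ i, ∃ w : MvPolynomial ι C, red C w = 0 ∧ ρ'.θ (X i + w) = e (ρ.θ (X i)) := by
    intro i
    have h1 : ρ'.D.π (e (ρ.θ (X i)) - ρ'.θ (X i)) = 0 := by
      rw [map_sub, he, ρ.hθ, ρ'.hθ, sub_self]
    rw [mem_smul_top_iff_π] at h1
    have h2 : (IsLocalRing.maximalIdeal C • (⊤ : Submodule C ρ'.D.carrier)) =
        (IsLocalRing.maximalIdeal C • (⊤ : Submodule C (MvPolynomial ι C))).map ρ'.θ.toLinearMap := by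
      rw [Submodule.map_smul'', Submodule.map_top, LinearMap.range_eq_top.2 (θ_surjective ρ'.D ρ'.θ ρ'.hθ)]
    rw [h2] at h1
    obtain ⟨w, hw, hw'⟩ := h1
    refine ⟨w, (red_eq_zero_iff C w).2 hw, ?_⟩
    rw [map_add]
    have : ρ'.θ w = e (ρ.θ (X i)) - ρ'.θ (X i) := hw'
    rw [this, add_sub_cancel]
  choose w hw1 hw2 using hw
  let D₀ : L0 P →ₗ[B₀] B₀ := P.cotangentSpaceBasis.constr B₀ (fun i => evB P (lam l (w i)))
  have hD : ∀ i, D₀ (dR P (X i)) = evB P (lam l (w i)) := by
    intro i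
    have h1 : dR P (X i) = P.cotangentSpaceBasis i := (P.cotangentSpaceBasis_apply i).symm
    rw [h1]
    exact P.cotangentSpaceBasis.constr_basis _ _ _
  have hθ : ∀ z, ρ'.θ (aeval (fun i => X i + w i) z) = e (ρ.θ z) := by
    intro z
    have h1 : ρ'.θ.comp (aeval (fun i => X i + w i)) = e.comp ρ.θ := by
      refine MvPolynomial.algHom_ext fun i => ?_
      rw [AlgHom.comp_apply, AlgHom.comp_apply, aeval_X, hw2]
    exact AlgHom.congr_fun h1 z
  refine ⟨D₀, ?_⟩
  refine (L1basis P).ext fun s => ?_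
  rw [d1Star_apply, LinearMap.comp_apply, d1_basis, LinearMap.sub_apply, kappa_basis, kappa_basis]
  have h1 := lam_subst hl w hw1 D₀ hD (ρ.F s)
  rw [ρ.hred] at h1
  rw [eq_sub_iff_add_eq, add_comm, ← h1.2, ← sub_eq_zero, ← map_sub, ← map_sub]
  have h2 : aeval (fun i => X i + w i) (ρ.F s) - ρ'.F s ∈ IsLocalRing.maximalIdeal C • ρ'.K := by
    refine ρ'.mem_smul_K ?_ ?_
    · rw [map_sub, hθ, ρ.hF, map_zero, ρ'.hF, sub_zero]
    · rw [map_sub, h1.1, ρ'.hred, sub_self]
  exact evB_lam_of_mem_smul_K hl ρ' h2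

end Compare

end K681.AffRep
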