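import Groth.Agent.Deform.K681.AffT1

/-!
# `Def_{B₀}(k[ε]) ≅ T¹`
-/

set_option autoImplicit false

universe u

open CategoryTheory MvPolynomial TensorProduct AlgebraicGeometry

namespace K681.AffRep

open ArtFun ArtFun.Art CotT

variable {k : Type u} [Field k] {B₀ : Type u} [CommRing B₀] [Algebra k B₀] {ι σ : Type u}
variable {P : Algebra.Presentation k B₀ ι σ} {C' C : Art k k} {p : C' ⟶ C}

local notation "RR" => P.toExtension.Ring

section Push

/-- Push a presentation along a morphism. -/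
theorem exists_push (g : C' ⟶ C) (ρ : Rep P C') :
    ∃ ρ₂ : Rep P C, Nonempty ((ρ.D.toDefSch.baseChange g).Iso ρ₂.D.toDefSch) ∧ ∀ s, ρ₂.F s = mp g (ρ.F s) := by
  obtain ⟨D₂, ⟨e⟩⟩ := AlgDef.exists_iso_toDefSch (ρ.D.toDefSch.baseChange g)
  obtain ⟨χ, hχ, hπ⟩ := AlgDef.exists_ringHom_of_iso g ρ.D D₂ e
  let θ₂ : MvPolynomial ι C →ₐ[C] D₂.carrier := aeval (fun i => χ (ρ.θ (X i)))
  have hθ1 : ∀ z, θ₂ (mp g z) = χ (ρ.θ z) := by
    intro z
    have : θ₂.toRingHom.comp (mp g) = χ.comp ρ.θ.toRingHom := by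
      refine MvPolynomial.ringHom_ext ?_ ?_
      · intro a
        change θ₂ (mp g (MvPolynomial.C a)) = χ (ρ.θ (MvPolynomial.C a))
        rw [mp, MvPolynomial.map_C]
        have h1 : ρ.θ (MvPolynomial.C a) = algebraMap C' ρ.D.carrier a := ρ.θ.commutes a
        rw [h1, hχ]
        exact θ₂.commutes _
      · intro i
        change θ₂ (mp g (X i)) = χ (ρ.θ (X i))
        rw [mp, MvPolynomial.map_X, aeval_X]
    exact RingHom.congr_fun this z
  have hθ₂ : ∀ z, D₂.π (θ₂ z) = evB P (red C z) := by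
    intro z
    have : D₂.π.comp θ₂.toRingHom = (evB P).toRingHom.comp (red C) := by
      refine MvPolynomial.ringHom_ext ?_ ?_
      · intro a
        have h1 : θ₂ (MvPolynomial.C a) = algebraMap C D₂.carrier a := θ₂.commutes a
        change D₂.π (θ₂ (MvPolynomial.C a)) = evB P (red C (MvPolynomial.C a))
        rw [h1, D₂.comp, red, MvPolynomial.map_C]
        exact ((evB P).commutes _).symm
      · intro i
        change D₂.π (θ₂ (X i)) = evB P (red C (X i))
        rw [aeval_X, hπ, ρ.hθ, red, red, MvPolynomial.map_X, MvPolynomial.map_X]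
    exact RingHom.congr_fun this z
  exact ⟨⟨D₂, θ₂, hθ₂, fun s => mp g (ρ.F s), fun s => by rw [hθ1, ρ.hF, map_zero],
    fun s => by rw [red_mp, ρ.hred]⟩, ⟨e⟩, fun _ => rfl⟩

lemma kappa_push {g : C' ⟶ C} {ρ : Rep P C'} {ρ₂ : Rep P C} (h : ∀ s, ρ₂.F s = mp g (ρ.F s)) (l : C →ₗ[k] k) :
    kappa ρ₂ l = kappa ρ (l ∘ₗ g.toAlgHom.toLinearMap) := by
  refine (L1basis P).ext fun s => ?_
  rw [kappa_basis, kappa_basis, h, lam_mp]

end Push

section Dual

/-- The `ε`-coefficient. -/
noncomputable def sndL : (dual k k) →ₗ[k] k where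
  toFun a := TrivSqZeroExt.snd (a : DualNumber k)
  map_add' _ _ := rfl
  map_smul' _ _ := rfl

lemma sndL_apply (a : dual k k) : sndL a = TrivSqZeroExt.snd (a : DualNumber k) := rfl

lemma dual_snd_mul (a b : DualNumber k) : TrivSqZeroExt.snd (a * b) =
    TrivSqZeroExt.fst a * TrivSqZeroExt.snd b + TrivSqZeroExt.fst b * TrivSqZeroExt.snd a := by
  rw [TrivSqZeroExt.snd_mul, op_smul_eq_smul, smul_eq_mul, smul_eq_mul]

lemma dual_mul_eq_zero (a b : DualNumber k) (ha : TrivSqZeroExt.fst a = 0) (hb : TrivSqZeroExt.fst b = 0) :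
    a * b = 0 := by
  refine TrivSqZeroExt.ext ?_ ?_
  · rw [TrivSqZeroExt.fst_mul, TrivSqZeroExt.fst_zero, ha, zero_mul]
  · rw [dual_snd_mul, ha, hb, zero_mul, zero_mul, add_zero]
    rfl

lemma isDer_sndL : IsDer (sndL (k := k)) := fun a b => dual_snd_mul a b

/-- The element `ε`. -/
noncomputable def eps : dual k k := (DualNumber.eps : DualNumber k)

lemma sndL_eps : sndL (eps : dual k k) = 1 := rfl

lemma res_eps : (dual k k).res (eps : dual k k) = 0 := rfl

lemma eq_smul_eps {a : dual k k} (ha : (dual k k).res a = 0) : a = sndL a • (eps : dual k k) := by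
  refine TrivSqZeroExt.ext (x := (a : DualNumber k)) (y := ((sndL a • (eps : dual k k) : dual k k) : DualNumber k)) ?_ ?_
  · refine Eq.trans (show TrivSqZeroExt.fst (a : DualNumber k) = 0 from ha) ?_
    change 0 = sndL a • (0 : k)
    rw [smul_zero]
  · change sndL a = sndL a • (1 : k)
    rw [smul_eq_mul, mul_one]

lemma mul_eq_zero_of_res {a b : dual k k} (ha : (dual k k).res a = 0) (hb : (dual k k).res b = 0) : a * b = 0 :=
  dual_mul_eq_zero a b ha hb

lemma isSemismallExt_toBase : IsSemismallExt (toBase (dual k k)) := by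
  refine ⟨(dual k k).res_surjective, ?_⟩
  rw [eq_bot_iff, Ideal.mul_le]
  intro a ha b hb
  rw [Ideal.mem_bot]
  exact mul_eq_zero_of_res ((mem_maximalIdeal_iff _ a).1 ha) hb

/-- Lift of polynomials with coefficients in the field. -/
noncomputable def up (C : Art k k) : MvPolynomial ι k →+* MvPolynomial ι C := MvPolynomial.map (algebraMap k C)

lemma coeff_up (C : Art k k) (r : MvPolynomial ι k) (m : ι →₀ ℕ) : coeff m (up C r) = algebraMap k C (coeff m r) :=
  MvPolynomial.coeff_map _ _ _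

lemma red_up (C : Art k k) (r : MvPolynomial ι k) : red C (up C r) = r := by
  ext m
  rw [coeff_red, coeff_up, C.res.commutes]
  rfl

lemma lam_up {l : C →ₗ[k] k} (hl : IsDer l) (r : MvPolynomial ι k) : lam l (up C r) = 0 := by
  ext m
  rw [coeff_lam, coeff_up, hl.algebraMap, coeff_zero]

lemma eq_eps_smul {z : MvPolynomial ι (dual k k)} (hz : red (dual k k) z = 0) :
    z = (eps : dual k k) • up (dual k k) (lam sndL z) := by
  ext1 m
  have h1 : (dual k k).res (coeff m z) = 0 := by rw [← coeff_red, hz, coeff_zero]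
  rw [coeff_smul, coeff_up, coeff_lam, smul_eq_mul, mul_comm, ← Algebra.smul_def]
  exact eq_smul_eps h1

lemma eps_smul_eq_zero (D : AlgDef k B₀ (dual k k)) {y : D.carrier} (hy : D.π y = 0) : (eps : dual k k) • y = 0 := by
  rw [mem_smul_top_iff_π] at hy
  induction hy using Submodule.smul_induction_on' with
  | smul a ha y _ =>
    rw [← mul_smul, mul_eq_zero_of_res res_eps ((mem_maximalIdeal_iff _ a).1 ha), zero_smul]
  | add x _ y _ hx hy => rw [smul_add, hx, hy, add_zero]

/-- Deformations over `k[ε]` with the same class are isomorphic. -/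
theorem exists_algHom_of_kappa (ρ ρ' : Rep P (dual k k))
    (h : kappa ρ' sndL - kappa ρ sndL ∈ LinearMap.range (d1Star P B₀)) :
    ∃ e : ρ.D.carrier →ₐ[dual k k] ρ'.D.carrier, ∀ d, ρ'.D.π (e d) = ρ.D.π d := by
  obtain ⟨D₀, hD₀⟩ := h
  choose r hr using fun i => evB_surjective P (D₀ (dR P (X i)))
  let w : ι → MvPolynomial ι (dual k k) := fun i => (eps : dual k k) • up (dual k k) (r i)
  have hw : ∀ i, red (dual k k) (w i) = 0 := fun i => by
    change red _ ((eps : dual k k) • up (dual k k) (r i)) = 0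
    rw [red_smul, res_eps, zero_smul]
  have hD : ∀ i, D₀ (dR P (X i)) = evB P (lam sndL (w i)) := by
    intro i
    change _ = evB P (lam sndL ((eps : dual k k) • up (dual k k) (r i)))
    rw [lam_smul_of_isDer isDer_sndL, sndL_eps, res_eps, zero_smul, add_zero, one_smul, red_up, hr]
  let α : MvPolynomial ι (dual k k) →ₐ[dual k k] MvPolynomial ι (dual k k) := aeval (fun i => X i + w i)
  have hα := fun z => lam_subst isDer_sndL w hw D₀ hD z
  have hF : ∀ s, ρ'.θ (α (ρ.F s)) = 0 := by
    intro s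
    have h1 : red (dual k k) (α (ρ.F s) - ρ'.F s) = 0 := by
      rw [map_sub, (hα (ρ.F s)).1, ρ.hred, ρ'.hred, sub_self]
    have h2 : evB P (lam sndL (α (ρ.F s) - ρ'.F s)) = 0 := by
      have h3 := LinearMap.congr_fun hD₀ (L1basis P s)
      rw [d1Star_apply, LinearMap.comp_apply, d1_basis, LinearMap.sub_apply, kappa_basis, kappa_basis] at h3
      rw [map_sub, map_sub, (hα (ρ.F s)).2, ρ.hred, h3]
      ring
    have h4 : ρ'.θ (α (ρ.F s) - ρ'.F s) = 0 := by
      rw [eq_eps_smul h1, map_smul]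
      refine eps_smul_eq_zero _ ?_
      rw [ρ'.hθ, red_up, h2]
    rw [map_sub, ρ'.hF, sub_zero] at h4
    exact h4
  have hker : ∀ z, ρ.θ z = 0 → ρ'.θ (α z) = 0 := by
    intro z hz
    obtain ⟨c, rfl⟩ := ρ.exists_ev_eq hz
    rw [Rep.ev, Finsupp.linearCombination_apply, Finsupp.sum, map_sum, map_sum]
    refine Finset.sum_eq_zero fun s _ => ?_
    rw [smul_eq_mul, map_mul, map_mul, hF, mul_zero]
  have hsurj := θ_surjective ρ.D ρ.θ ρ.hθ
  let q : (MvPolynomial ι (dual k k) ⧸ RingHom.ker ρ.θ) ≃ₐ[dual k k] ρ.D.carrier :=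
    Ideal.quotientKerAlgEquivOfSurjective hsurj
  let f : (MvPolynomial ι (dual k k) ⧸ RingHom.ker ρ.θ) →ₐ[dual k k] ρ'.D.carrier :=
    Ideal.Quotient.liftₐ (RingHom.ker ρ.θ) (ρ'.θ.comp α) (fun z hz => hker z hz)
  have he : ∀ z, (f.comp q.symm.toAlgHom) (ρ.θ z) = ρ'.θ (α z) := by
    intro z
    have h1 : q.symm (ρ.θ z) = Ideal.Quotient.mk _ z := by
      rw [AlgEquiv.symm_apply_eq]
      rfl
    change f (q.symm (ρ.θ z)) = _
    rw [h1]
    rfl
  refine ⟨f.comp q.symm.toAlgHom, fun d => ?_⟩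
  obtain ⟨z, rfl⟩ := hsurj d
  rw [he, ρ'.hθ, ρ.hθ]
  exact congrArg (evB P) (hα z).1

lemma red_base_injective : Function.Injective (red (ι := ι) (base k k)) := by
  intro z w h
  ext m
  have h1 := congrArg (coeff m) h
  rw [coeff_red, coeff_red] at h1
  exact h1

/-- Every cocycle is the class of a deformation over `k[ε]`. -/
theorem exists_rep_kappa (ψ : L1 P →ₗ[B₀] B₀) (hψ : ψ ∈ cocycles1 P B₀) :
    ∃ ρ : Rep P (dual k k), kappa ρ sndL = ψ := by
  obtain ⟨ρ₀, -⟩ := exists_rep (P := P) (AlgDef.selfBase (k := k) (B₀ := B₀))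
  have hp := isSemismallExt_toBase (k := k)
  choose g hg using fun s => evB_surjective P (ψ (L1basis P s))
  let F' : σ → MvPolynomial ι (dual k k) := fun s =>
    up (dual k k) (P.relation s) + (eps : dual k k) • up (dual k k) (g s)
  have hredF : ∀ s, red (dual k k) (F' s) = P.relation s := by
    intro s
    change red _ (up (dual k k) (P.relation s) + (eps : dual k k) • up (dual k k) (g s)) = _
    rw [map_add, red_up, red_smul, res_eps, zero_smul, add_zero]
  have hlamF : ∀ s, lam sndL (F' s) = g s := by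
    intro s
    change lam sndL (up (dual k k) (P.relation s) + (eps : dual k k) • up (dual k k) (g s)) = _
    rw [map_add, lam_up isDer_sndL, lam_smul_of_isDer isDer_sndL, sndL_eps, res_eps, zero_smul, add_zero, one_smul,
      red_up, zero_add]
  have hF' : IsLift ρ₀ (toBase (dual k k)) F' := by
    intro s
    apply red_base_injective
    rw [red_mp, hredF, ρ₀.hred]
  have h : ∀ (l : dual k k →ₗ[k] k) (Q : σ →₀ MvPolynomial ι (dual k k)), IsRel ρ₀ (toBase (dual k k)) Q →
      val P l F' Q = 0 := by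
    intro l Q hQ
    have h1 : val P l F' Q = val P (l eps • sndL) F' Q := by
      refine val_congr_left hF' (fun j hj => ?_) hQ
      have h2 : j = sndL j • (eps : dual k k) := eq_smul_eps hj
      conv_lhs => rw [h2]
      rw [map_smul, LinearMap.smul_apply, smul_eq_mul, smul_eq_mul, mul_comm]
    rw [h1, val_smul_left, val, evB_lam_ev' isDer_sndL F' hredF Q]
    have hq : Finsupp.linearCombination _ P.relation (Q.mapRange (red (dual k k)) (map_zero _)) = 0 := by
      have h1 := red_ev' hF' Q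
      rw [← red_mp (toBase (dual k k)), mp_ev'_eq_zero hF' hQ, map_zero] at h1
      exact h1.symm
    let q : relKer P := ⟨Q.mapRange (red (dual k k)) (map_zero _), hq⟩
    have h3 := apply_one_tmul ψ (q : relMod P)
    have h4 : ψ (1 ⊗ₜ[RR] (q : relMod P)) = 0 := by
      have h5 : ψ ∘ₗ d2 P = 0 := hψ
      have h6 := LinearMap.congr_fun h5 (Submodule.Quotient.mk (1 ⊗ₜ q))
      rwa [LinearMap.comp_apply, d2_mk_tmul] at h6
    rw [h4] at h3
    have h7 : ((Q.mapRange (red (dual k k)) (map_zero _)).sum fun s r => evB P r * evB P (lam sndL (F' s))) =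
        (Q.mapRange (red (dual k k)) (map_zero _)).sum fun s r => evB P r * ψ (L1basis P s) := by
      refine Finsupp.sum_congr fun s _ => ?_
      rw [hlamF, hg]
    rw [h7]
    exact (congrArg (fun x => l eps • x) h3.symm).trans (smul_zero _)
  let ρ : Rep P (dual k k) :=
    { D := totDef hF' hp h
      θ := Ideal.Quotient.mkₐ (dual k k) (Ideal.span (Set.range F'))
      hθ := fun z => rfl
      F := F'
      hF := fun s => Ideal.Quotient.eq_zero_iff_mem.2 (Ideal.subset_span ⟨s, rfl⟩)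
      hred := hredF }
  refine ⟨ρ, (L1basis P).ext fun s => ?_⟩
  rw [kappa_basis]
  change evB P (lam sndL (F' s)) = _
  rw [hlamF, hg]

end Dual

end K681.AffRep
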