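import Groth.Agent.Deform.K681.AffT1b

/-!
# `Def_{B₀}(k[ε]) ≅ T¹`: the bijection and its linearity
-/

set_option autoImplicit false

universe u

open CategoryTheory MvPolynomial TensorProduct AlgebraicGeometry

namespace K681.AffRep

open ArtFun ArtFun.Art CotT

variable {k : Type u} [Field k] {B₀ : Type u} [CommRing B₀] [Algebra k B₀] {ι σ : Type u}
variable (P : Algebra.Presentation k B₀ ι σ) {C' C : Art k k} {p : C' ⟶ C}

variable {P} in
lemma mk_add (x y : cocycles1 P B₀) : (Submodule.Quotient.mk (x + y) : T1 P B₀) =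
    Submodule.Quotient.mk x + Submodule.Quotient.mk y := rfl

variable {P} in
lemma mk_smul (c : k) (x : cocycles1 P B₀) : (Submodule.Quotient.mk (c • x) : T1 P B₀) =
    c • (Submodule.Quotient.mk x : T1 P B₀) := rfl

/-- The class in `T¹` of a first-order deformation. -/
noncomputable def psi (u : (DefB k B₀).obj (dual k k)) : T1 P B₀ := ks (repOf P u) isDer_sndL

variable {P} in
lemma ks_eq_of_cl_eq {l : C →ₗ[k] k} (hl : IsDer l) (ρ ρ' : Rep P C) (h : ρ.D.toDefSch.cl = ρ'.D.toDefSch.cl) :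
    ks ρ hl = ks ρ' hl := by
  obtain ⟨e⟩ := Quotient.exact h
  obtain ⟨φ, hφ, -⟩ := AlgDef.exists_algEquiv_of_iso ρ.D ρ'.D e
  refine (Submodule.Quotient.eq _).2 ?_
  have h1 := kappa_sub_mem hl ρ' ρ φ.toAlgHom hφ
  exact h1

lemma psi_eq (ρ : Rep P (dual k k)) : psi P ρ.D.toDefSch.cl = ks ρ isDer_sndL :=
  ks_eq_of_cl_eq _ _ _ (repOf_cl P _)

variable {P} in
lemma kappa_sub_mem_of_ks_eq {l : C →ₗ[k] k} (hl : IsDer l) {ρ ρ' : Rep P C} (h : ks ρ hl = ks ρ' hl) :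
    kappa ρ l - kappa ρ' l ∈ LinearMap.range (d1Star P B₀) := by
  rw [ks, ks, Submodule.Quotient.eq, Submodule.mem_comap] at h
  exact h

variable {P} in
lemma cl_eq_of_ks_eq {ρ ρ' : Rep P (dual k k)} (h : ks ρ isDer_sndL = ks ρ' isDer_sndL) :
    ρ'.D.toDefSch.cl = ρ.D.toDefSch.cl := by
  obtain ⟨e, he⟩ := exists_algHom_of_kappa ρ' ρ (kappa_sub_mem_of_ks_eq _ h)
  obtain ⟨i⟩ := AlgDef.nonempty_iso_of_algHom _ _ e he
  exact Quotient.sound ⟨i⟩

theorem psi_injective : Function.Injective (psi P) := by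
  intro u v h
  have h1 := cl_eq_of_ks_eq (ρ := repOf P u) (ρ' := repOf P v) h
  exact ((repOf_cl P v).symm.trans (h1.trans (repOf_cl P u))).symm

theorem psi_surjective : Function.Surjective (psi P) := by
  intro t
  induction t using Submodule.Quotient.induction_on with
  | _ c =>
    obtain ⟨ρ, hρ⟩ := exists_rep_kappa c.1 c.2
    refine ⟨ρ.D.toDefSch.cl, ?_⟩
    rw [psi_eq]
    exact congrArg Submodule.Quotient.mk (Subtype.ext hρ)

/-- `psi` of the push-forward of a class. -/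
lemma psi_map (g : C ⟶ dual k k) (u : (DefB k B₀).obj C) {l : C →ₗ[k] k} (hl : IsDer l)
    (h : sndL ∘ₗ g.toAlgHom.toLinearMap = l) : psi P ((DefB k B₀).map g u) = ks (repOf P u) hl := by
  obtain ⟨ρ₂, ⟨e⟩, hρ₂⟩ := exists_push g (repOf P u)
  have h1 : (DefB k B₀).map g u = ρ₂.D.toDefSch.cl := by
    conv_lhs => rw [← repOf_cl P u]
    exact Quotient.sound ⟨e⟩
  rw [h1, psi_eq]
  refine congrArg Submodule.Quotient.mk (Subtype.ext ?_)
  change kappa ρ₂ sndL = kappa (repOf P u) l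
  rw [kappa_push hρ₂, h]

theorem psi_scale (c : k) (u : (DefB k B₀).obj (dual k k)) :
    psi P ((DefB k B₀).map (scale c) u) = c • psi P u := by
  have hl : IsDer (c • sndL (k := k)) := by
    intro a b
    rw [LinearMap.smul_apply, LinearMap.smul_apply, LinearMap.smul_apply, isDer_sndL, smul_eq_mul, smul_eq_mul,
      smul_eq_mul]
    ring
  rw [psi_map P (scale c) u hl (LinearMap.ext fun a => rfl)]
  refine (congrArg Submodule.Quotient.mk (Subtype.ext ?_)).trans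
    (mk_smul c (⟨kappa (repOf P u) sndL, kappa_mem _ isDer_sndL⟩ : cocycles1 P B₀))
  exact kappa_smul _ _ _

/-- The two coefficient functionals on `k[ε₁, ε₂]`. -/
noncomputable def sndL₁ : (dual2 k k) →ₗ[k] k := sndL ∘ₗ pr₁.toAlgHom.toLinearMap

/-- See `sndL₁`. -/
noncomputable def sndL₂ : (dual2 k k) →ₗ[k] k := sndL ∘ₗ pr₂.toAlgHom.toLinearMap

lemma isDer_comp (g : C ⟶ dual k k) : IsDer (sndL ∘ₗ g.toAlgHom.toLinearMap) := by
  intro a b
  have h : g.toAlgHom (a * b) = g.toAlgHom a * g.toAlgHom b := map_mul _ _ _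
  have h1 : ∀ a, (dual k k).res (g.toAlgHom a) = C.res a := fun a => res_app g a
  change sndL (g.toAlgHom (a * b)) = C.res a * sndL (g.toAlgHom b) + C.res b * sndL (g.toAlgHom a)
  rw [h, isDer_sndL, h1, h1]

lemma plus_eq : sndL ∘ₗ (plus : dual2 k k ⟶ _).toAlgHom.toLinearMap =
    sndL ∘ₗ (pr₁ : dual2 k k ⟶ _).toAlgHom.toLinearMap + sndL ∘ₗ (pr₂ : dual2 k k ⟶ _).toAlgHom.toLinearMap :=
  LinearMap.ext fun _ => rfl

variable {P} in
lemma ks_add (ρ : Rep P C) {l l₁ l₂ : C →ₗ[k] k} (hl : IsDer l) (hl₁ : IsDer l₁) (hl₂ : IsDer l₂) (h : l = l₁ + l₂) :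
    ks ρ hl = ks ρ hl₁ + ks ρ hl₂ := by
  subst h
  refine (congrArg Submodule.Quotient.mk (Subtype.ext ?_)).trans
    (mk_add (⟨kappa ρ l₁, kappa_mem _ hl₁⟩ : cocycles1 P B₀) (⟨kappa ρ l₂, kappa_mem _ hl₂⟩ : cocycles1 P B₀))
  exact kappa_add _ _ _

theorem psi_plus (z : (DefB k B₀).obj (dual2 k k)) :
    psi P ((DefB k B₀).map plus z) = psi P ((DefB k B₀).map pr₁ z) + psi P ((DefB k B₀).map pr₂ z) := by
  rw [psi_map P pr₁ z (isDer_comp pr₁) rfl, psi_map P pr₂ z (isDer_comp pr₂) rfl,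
    psi_map P plus z (isDer_comp plus) rfl]
  exact ks_add _ _ _ _ plus_eq

end K681.AffRep
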