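import Groth.Agent.Fga.FreeSec
import Groth.Agent.Lift.K696.Base
import Groth.Prelude.Def_ArtFun

/-!
# Coefficients of functions on `X ×_k Spec C`

For a cartesian square `XC = X ×_k Spec C`, `C` a finite-dimensional Artinian ring, and a linear functional `l` on `C`:
`coef l U : Γ(XC, q⁻¹ U) →+ Γ(X, U)` with `q^* a * c ↦ l c • a`.
-/

set_option autoImplicit false
universe u

open CategoryTheory CategoryTheory.Limits AlgebraicGeometry Opposite TopologicalSpace
open Groth.Agent.Sga67.Sec (resO resO_resO resO_self)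
open Groth.Agent.Fga.FreeSec K696.Base ArtFun

namespace K681.CoefC

variable {k : Type u} [Field k] {C : Art k k} {X XC : Scheme.{u}} {x : X ⟶ Spec (CommRingCat.of k)}
  {q : XC ⟶ X} {s : XC ⟶ Spec (CommRingCat.of C)}

variable (x) in
/-- Scalars as functions. -/
noncomputable def sc (U : X.Opens) : k →+* Γ(X, U) := (resO X le_top).comp (fn x)

lemma resO_sc {U V : X.Opens} (h : V ≤ U) (c : k) : resO X h (sc x U c) = sc x V c :=
  resO_resO _ _ _

variable (q s) in
/-- The function `q^* a * c`. -/
noncomputable def elt (U : X.Opens) (a : Γ(X, U)) (c : C) : Γ(XC, q ⁻¹ᵁ U) :=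
  q.app U a * resO XC le_top (fn s c)

lemma fn_comp {Y : Scheme.{u}} {R : Type u} [CommRing R] (g : XC ⟶ Y) (t : Y ⟶ Spec (CommRingCat.of R)) (c : R) :
    g.appTop (fn t c) = fn (g ≫ t) c := by
  change g.appTop (t.appTop _) = (g ≫ t).appTop _
  rw [Scheme.Hom.comp_appTop]
  rfl

lemma fn_specMap {R R' : Type u} [CommRing R] [CommRing R'] (t : XC ⟶ Spec (CommRingCat.of R')) (g : R →+* R') (c : R) :
    fn (t ≫ Spec.map (CommRingCat.ofHom g)) c = fn t (g c) := by
  change (t ≫ Spec.map (CommRingCat.ofHom g)).appTop _ = t.appTop _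
  rw [Scheme.Hom.comp_appTop]
  have h := ConcreteCategory.congr_hom (Scheme.ΓSpecIso_inv_naturality (CommRingCat.ofHom g)) c
  exact congrArg t.appTop h.symm

lemma resO_appTop {Y : Scheme.{u}} (g : XC ⟶ Y) (U : Y.Opens) (y : Γ(Y, ⊤)) :
    g.app U (resO Y le_top y) = resO XC le_top (g.appTop y) := by
  have := ConcreteCategory.congr_hom (g.naturality (homOfLE (le_top : U ≤ ⊤)).op) y
  exact this

section Square

variable (sq : IsPullback q s x (Spec.map (CommRingCat.ofHom (algebraMap k C))))

include sq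

lemma app_sc (U : X.Opens) (r : k) : q.app U (sc x U r) = resO XC le_top (fn s (algebraMap k C r)) := by
  have h1 : q.app U (sc x U r) = resO XC le_top (q.appTop (fn x r)) := resO_appTop q U _
  rw [h1, fn_comp, sq.w, fn_specMap]

lemma elt_smul (U : X.Opens) (a : Γ(X, U)) (r : k) (c : C) : elt q s U a (r • c) = elt q s U (sc x U r * a) c := by
  rw [elt, elt, Algebra.smul_def, map_mul (fn s), map_mul (resO XC _), map_mul, app_sc sq]
  ring

lemma elt_sc (U : X.Opens) (a : Γ(X, U)) (r : k) : elt q s U a (algebraMap k C r) = q.app U (sc x U r * a) := by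
  rw [elt, ← app_sc sq, map_mul, mul_comm]

end Square

lemma elt_add (U : X.Opens) (a a' : Γ(X, U)) (c : C) : elt q s U (a + a') c = elt q s U a c + elt q s U a' c := by
  rw [elt, elt, elt, map_add, add_mul]

lemma elt_add_right (U : X.Opens) (a : Γ(X, U)) (c c' : C) : elt q s U a (c + c') = elt q s U a c + elt q s U a c' := by
  rw [elt, elt, elt, map_add (fn s), map_add (resO XC _), mul_add]

lemma elt_sum {ι : Type*} (t : Finset ι) (U : X.Opens) (a : Γ(X, U)) (c : ι → C) :
    elt q s U a (∑ i ∈ t, c i) = ∑ i ∈ t, elt q s U a (c i) := by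
  rw [elt, map_sum (fn s), map_sum (resO XC _), Finset.mul_sum]
  rfl

lemma elt_mul (U : X.Opens) (a a' : Γ(X, U)) (c c' : C) :
    elt q s U a c * elt q s U a' c' = elt q s U (a * a') (c * c') := by
  rw [elt, elt, elt, map_mul, map_mul (fn s), map_mul (resO XC _)]
  ring

lemma elt_one (U : X.Opens) (a : Γ(X, U)) : elt q s U a 1 = q.app U a := by
  rw [elt, map_one (fn s), map_one (resO XC _), mul_one]

lemma resO_elt {U V : X.Opens} (h : V ≤ U) (a : Γ(X, U)) (c : C) :
    resO XC (q.preimage_mono h) (elt q s U a c) = elt q s V (resO X h a) c := by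
  rw [elt, elt, map_mul, resO_resO]
  congr 1
  exact ores_app q h a

section Coef

variable [Module.Finite k C] (sq : IsPullback q s x (Spec.map (CommRingCat.ofHom (algebraMap k C))))

/-- The decomposition of sections over `q⁻¹ U`. -/
noncomputable def secEquiv (sq : IsPullback q s x (Spec.map (CommRingCat.ofHom (algebraMap k C)))) (U : X.Opens) :
    (Fin (Module.finrank k C) → Γ(X, U)) ≃+ Γ(XC, q ⁻¹ᵁ U) :=
  AddEquiv.ofBijective
    ({ toFun := comb q (fun j => fn s (Module.finBasis k C j)) U
       map_zero' := by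
         unfold comb
         simp
       map_add' := comb_add _ _ _ } : (Fin (Module.finrank k C) → Γ(X, U)) →+ Γ(XC, q ⁻¹ᵁ U))
    (bijective_secs (Module.finBasis k C) sq U)

lemma secEquiv_apply (U : X.Opens) (a : Fin (Module.finrank k C) → Γ(X, U)) :
    secEquiv sq U a = ∑ j, elt q s U (a j) (Module.finBasis k C j) := rfl

/-- Sections over `q⁻¹ U` are sums of the functions `q^* a * c`. -/
theorem induction_elt (sq : IsPullback q s x (Spec.map (CommRingCat.ofHom (algebraMap k C)))) {U : X.Opens}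
    {p : Γ(XC, q ⁻¹ᵁ U) → Prop} (h0 : p 0) (hadd : ∀ y y', p y → p y' → p (y + y'))
    (helt : ∀ a c, p (elt q s U a c)) (y : Γ(XC, q ⁻¹ᵁ U)) : p y := by
  obtain ⟨a, rfl⟩ := (secEquiv sq U).surjective y
  rw [secEquiv_apply]
  exact Finset.sum_induction _ p hadd h0 (fun j _ => helt _ _)

/-- The coefficient with respect to a functional. -/
noncomputable def coef (sq : IsPullback q s x (Spec.map (CommRingCat.ofHom (algebraMap k C)))) (l : C →ₗ[k] k)
    (U : X.Opens) : Γ(XC, q ⁻¹ᵁ U) →+ Γ(X, U) where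
  toFun y := ∑ j, sc x U (l (Module.finBasis k C j)) * (secEquiv sq U).symm y j
  map_zero' := by simp
  map_add' y y' := by
    rw [← Finset.sum_add_distrib]
    refine Finset.sum_congr rfl fun j _ => ?_
    rw [map_add, Pi.add_apply, mul_add]

theorem coef_elt (l : C →ₗ[k] k) (U : X.Opens) (a : Γ(X, U)) (c : C) :
    coef sq l U (elt q s U a c) = sc x U (l c) * a := by
  have h1 : elt q s U a c = secEquiv sq U (fun j => sc x U ((Module.finBasis k C).repr c j) * a) := by
    rw [secEquiv_apply]
    conv_lhs => rw [← (Module.finBasis k C).sum_repr c]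
    rw [elt_sum]
    exact Finset.sum_congr rfl fun j _ => elt_smul sq U a _ _
  rw [h1]
  change ∑ j, sc x U (l (Module.finBasis k C j)) * (secEquiv sq U).symm (secEquiv sq U _) j = _
  rw [AddEquiv.symm_apply_apply]
  have h2 : l c = ∑ j, (Module.finBasis k C).repr c j * l (Module.finBasis k C j) := by
    conv_lhs => rw [← (Module.finBasis k C).sum_repr c]
    rw [map_sum]
    exact Finset.sum_congr rfl fun j _ => by rw [map_smul, smul_eq_mul]
  rw [h2, map_sum, Finset.sum_mul]
  refine Finset.sum_congr rfl fun j _ => ?_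
  rw [map_mul]
  ring

lemma coef_add_left (l l' : C →ₗ[k] k) (U : X.Opens) (y : Γ(XC, q ⁻¹ᵁ U)) :
    coef sq (l + l') U y = coef sq l U y + coef sq l' U y := by
  induction y using induction_elt sq with
  | h0 => simp
  | hadd y y' h h' => rw [map_add, map_add, map_add, h, h']; abel
  | helt a c => rw [coef_elt, coef_elt, coef_elt, LinearMap.add_apply, map_add, add_mul]

lemma coef_smul_left (r : k) (l : C →ₗ[k] k) (U : X.Opens) (y : Γ(XC, q ⁻¹ᵁ U)) :
    coef sq (r • l) U y = sc x U r * coef sq l U y := by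
  induction y using induction_elt sq with
  | h0 => simp
  | hadd y y' h h' => rw [map_add, map_add, h, h', mul_add]
  | helt a c => rw [coef_elt, coef_elt, LinearMap.smul_apply, smul_eq_mul, map_mul, mul_assoc]

lemma resO_coef {U V : X.Opens} (h : V ≤ U) (l : C →ₗ[k] k) (y : Γ(XC, q ⁻¹ᵁ U)) :
    resO X h (coef sq l U y) = coef sq l V (resO XC (q.preimage_mono h) y) := by
  induction y using induction_elt sq with
  | h0 => simp
  | hadd y y' h1 h2 => rw [map_add, map_add, map_add, map_add, h1, h2]
  | helt a c => rw [coef_elt, resO_elt, coef_elt, map_mul, resO_sc]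

/-- Functionals detect sections. -/
theorem coef_ext {U : X.Opens} {y y' : Γ(XC, q ⁻¹ᵁ U)} (h : ∀ l : C →ₗ[k] k, coef sq l U y = coef sq l U y') :
    y = y' := by
  apply (secEquiv sq U).symm.injective
  funext j
  have h1 : ∀ y, coef sq ((Module.finBasis k C).coord j) U y = (secEquiv sq U).symm y j := by
    intro y
    change ∑ i, sc x U ((Module.finBasis k C).coord j (Module.finBasis k C i)) * (secEquiv sq U).symm y i = _
    rw [Finset.sum_eq_single j]
    · simp
    · intro i _ hij
      simp [Module.Basis.coord_apply, hij]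
    · intro h; exact absurd (Finset.mem_univ j) h
  rw [← h1, ← h1, h]

/-- The Leibniz rule. -/
theorem coef_mul {l : C →ₗ[k] k} (hl : ∀ a b : C, l (a * b) = C.res a * l b + C.res b * l a) (U : X.Opens)
    (y y' : Γ(XC, q ⁻¹ᵁ U)) :
    coef sq l U (y * y') = coef sq C.res.toLinearMap U y * coef sq l U y' + coef sq C.res.toLinearMap U y' * coef sq l U y := by
  induction y using induction_elt sq with
  | h0 => simp
  | hadd y₁ y₂ h1 h2 => rw [add_mul, map_add, h1, h2, map_add, map_add]; ring
  | helt a c =>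
    induction y' using induction_elt sq with
    | h0 => simp
    | hadd y₁ y₂ h1 h2 => rw [mul_add, map_add, h1, h2, map_add, map_add]; ring
    | helt a' c' =>
      rw [elt_mul, coef_elt, coef_elt, coef_elt, coef_elt, coef_elt, hl, map_add, map_mul, map_mul]
      change _ = sc x U (C.res c) * a * _ + sc x U (C.res c') * a' * _
      ring

/-- Functions pulled back from `X`. -/
lemma coef_app (l : C →ₗ[k] k) (U : X.Opens) (a : Γ(X, U)) : coef sq l U (q.app U a) = sc x U (l 1) * a := by
  rw [← elt_one (s := s), coef_elt]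

end Coef

section Map

variable {C' : Art k k} {XC' : Scheme.{u}} {q' : XC' ⟶ X} {s' : XC' ⟶ Spec (CommRingCat.of C')}
  [Module.Finite k C] [Module.Finite k C']
  (sq : IsPullback q s x (Spec.map (CommRingCat.ofHom (algebraMap k C))))
  (sq' : IsPullback q' s' x (Spec.map (CommRingCat.ofHom (algebraMap k C'))))
  (g : C' ⟶ C) (G : XC ⟶ XC') (hq : G ≫ q' = q) (hs : G ≫ s' = s ≫ Spec.map (CommRingCat.ofHom g.toAlgHom.toRingHom))

omit [Module.Finite k C] [Module.Finite k C'] in
include hq hs in
lemma ev_elt (U : X.Opens) (e : q ⁻¹ᵁ U ≤ G ⁻¹ᵁ (q' ⁻¹ᵁ U)) (a : Γ(X, U)) (c : C') :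
    ev G e (elt q' s' U a c) = elt q s U a (g c) := by
  rw [elt, elt, map_mul]
  congr 1
  · rw [← ev_eq_app q' a le_rfl, ev_comp G q' le_rfl e (by rw [hq]), ev_congr hq _ le_rfl, ev_eq_app]
  · have h1 : ev G e (resO XC' le_top (fn s' c)) = resO XC le_top (G.appTop (fn s' c)) := by
      rw [ev_eq, resO_appTop, resO_resO]
    rw [h1, fn_comp, hs]
    congr 1
    exact fn_specMap s g.toAlgHom.toRingHom c

include hq hs in
/-- Functoriality of the coefficients. -/
theorem coef_ev (l : C →ₗ[k] k) (U : X.Opens) (e : q ⁻¹ᵁ U ≤ G ⁻¹ᵁ (q' ⁻¹ᵁ U)) (y : Γ(XC', q' ⁻¹ᵁ U)) :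
    coef sq l U (ev G e y) = coef sq' (l ∘ₗ g.toAlgHom.toLinearMap) U y := by
  induction y using induction_elt sq' with
  | h0 => simp
  | hadd y y' h h' => rw [map_add, map_add, map_add, h, h']
  | helt a c => rw [ev_elt g G hq hs, coef_elt, coef_elt]; rfl

end Map

end K681.CoefC
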