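import Groth.Agent.Deform.K681.MapDer
import Groth.Agent.Lift.K696.Act

/-!
# First-order deformations of a morphism are derivations
-/

set_option autoImplicit false
universe u

open CategoryTheory CategoryTheory.Limits AlgebraicGeometry Opposite TopologicalSpace
open Groth.Agent.Sga67.Sec
open Groth.Agent.Fga.FreeSec K696.Base K696.Diff K696.Thk ArtFun ArtFun.Art K681.CoefC K681.MapDer

namespace K681.DualKap

variable {k : Type u} [Field k]

instance : Module.Finite k (dual k k) := inferInstanceAs (Module.Finite k (k × k))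

instance : Module.Finite k (dual2 k k) := inferInstanceAs (Module.Finite k (k × (k × k)))

/-- The `ε`-coefficient. -/
noncomputable def sndL : (dual k k) →ₗ[k] k where
  toFun a := TrivSqZeroExt.snd (a : DualNumber k)
  map_add' _ _ := rfl
  map_smul' _ _ := rfl

lemma dual_snd_mul (a b : DualNumber k) : TrivSqZeroExt.snd (a * b) =
    TrivSqZeroExt.fst a * TrivSqZeroExt.snd b + TrivSqZeroExt.fst b * TrivSqZeroExt.snd a := by
  rw [TrivSqZeroExt.snd_mul, op_smul_eq_smul, smul_eq_mul, smul_eq_mul]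

lemma isDer_sndL : IsDer (sndL (k := k)) := fun a b => dual_snd_mul a b

/-- The element `ε`. -/
noncomputable def eps : dual k k := (DualNumber.eps : DualNumber k)

lemma sndL_eps : sndL (eps : dual k k) = 1 := rfl

lemma res_eps : (dual k k).res (eps : dual k k) = 0 := rfl

lemma mul_eps (a : dual k k) : a * eps = (dual k k).res a • (eps : dual k k) := by
  have h : ∀ a : DualNumber k, a * DualNumber.eps = TrivSqZeroExt.fst a • (DualNumber.eps : DualNumber k) := by
    intro a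
    refine TrivSqZeroExt.ext ?_ ?_
    · rw [TrivSqZeroExt.fst_mul, TrivSqZeroExt.fst_smul]
      change a.fst * 0 = a.fst • (0 : k)
      rw [mul_zero, smul_zero]
    · rw [dual_snd_mul, TrivSqZeroExt.snd_smul]
      change a.fst * 1 + 0 * a.snd = a.fst • (1 : k)
      rw [zero_mul, add_zero, smul_eq_mul]
  exact h a

lemma dual_decomp (a : DualNumber k) : a = TrivSqZeroExt.fst a • (1 : DualNumber k) +
    TrivSqZeroExt.snd a • (DualNumber.eps : DualNumber k) := by
  refine TrivSqZeroExt.ext ?_ ?_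
  · rw [TrivSqZeroExt.fst_add, TrivSqZeroExt.fst_smul, TrivSqZeroExt.fst_smul, TrivSqZeroExt.fst_one]
    change _ = _ • (1 : k) + _ • (0 : k)
    rw [smul_eq_mul, smul_zero, mul_one, add_zero]
  · rw [TrivSqZeroExt.snd_add, TrivSqZeroExt.snd_smul, TrivSqZeroExt.snd_smul, TrivSqZeroExt.snd_one]
    change _ = _ • (0 : k) + _ • (1 : k)
    rw [smul_zero, smul_eq_mul, mul_one, zero_add]

/-- Every functional on `k[ε]` is a combination of the two coefficients. -/
lemma functional_eq (l : (dual k k) →ₗ[k] k) : l = l 1 • (dual k k).res.toLinearMap + l eps • sndL := by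
  refine LinearMap.ext fun a => ?_
  have h1 : l a = l (TrivSqZeroExt.fst (a : DualNumber k) • (1 : dual k k) +
      TrivSqZeroExt.snd (a : DualNumber k) • (eps : dual k k)) := congrArg l (dual_decomp a)
  rw [h1, map_add, map_smul, map_smul, LinearMap.add_apply, LinearMap.smul_apply, LinearMap.smul_apply, smul_eq_mul,
    smul_eq_mul, smul_eq_mul, smul_eq_mul, mul_comm (l 1), mul_comm (l eps)]
  rfl

variable {X Y : Scheme.{u}} {x : X ⟶ Spec (CommRingCat.of k)} (T : Dat x (dual k k))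

/-- Decomposition of functions on the first-order thickening. -/
theorem decomp (U : X.Opens) (y : Γ(T.XC, T.q ⁻¹ᵁ U)) :
    y = T.q.app U (ev T.j (T.le_j U) y) + elt T.q T.s U (coef T.sq sndL U y) eps := by
  apply coef_ext T.sq
  intro l
  have h1 : (dual k k).res.toLinearMap 1 = 1 := map_one (dual k k).res
  have h2 : (dual k k).res.toLinearMap eps = 0 := res_eps
  have h3 : sndL (1 : dual k k) = 0 := isDer_sndL.one
  have h4 : ∀ (c d : k) (z : Γ(T.XC, T.q ⁻¹ᵁ U)), coef T.sq (c • (dual k k).res.toLinearMap + d • sndL) U z =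
      sc x U c * ev T.j (T.le_j U) z + sc x U d * coef T.sq sndL U z := by
    intro c d z
    rw [coef_add_left, coef_smul_left, coef_smul_left, T.coef_res]
  have h5 : ev T.j (T.le_j U) (T.q.app U (ev T.j (T.le_j U) y)) = ev T.j (T.le_j U) y := by
    rw [← T.coef_res U (T.q.app U _), coef_app, h1, map_one, one_mul]
  rw [functional_eq l, h4, map_add (coef T.sq _ U), h4, h4, h5, T.ev_j_elt, coef_app, coef_elt, sndL_eps, res_eps, h3,
    map_one (sc x U), map_zero (sc x U)]
  ring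

/-- The thickening. -/
noncomputable abbrev thk : Th (⊤ : X.Opens) where
  X := T.XC
  j := (⊤ : X.Opens).ι ≫ T.j
  cl := by
    have : IsIso (⊤ : X.Opens).ι := by rw [← X.topIso_hom]; infer_instance
    infer_instance
  su := by
    have : IsIso (⊤ : X.Opens).ι := by rw [← X.topIso_hom]; infer_instance
    infer_instance

lemma im_eq (W : X.Opens) : (thk T).im W = T.q ⁻¹ᵁ W := by
  have h : (thk T).im W = (thk T).im ((⊤ : X.Opens).ι ''ᵁ ((thk T).j ⁻¹ᵁ (T.q ⁻¹ᵁ W))) := by
    congr 1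
    ext y
    constructor
    · intro hy
      exact ⟨⟨y, trivial⟩, T.le_j W hy, rfl⟩
    · rintro ⟨z, hz, rfl⟩
      have h1 : T.q (T.j z.1) ∈ W := hz
      rwa [T.q_j] at h1
  rw [h, Th.im_image_preimage]

lemma im_le (W : X.Opens) : (thk T).im W ≤ T.q ⁻¹ᵁ W := (im_eq T W).le

lemma le_im (W : X.Opens) : T.q ⁻¹ᵁ W ≤ (thk T).im W := (im_eq T W).ge

/-- The reduction map in terms of `j`. -/
lemma π_eq {W : X.Opens} (h : W ≤ ⊤) (a : Γ(T.XC, (thk T).im W)) :
    (thk T).π h a = ev T.j (T.le_j W) (resO T.XC (le_im T W) a) := by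
  have e1 : W ≤ T.j ⁻¹ᵁ (thk T).im W := (T.le_j W).trans (T.j.preimage_mono (le_im T W))
  rw [Th.π_apply, ev_res T.j e1]
  have h1 : ev (thk T).j ((thk T).le_preimage_im W) a =
      ev (⊤ : X.Opens).ι (le_refl ((⊤ : X.Opens).ι ⁻¹ᵁ W)) (ev T.j e1 a) :=
    (ev_comp (⊤ : X.Opens).ι T.j e1 le_rfl ((thk T).le_preimage_im W) a).symm
  exact (congrArg (down ⊤ h) h1).trans (down_ev ⊤ h _ le_rfl)

/-- Multiplication by `ε`. -/
noncomputable def epsMul (W : X.Opens) : Γ(X, W) →+ Γ(T.XC, T.q ⁻¹ᵁ W) where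
  toFun m := elt T.q T.s W m eps
  map_zero' := by rw [elt, map_zero (T.q.app W).hom, zero_mul]
  map_add' _ _ := elt_add _ _ _ _

/-- The kernel of the thickening is identified with the structure sheaf. -/
noncomputable def kap : Kap (thk T) (Coh.structureModule X) where
  κ {W} h := (resO T.XC (im_le T W)).toAddMonoidHom.comp ((epsMul T W).comp (OmegaSh.fnSect X W))
  res_κ {W W'} h hW m := by
    change resO T.XC _ (resO T.XC _ (elt T.q T.s W (OmegaSh.fnSect X W m) eps)) =
      resO T.XC _ (elt T.q T.s W' (OmegaSh.fnSect X W' (res (Coh.structureModule X) hW m)) eps)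
    rw [resO_resO]
    have h1 : OmegaSh.fnSect X W' (res (Coh.structureModule X) hW m) = resO X hW (OmegaSh.fnSect X W m) := rfl
    rw [h1, ← resO_elt hW, resO_resO]
  inj {W} h m hm := by
    change resO T.XC (im_le T W) (elt T.q T.s W (OmegaSh.fnSect X W m) eps) = 0 at hm
    have h1 := congrArg (resO T.XC (le_im T W)) hm
    rw [resO_resO, resO_self, map_zero] at h1
    have h2 := congrArg (coef T.sq sndL W) h1
    rw [coef_elt, sndL_eps, map_one, one_mul, map_zero] at h2
    exact h2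
  π_κ {W} h m := by
    change (thk T).π h (resO T.XC (im_le T W) (elt T.q T.s W (OmegaSh.fnSect X W m) eps)) = 0
    rw [π_eq, resO_resO, resO_self, T.ev_j_elt, res_eps, map_zero, zero_mul]
  ex {W} h a ha := by
    rw [π_eq] at ha
    refine ⟨OmegaSh.strSect X W (coef T.sq sndL W (resO T.XC (le_im T W) a)), ?_⟩
    change resO T.XC (im_le T W) (elt T.q T.s W (coef T.sq sndL W (resO T.XC (le_im T W) a)) eps) = a
    have h1 := decomp T W (resO T.XC (le_im T W) a)
    rw [ha, map_zero (T.q.app W).hom, zero_add] at h1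
    rw [← h1, resO_resO, resO_self]
  smul {W} h a m := by
    change resO T.XC (im_le T W) (elt T.q T.s W ((thk T).π h a * OmegaSh.fnSect X W m) eps) =
      a * resO T.XC (im_le T W) (elt T.q T.s W (OmegaSh.fnSect X W m) eps)
    rw [π_eq]
    have h1 : ∀ (y : Γ(T.XC, T.q ⁻¹ᵁ W)) (m : Γ(X, W)), elt T.q T.s W (ev T.j (T.le_j W) y * m) eps =
        y * elt T.q T.s W m eps := by
      intro y m
      induction y using induction_elt T.sq with
      | h0 => rw [map_zero, zero_mul, zero_mul, elt, map_zero (T.q.app W).hom, zero_mul]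
      | hadd y y' h h' => rw [map_add, add_mul, elt_add, h, h', add_mul]
      | helt b c => rw [elt_mul, mul_eps, elt_smul T.sq, T.ev_j_elt, mul_assoc]
    rw [h1, map_mul, resO_resO, resO_self]

variable {f : X ⟶ Y} {yY : Y ⟶ Spec (CommRingCat.of k)}

lemma thk_w {φ : T.XC ⟶ Y} (hφ : T.j ≫ φ = f) : (thk T).j ≫ φ = (⊤ : X.Opens).ι ≫ f := by
  rw [← hφ]
  exact Category.assoc _ _ _

/-- The difference with the trivial deformation is the derivation `der`. -/
theorem diff_eq (φ : T.XC ⟶ Y) (hφ : T.j ≫ φ = f) (hY : φ ≫ yY = T.q ≫ x)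
    (h0 : T.j ≫ T.q ≫ f = f) (e : φ ≫ yY = (T.q ≫ f) ≫ yY) :
    diff (kap T) φ (T.q ≫ f) (thk_w T hφ) (thk_w T h0) e = T.der φ hφ hY isDer_sndL := by
  refine DerOn.ext' fun V W hU hV a => ?_
  apply (kap T).κ_injective hU
  rw [κ_diff]
  have e1 : (thk T).im W ≤ φ ⁻¹ᵁ V := (thk T).le_of_le φ f (thk_w T hφ) hV
  have e2 : (thk T).im W ≤ (T.q ≫ f) ⁻¹ᵁ V := (thk T).le_of_le (T.q ≫ f) f (thk_w T h0) hV
  change ev φ e1 a - ev (T.q ≫ f) e2 a =
    resO T.XC (im_le T W) (elt T.q T.s W (coef T.sq sndL W (ev φ (T.le_of_le φ hφ hV) a)) eps)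
  have h1 := decomp T W (ev φ (T.le_of_le φ hφ hV) a)
  rw [ev_comp T.j φ _ _ (by rw [hφ]; exact hV), ev_congr hφ _ hV] at h1
  have h2 := congrArg (resO T.XC (im_le T W)) h1
  rw [map_add, res_ev] at h2
  have e3 : T.q ⁻¹ᵁ W ≤ (T.q ≫ f) ⁻¹ᵁ V := T.q.preimage_mono hV
  rw [h2, add_comm, add_sub_assoc, add_eq_left, sub_eq_zero, ← ev_eq_app T.q _ le_rfl,
    ev_comp T.q f hV le_rfl e3, res_ev]

/-- Deformations of `f` over `k[ε]` are determined by their derivations. -/
theorem der_injective (hf : f ≫ yY = x) {φ φ' : T.XC ⟶ Y} (hφ : T.j ≫ φ = f) (hY : φ ≫ yY = T.q ≫ x)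
    (hφ' : T.j ≫ φ' = f) (hY' : φ' ≫ yY = T.q ≫ x)
    (h : T.der φ hφ hY isDer_sndL = T.der φ' hφ' hY' isDer_sndL) : φ = φ' := by
  have h0 : T.j ≫ T.q ≫ f = f := by rw [← Category.assoc, T.hjq, Category.id_comp]
  have e : φ ≫ yY = (T.q ≫ f) ≫ yY := by rw [Category.assoc, hf, hY]
  have e' : φ' ≫ yY = (T.q ≫ f) ≫ yY := by rw [Category.assoc, hf, hY']
  apply eq_of_diff_eq_zero (kap T) φ φ' (thk_w T hφ) (thk_w T hφ') (e.trans e'.symm)
  have h1 := diff_add (kap T) φ (T.q ≫ f) (thk_w T hφ) (thk_w T h0) e φ' (thk_w T hφ') e'.symm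
  rw [← h1, diff_symm (kap T) φ' (T.q ≫ f) (thk_w T hφ') (thk_w T h0) e', diff_eq T φ hφ hY h0,
    diff_eq T φ' hφ' hY' h0, h, add_neg_cancel]

/-- Every derivation comes from a deformation of `f` over `k[ε]`. -/
theorem der_surjective (hf : f ≫ yY = x) (δ : DerOn f yY (Coh.structureModule X) ⊤) :
    ∃ (φ : T.XC ⟶ Y) (hφ : T.j ≫ φ = f) (hY : φ ≫ yY = T.q ≫ x), T.der φ hφ hY isDer_sndL = δ := by
  have h0 : T.j ≫ T.q ≫ f = f := by rw [← Category.assoc, T.hjq, Category.id_comp]
  obtain ⟨φ, ⟨w, e, hδ⟩, -⟩ := K696.Act.existsUnique_diff_eq (kap T) (T.q ≫ f) (thk_w T h0) δ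
  have hφ : T.j ≫ φ = f := by
    have : IsIso (⊤ : X.Opens).ι := by rw [← X.topIso_hom]; infer_instance
    rw [← cancel_epi (⊤ : X.Opens).ι, ← w]
    exact (Category.assoc _ _ _).symm
  have hY : φ ≫ yY = T.q ≫ x := by rw [e, Category.assoc, hf]
  refine ⟨φ, hφ, hY, ?_⟩
  rw [← hδ]
  exact (diff_eq T φ hφ hY h0 e).symm

end K681.DualKap
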