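import Mathlib.Algebra.Category.ModuleCat.Ext.HasExt
import Mathlib.Algebra.Homology.DerivedCategory.Ext.Linear
import Mathlib.Algebra.Homology.DerivedCategory.Ext.ExactSequences
import Mathlib.Algebra.Homology.DerivedCategory.Ext.EnoughProjectives
import Mathlib.Algebra.Category.ModuleCat.Projective
import Mathlib.Algebra.Homology.ShortComplex.ModuleCat

/-!
# `Ext¹` of a module through a presentation by a projective module
-/

set_option autoImplicit false

universe u

open CategoryTheory

namespace K681.ExtOne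

variable {R : Type u} [CommRing R]

/-- For a short exact sequence `0 → K → L → C → 0` with `L` projective, `Ext¹(C, N)` is the cokernel of
`Hom(L, N) → Hom(K, N)`, linearly. -/
theorem nonempty_quot_equiv_ext_one {K L C N : Type u} [AddCommGroup K] [Module R K] [AddCommGroup L] [Module R L]
    [AddCommGroup C] [Module R C] [AddCommGroup N] [Module R N] [Module.Projective R L]
    (i : K →ₗ[R] L) (p : L →ₗ[R] C)
    (hi : Function.Injective i) (hex : Function.Exact i p) (hp : Function.Surjective p) :
    Nonempty (((K →ₗ[R] N) ⧸ LinearMap.range (LinearMap.lcomp R N i)) ≃ₗ[R]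
      Abelian.Ext (ModuleCat.of R C) (ModuleCat.of R N) 1) := by
  have h0 : p ∘ₗ i = 0 := hex.linearMap_comp_eq_zero
  let S : ShortComplex (ModuleCat.{u} R) := ShortComplex.mk (ModuleCat.ofHom i) (ModuleCat.ofHom p) (by
    rw [← ModuleCat.ofHom_comp, h0]; rfl)
  have hS : S.ShortExact :=
    { exact := (ShortComplex.ShortExact.moduleCat_exact_iff_function_exact S).2 hex
      mono_f := (ModuleCat.mono_iff_injective _).2 hi
      epi_g := (ModuleCat.epi_iff_surjective _).2 hp }
  have : Projective (ModuleCat.of R L) := (IsProjective.iff_projective (R := R) L).1 inferInstance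
  have hsub : Subsingleton (Abelian.Ext (ModuleCat.of R L) (ModuleCat.of R N) 1) :=
    Abelian.Ext.subsingleton_of_projective _ _ 0
  let f : (K →ₗ[R] N) →ₗ[R] Abelian.Ext (ModuleCat.of R C) (ModuleCat.of R N) 1 :=
    (Abelian.Ext.precompOfLinear hS.extClass R (ModuleCat.of R N) (add_zero 1)) ∘ₗ
      (Abelian.Ext.linearEquiv₀ (R := R) (X := ModuleCat.of R K) (Y := ModuleCat.of R N)).symm.toLinearMap ∘ₗ
      (ModuleCat.homLinearEquiv (S := R) (M := ModuleCat.of R K) (N := ModuleCat.of R N)).symm.toLinearMap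
  have hf : ∀ φ, f φ = hS.extClass.comp (Abelian.Ext.mk₀ (ModuleCat.ofHom φ)) (add_zero 1) := fun φ => rfl
  have hsurj : Function.Surjective f := by
    intro x
    obtain ⟨x₁, hx₁⟩ := Abelian.Ext.contravariant_sequence_exact₃ hS (ModuleCat.of R N) x
      (hsub.elim _ _) (add_zero 1)
    obtain ⟨φ, rfl⟩ := (Abelian.Ext.mk₀_bijective _ _).2 x₁
    exact ⟨φ.hom, hx₁⟩
  have hker : LinearMap.ker f = LinearMap.range (LinearMap.lcomp R N i) := by
    ext φ
    rw [LinearMap.mem_ker, hf, LinearMap.mem_range]
    constructor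
    · intro h
      obtain ⟨x₂, hx₂⟩ := Abelian.Ext.contravariant_sequence_exact₁ hS (ModuleCat.of R N) _ (add_zero 1) h
      obtain ⟨ψ, rfl⟩ := (Abelian.Ext.mk₀_bijective _ _).2 x₂
      rw [Abelian.Ext.mk₀_comp_mk₀] at hx₂
      have h3 := (Abelian.Ext.mk₀_bijective _ _).1 hx₂
      refine ⟨ψ.hom, ?_⟩
      have h4 := congrArg ModuleCat.Hom.hom h3
      exact h4
    · rintro ⟨ψ, rfl⟩
      have : (ModuleCat.ofHom (LinearMap.lcomp R N i ψ) : ModuleCat.of R K ⟶ ModuleCat.of R N) =
        S.f ≫ ModuleCat.ofHom ψ := rfl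
      rw [this, ← Abelian.Ext.mk₀_comp_mk₀]
      exact hS.extClass_comp_assoc _
  rw [← hker]
  exact ⟨f.quotKerEquivOfSurjective hsurj⟩

/-- For an exact sequence `M → L → C → 0` with `L` projective such that every map `M → N` kills the kernel of
`M → L`, `Ext¹(C, N)` is the cokernel of `Hom(L, N) → Hom(M, N)`. -/
theorem nonempty_quot_equiv_ext_one' {M L C N : Type u} [AddCommGroup M] [Module R M] [AddCommGroup L] [Module R L]
    [AddCommGroup C] [Module R C] [AddCommGroup N] [Module R N] [Module.Projective R L]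
    (d : M →ₗ[R] L) (p : L →ₗ[R] C) (hex : Function.Exact d p) (hp : Function.Surjective p)
    (hkey : ∀ (φ : M →ₗ[R] N) (x : M), d x = 0 → φ x = 0) :
    Nonempty (((M →ₗ[R] N) ⧸ LinearMap.range (LinearMap.lcomp R N d)) ≃ₗ[R]
      Abelian.Ext (ModuleCat.of R C) (ModuleCat.of R N) 1) := by
  have hex' : Function.Exact (LinearMap.range d).subtype p := by
    intro x
    rw [hex x]
    simp
  obtain ⟨e⟩ := nonempty_quot_equiv_ext_one (K := LinearMap.range d) (N := N)
    (LinearMap.range d).subtype p Subtype.val_injective hex' hp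
  let g : M →ₗ[R] LinearMap.range d := d.rangeRestrict
  have hg : Function.Surjective g := LinearMap.surjective_rangeRestrict _
  let E : (LinearMap.range d →ₗ[R] N) →ₗ[R] (M →ₗ[R] N) := LinearMap.lcomp R N g
  have hE : Function.Bijective E := by
    constructor
    · intro φ ψ h
      refine LinearMap.ext fun x => ?_
      obtain ⟨y, rfl⟩ := hg x
      exact LinearMap.congr_fun h y
    · intro φ
      have h1 : LinearMap.ker d ≤ LinearMap.ker φ := fun x hx => hkey φ x hx
      refine ⟨((LinearMap.ker d).liftQ φ h1) ∘ₗ d.quotKerEquivRange.symm.toLinearMap, ?_⟩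
      refine LinearMap.ext fun x => ?_
      change ((LinearMap.ker d).liftQ φ h1) (d.quotKerEquivRange.symm (g x)) = φ x
      rw [show g x = d.quotKerEquivRange (Submodule.Quotient.mk x) from rfl, LinearEquiv.symm_apply_apply]
      rfl
  let E' := LinearEquiv.ofBijective E hE
  refine ⟨(Submodule.Quotient.equiv _ _ E' ?_).symm.trans e⟩
  have h3 : LinearMap.lcomp R N d = E'.toLinearMap ∘ₗ LinearMap.lcomp R N (LinearMap.range d).subtype := by
    refine LinearMap.ext fun φ => LinearMap.ext fun x => rfl
  rw [h3, LinearMap.range_comp]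

end K681.ExtOne
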