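import Groth.Agent.CurvesC.LinMod
import Groth.Agent.CurvesB.HZero
import Groth.Agent.CohqB.HomSheaf
import Groth.Agent.Sga2.PnHomAdj

/-!
# `H⁰` of the sheaf Hom is the module of homomorphisms
-/

set_option autoImplicit false
universe u

open CategoryTheory CategoryTheory.Limits AlgebraicGeometry Opposite TopologicalSpace

namespace K681.HhLin

open Groth.Agent.CohqB.HomSheaf Groth.Agent.CurvesB.HZero Groth.Agent.FormalB.ModPow

attribute [local instance] Groth.Agent.CurvesC.LinMod.linearModules

variable {A : Type u} [CommRing A] {X : Scheme.{u}}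

/-- The sheaf Hom is the explicit one. -/
noncomputable def isoHom (F N : X.Modules) [DCoh.HasSheafHom F] : (DCoh.sheafHom F).obj N ≅ homSheaf F N :=
  (Groth.Agent.Sga2.PnHomAdj.sheafHomIso F).app N

/-- Isomorphic modules have the same sections. -/
noncomputable def secEquiv {M M' : X.Modules} (e : M ≅ M') : Γ(M, ⊤) ≃+ Γ(M', ⊤) where
  toFun := e.hom.app ⊤
  invFun := e.inv.app ⊤
  left_inv t := by
    change (e.hom ≫ e.inv).app ⊤ t = t
    rw [Iso.hom_inv_id]
    rfl
  right_inv t := by
    change (e.inv ≫ e.hom).app ⊤ t = t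
    rw [Iso.inv_hom_id]
    rfl
  map_add' s t := map_add (e.hom.app ⊤).hom s t

lemma secEquiv_smul {M M' : X.Modules} (e : M ≅ M') (r : Γ(X, ⊤)) (t : Γ(M, ⊤)) :
    secEquiv e (r • t) = r • secEquiv e t := Scheme.Modules.Hom.app_smul _ _ _

variable [X.Over (Spec (CommRingCat.of A))]

lemma topEquiv_smul (F N : X.Modules) (a : A) (s : Γ(homSheaf F N, ⊤)) :
    topEquiv F N (gl A X a • s) = a • topEquiv F N s := by
  apply Scheme.Modules.hom_ext
  intro U
  ext m
  rfl

/-- `H⁰` of the sheaf Hom is the module of homomorphisms. -/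
noncomputable def hhEquiv (F N : X.Modules) [DCoh.HasSheafHom F] :
    Coh.HH X ((DCoh.sheafHom F).obj N) 0 ≃ₗ[A] (F ⟶ N) where
  __ := ((equivAdd ((DCoh.sheafHom F).obj N)).trans (secEquiv (isoHom F N))).trans (topEquiv F N)
  map_smul' a s := by
    change topEquiv F N (secEquiv (isoHom F N) (equivAdd ((DCoh.sheafHom F).obj N) (a • s))) =
      a • topEquiv F N (secEquiv (isoHom F N) (equivAdd ((DCoh.sheafHom F).obj N) s))
    rw [equivAdd_smul_over, secEquiv_smul, topEquiv_smul]

end K681.HhLin
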