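import Groth.Agent.Deform.K681.CotDer
import Groth.Agent.ArtFun.K723.Pointed

/-!
# The cotangent space at a rational point and maps out of `Spec k[ε]`
-/

set_option autoImplicit false
universe u w

open CategoryTheory CategoryTheory.Limits AlgebraicGeometry
open ArtFun ArtFun.Art

namespace K681.TanPt

variable {k : Type u} [Field k] {M : Scheme.{u}} (m : M ⟶ Spec (CommRingCat.of k)) (x₀ : Spec (CommRingCat.of k) ⟶ M)

/-- Pointed maps `Spec C → M`. -/
abbrev PtMap (C : Art k k) : Type u :=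
  {g : Art.spec C ⟶ M // g ≫ m = Art.specMap (Art.ofBase C) ∧ Art.specRes C ≫ g = x₀}

lemma specMap_ofBase {C C' : Art k k} (h : C' ⟶ C) : Art.specMap h ≫ Art.specMap (Art.ofBase C') =
    Art.specMap (Art.ofBase C) := by
  change Spec.map _ ≫ Spec.map _ = Spec.map _
  rw [← Spec.map_comp]
  congr 1
  ext c
  exact h.toAlgHom.commutes c

lemma specRes_specMap {C C' : Art k k} (h : C' ⟶ C) : Art.specRes C ≫ Art.specMap h = Art.specRes C' := by
  change Spec.map _ ≫ Spec.map _ = Spec.map _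
  rw [← Spec.map_comp]
  congr 1
  ext c
  exact res_app h c

variable {m x₀} in
/-- Functoriality of pointed maps. -/
noncomputable def PtMap.map {C C' : Art k k} (h : C' ⟶ C) (g : PtMap m x₀ C') : PtMap m x₀ C :=
  ⟨Art.specMap h ≫ g.1, by rw [Category.assoc, g.2.1]; exact specMap_ofBase h,
    by rw [← Category.assoc, specRes_specMap, g.2.2]⟩

variable {V : Type w} [AddCommGroup V] [Module k V]

/-- A bijection of the pointed maps `Spec k[ε] → M` with a vector space compatible with the operations computes the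
dimension of the cotangent space. -/
theorem finrank_stalk (hx₀ : x₀ ≫ m = 𝟙 _) (Θ : PtMap m x₀ (dual k k) → V) (hΘ : Function.Bijective Θ)
    (hs : ∀ (c : k) (g : PtMap m x₀ (dual k k)), Θ (g.map (scale c)) = c • Θ g)
    (ha : ∀ z : PtMap m x₀ (dual2 k k), Θ (z.map plus) = Θ (z.map pr₁) + Θ (z.map pr₂)) :
    Module.finrank (IsLocalRing.ResidueField (M.presheaf.stalk (x₀.base (IsLocalRing.closedPoint k))))
      (IsLocalRing.CotangentSpace (M.presheaf.stalk (x₀.base (IsLocalRing.closedPoint k)))) = Module.finrank k V := by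
  generalize hy : x₀.base (IsLocalRing.closedPoint k) = y
  obtain ⟨ρ, hρ⟩ := K723.Pointed.exists_factor x₀ y hy
  obtain ⟨κ, hκ⟩ : ∃ κ : CommRingCat.of k ⟶ M.presheaf.stalk y, Spec.map κ = M.fromSpecStalk y ≫ m :=
    ⟨Spec.preimage _, Spec.map_preimage _⟩
  let := K723.Pointed.alg M y κ
  have hbij := fun A => K723.Pointed.toMap_bijective M m x₀ hx₀ y ρ hρ κ hκ A hy.symm
  have hmap : ∀ {C C' : Art k k} (h : C' ⟶ C)
      (φ : HomSet (M.presheaf.stalk y) (K723.Pointed.res M m x₀ hx₀ y ρ hρ κ hκ) C'),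
      K723.Pointed.toMap M m x₀ hx₀ y ρ hρ κ hκ C (HomSet.map h φ) =
        PtMap.map h (K723.Pointed.toMap M m x₀ hx₀ y ρ hρ κ hκ C' φ) := by
    intro C C' h φ
    apply Subtype.ext
    change Spec.map _ ≫ _ = Spec.map _ ≫ (Spec.map _ ≫ _)
    rw [← Category.assoc, ← Spec.map_comp]
    rfl
  refine CotDer.finrank_eq (K723.Pointed.res M m x₀ hx₀ y ρ hρ κ hκ)
    (fun φ => Θ (K723.Pointed.toMap M m x₀ hx₀ y ρ hρ κ hκ (dual k k) φ)) (hΘ.comp (hbij _)) ?_ ?_
  · intro c φ
    rw [hmap, hs]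
  · intro z
    rw [hmap, hmap, hmap, ha]

end K681.TanPt
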