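import Groth.Agent.Deform.K681.MapTan
import Groth.Agent.Deform.K681.TanPt

/-!
# Pointed maps to a Hom scheme are deformations of the morphism
-/

set_option autoImplicit false
universe u

open CategoryTheory CategoryTheory.Limits MonoidalCategory CartesianMonoidalCategory AlgebraicGeometry
open ArtFun ArtFun.Art K681.MapDer K681.MapTan K681.TanPt

namespace K681.HomTan

variable {k : Type u} [Field k] {X Y : Scheme.{u}} {x : X ⟶ Spec (CommRingCat.of k)} {yY : Y ⟶ Spec (CommRingCat.of k)}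
  {M : Over (Spec (CommRingCat.of k))} (υ : Over.mk x ⊗ M ⟶ Over.mk yY)

/-- `Spec C` over `Spec k`. -/
noncomputable abbrev TC (C : Art k k) : Over (Spec (CommRingCat.of k)) := Over.mk (Art.specMap (Art.ofBase C))

lemma res_over (C : Art k k) : Art.specRes C ≫ Art.specMap (Art.ofBase C) = 𝟙 (Spec (CommRingCat.of k)) := by
  have e : (CommRingCat.ofHom (algebraMap k C) : CommRingCat.of k ⟶ CommRingCat.of C) ≫
      CommRingCat.ofHom C.res.toRingHom = 𝟙 (CommRingCat.of k) := by
    ext c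
    exact C.res.commutes c
  exact (Spec.map_comp _ _).symm.trans ((congrArg Spec.map e).trans (Spec.map_id _))

/-- The closed point of `Spec C`. -/
noncomputable abbrev ptC (C : Art k k) : 𝟙_ (Over (Spec (CommRingCat.of k))) ⟶ TC C :=
  Over.homMk (Art.specRes C) (res_over C)

lemma tensor_left (C : Art k k) : (Over.mk x ⊗ TC C).left = (datOf x C).XC := rfl

lemma j_eq (C : Art k k) : (datOf x C).j = ((ρ_ (Over.mk x)).inv ≫ Over.mk x ◁ ptC C).left := by
  apply (datOf x C).sq.hom_ext
  · rw [(datOf x C).hjq]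
    have h := congrArg CommaMorphism.left (show ((ρ_ (Over.mk x)).inv ≫ Over.mk x ◁ ptC C) ≫ fst _ _ = 𝟙 _ by
      rw [Category.assoc, whiskerLeft_fst, rightUnitor_inv_fst])
    exact h.symm
  · rw [(datOf x C).hjs]
    have h := congrArg CommaMorphism.left (show ((ρ_ (Over.mk x)).inv ≫ Over.mk x ◁ ptC C) ≫ snd _ _ =
        toUnit _ ≫ ptC C by
      rw [Category.assoc, whiskerLeft_snd, ← Category.assoc]
      congr 1
      exact toUnit_unique _ _)
    refine Eq.trans ?_ h.symm
    have h1 : (toUnit (Over.mk x)).left = x := by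
      have h2 := Over.w (toUnit (Over.mk x))
      exact (Category.comp_id _).symm.trans h2
    change _ = (toUnit (Over.mk x)).left ≫ _
    rw [h1]
    rfl

/-- The map `Spec C → M` as a map over `Spec k`. -/
noncomputable abbrev ptOver {x₀ : Spec (CommRingCat.of k) ⟶ M.left} {C : Art k k} (g : PtMap M.hom x₀ C) : TC C ⟶ M :=
  Over.homMk g.1 g.2.1

variable {f : X ⟶ Y} (hf : f ≫ yY = x) (af : 𝟙_ (Over (Spec (CommRingCat.of k))) ⟶ M)
  (haf : (Over.mk x ◁ af) ≫ υ = (ρ_ (Over.mk x)).hom ≫ (Over.homMk f hf : Over.mk x ⟶ Over.mk yY))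

/-- The family of morphisms defined by a pointed map to the Hom scheme. -/
noncomputable def toDef {C : Art k k} (g : PtMap M.hom af.left C) : Def x yY f C :=
  ⟨(Over.mk x ◁ ptOver g ≫ υ).left, by
    have h : ptC C ≫ ptOver g = af := by
      ext1
      exact g.2.2
    have h1 : ((ρ_ (Over.mk x)).inv ≫ Over.mk x ◁ ptC C) ≫ (Over.mk x ◁ ptOver g ≫ υ) =
        (Over.homMk f hf : Over.mk x ⟶ Over.mk yY) := by
      rw [Category.assoc, ← Category.assoc (Over.mk x ◁ ptC C), ← MonoidalCategory.whiskerLeft_comp, h, haf,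
        Iso.inv_hom_id_assoc]
    have h2 := congrArg CommaMorphism.left h1
    rw [j_eq]
    exact h2, by
    exact Over.w (Over.mk x ◁ ptOver g ≫ υ)⟩

lemma datMap_eq {C C' : Art k k} (h : C' ⟶ C) :
    datMap x h = (Over.mk x ◁ (Over.homMk (Art.specMap h) (specMap_ofBase h) : TC C ⟶ TC C')).left := by
  apply (datOf x C').sq.hom_ext
  · rw [datMap_q]
    have h1 := congrArg CommaMorphism.left
      (whiskerLeft_fst (Over.mk x) (Over.homMk (Art.specMap h) (specMap_ofBase h) : TC C ⟶ TC C'))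
    exact h1.symm
  · rw [datMap_s]
    have h1 := congrArg CommaMorphism.left
      (whiskerLeft_snd (Over.mk x) (Over.homMk (Art.specMap h) (specMap_ofBase h) : TC C ⟶ TC C'))
    exact h1.symm

theorem toDef_map {C C' : Art k k} (h : C' ⟶ C) (g : PtMap M.hom af.left C') :
    toDef υ hf af haf (g.map h) = (toDef υ hf af haf g).map h := by
  apply Subtype.ext
  have h1 : ptOver (g.map h) = (Over.homMk (Art.specMap h) (specMap_ofBase h) : TC C ⟶ TC C') ≫ ptOver g := by
    ext1
    rfl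
  have h2 : Over.mk x ◁ ptOver (g.map h) ≫ υ =
      Over.mk x ◁ (Over.homMk (Art.specMap h) (specMap_ofBase h) : TC C ⟶ TC C') ≫ (Over.mk x ◁ ptOver g ≫ υ) := by
    rw [h1, MonoidalCategory.whiskerLeft_comp, Category.assoc]
  have h3 := congrArg CommaMorphism.left h2
  change _ = datMap x h ≫ _
  rw [datMap_eq]
  exact h3

theorem toDef_injective (hM : ∀ (T : Over (Spec (CommRingCat.of k))) (φ : Over.mk x ⊗ T ⟶ Over.mk yY),
    ∃! a : T ⟶ M, (Over.mk x ◁ a) ≫ υ = φ) (C : Art k k) :
    Function.Injective (toDef υ hf af haf (C := C)) := by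
  intro g g' h
  have h1 : Over.mk x ◁ ptOver g ≫ υ = Over.mk x ◁ ptOver g' ≫ υ := by
    ext1
    exact congrArg Subtype.val h
  have h2 := (hM _ _).unique h1 rfl
  exact Subtype.ext (congrArg CommaMorphism.left h2)

theorem toDef_surjective (hM : ∀ (T : Over (Spec (CommRingCat.of k))) (φ : Over.mk x ⊗ T ⟶ Over.mk yY),
    ∃! a : T ⟶ M, (Over.mk x ◁ a) ≫ υ = φ) (C : Art k k) :
    Function.Surjective (toDef υ hf af haf (C := C)) := by
  intro φ
  let φ' : Over.mk x ⊗ TC C ⟶ Over.mk yY := Over.homMk φ.1 φ.2.2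
  obtain ⟨a, ha, -⟩ := hM (TC C) φ'
  have h1 : ptC C ≫ a = af := by
    refine (hM _ ((ρ_ (Over.mk x)).hom ≫ (Over.homMk f hf : Over.mk x ⟶ Over.mk yY))).unique ?_ haf
    rw [MonoidalCategory.whiskerLeft_comp, Category.assoc, ha, ← Iso.inv_comp_eq, ← Category.assoc]
    ext1
    exact (congrArg (fun r => r ≫ φ.1) (j_eq (x := x) C)).symm.trans φ.2.1
  refine ⟨⟨a.left, Over.w a, congrArg CommaMorphism.left h1⟩, Subtype.ext ?_⟩
  exact congrArg CommaMorphism.left ha

end K681.HomTan
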