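import Groth.Agent.Deform.K681.HomTan
import Groth.Agent.Deform.K681.HhLin
import Groth.Agent.Nrm16.K136.UnivOmega

/-!
# The dimension of the tangent space of a Hom scheme
-/

set_option autoImplicit false
universe u

open CategoryTheory CategoryTheory.Limits MonoidalCategory CartesianMonoidalCategory AlgebraicGeometry
open ArtFun ArtFun.Art K681.MapDer K681.MapTan K681.TanPt

namespace K681.HomTanFin

attribute [local instance] Groth.Agent.CurvesC.LinMod.linearModules

/-- The Zariski tangent space at `[f]` of a scheme representing the functor of morphisms `X ⟶ Y` has the dimension of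
`H⁰(X, Hom(f^*Ω_Y, O_X))` (any field, any `X`, `Y` quasi-separated). -/
theorem finrank_eq {k : Type u} [Field k] {X Y : Scheme.{u}} [X.Over (Spec (CommRingCat.of k))]
    (yY : Y ⟶ (Spec (CommRingCat.of k))) [QuasiSeparated yY]
    (M : Over (Spec (CommRingCat.of k))) (υ : Over.mk (X ↘ (Spec (CommRingCat.of k))) ⊗ M ⟶ Over.mk yY)
    (hM : ∀ (T : Over (Spec (CommRingCat.of k))) (φ : Over.mk (X ↘ (Spec (CommRingCat.of k))) ⊗ T ⟶ Over.mk yY),
      ∃! a : T ⟶ M, (Over.mk (X ↘ (Spec (CommRingCat.of k))) ◁ a) ≫ υ = φ)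
    (f : X ⟶ Y) (hf : f ≫ yY = X ↘ (Spec (CommRingCat.of k)))
    (af : 𝟙_ (Over (Spec (CommRingCat.of k))) ⟶ M)
    (haf : (Over.mk (X ↘ (Spec (CommRingCat.of k))) ◁ af) ≫ υ = (ρ_ (Over.mk (X ↘ (Spec (CommRingCat.of k))))).hom ≫
      (Over.homMk f hf : Over.mk (X ↘ (Spec (CommRingCat.of k))) ⟶ Over.mk yY))
    [DCoh.HasSheafHom ((Scheme.Modules.pullback f).obj (Omega.sheaf yY))] :
    Module.finrank (IsLocalRing.ResidueField (M.left.presheaf.stalk (af.left.base (IsLocalRing.closedPoint k))))
        (IsLocalRing.CotangentSpace (M.left.presheaf.stalk (af.left.base (IsLocalRing.closedPoint k)))) =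
      Module.finrank k (Coh.HH X
        ((DCoh.sheafHom ((Scheme.Modules.pullback f).obj (Omega.sheaf yY))).obj (Coh.structureModule X)) 0) := by
  have hd := K136.UnivOmega.isUniversal_dOmega yY
  have haf1 : af.left ≫ M.hom = 𝟙 _ := Over.w af
  have h1 := K681.TanPt.finrank_stalk M.hom af.left haf1
    (V := (Scheme.Modules.pullback f).obj (Omega.sheaf yY) ⟶ Coh.structureModule X)
    (fun g => K681.MapTan.theta hd (K681.HomTan.toDef υ hf af haf g))
    ((K681.MapTan.theta_bijective hd hf).comp
      ⟨K681.HomTan.toDef_injective υ hf af haf hM _, K681.HomTan.toDef_surjective υ hf af haf hM _⟩)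
    (fun c g => by rw [K681.HomTan.toDef_map, K681.MapTan.theta_scale])
    (fun z => by rw [K681.HomTan.toDef_map, K681.HomTan.toDef_map, K681.HomTan.toDef_map, K681.MapTan.theta_plus])
  exact h1.trans (K681.HhLin.hhEquiv (A := k) _ _).finrank_eq.symm

end K681.HomTanFin
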