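import Groth.Agent.ArtFun.K723.Pres
import Groth.Agent.ArtFun.K723.Krull
import Groth.Agent.S12722
import Groth.Agent.ArtFun.K724.AdicSmooth
import Mathlib.RingTheory.KrullDimension.NonZeroDivisors

/-!
# The dimension of a hull equals the tangent dimension iff the functor is smooth
-/

set_option autoImplicit false
universe u v
open CategoryTheory ArtFun ArtFun.Art IsLocalRing

namespace K681.HullDim

variable {k : Type u} [Field k]

lemma isAdicComplete_field : IsAdicComplete (maximalIdeal k) k := by
  rw [IsLocalRing.maximalIdeal_eq_bot]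
  infer_instance

/-- A coefficient ring over a field is formally smooth iff its dimension is its embedding dimension. -/
theorem dim_eq_iff (R : CRing k k) :
    ringKrullDim R.carrier = (Module.finrank (ResidueField R.carrier) (CotangentSpace R.carrier) : WithBot ℕ∞) ↔
      IsSmoothFunctor (hR R.carrier R.res) := by
  have := isAdicComplete_field (k := k)
  rw [Groth.Agent.S12722.result (Λ := k) (k := k) Function.surjective_id R]
  constructor
  · intro h
    obtain ⟨Φ, hΦ, -⟩ := K723.Pres.exists_presentation R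
    refine ⟨_, ⟨(AlgEquiv.ofBijective Φ ⟨?_, hΦ⟩).symm⟩⟩
    generalize Module.finrank (ResidueField R.carrier) (CotangentSpace R.carrier) = d at Φ hΦ h
    rw [injective_iff_map_eq_zero]
    by_contra hcon
    push Not at hcon
    obtain ⟨x, hx, hx0⟩ := hcon
    have h1 : ringKrullDim (MvPowerSeries (Fin d) k ⧸ Ideal.span {x}) + 1 ≤ ringKrullDim (MvPowerSeries (Fin d) k) :=
      ringKrullDim_quotient_succ_le_of_nonZeroDivisor (mem_nonZeroDivisors_of_ne_zero hx0)
    have h2 : ringKrullDim R.carrier ≤ ringKrullDim (MvPowerSeries (Fin d) k ⧸ Ideal.span {x}) := by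
      let f : MvPowerSeries (Fin d) k ⧸ Ideal.span {x} →+* R.carrier := Ideal.Quotient.lift _ (Φ : _ →+* _) (by
        intro a ha
        obtain ⟨b, rfl⟩ := Ideal.mem_span_singleton'.1 ha
        change Φ (b * x) = 0
        rw [map_mul, hx, mul_zero])
      exact ringKrullDim_le_of_surjective f (fun y => by
        obtain ⟨a, rfl⟩ := hΦ y
        exact ⟨Ideal.Quotient.mk _ a, rfl⟩)
    rw [Groth.Agent.CalgB.PowField.ringKrullDim_eq] at h1
    rw [h] at h2
    have h3 : ((d : WithBot ℕ∞) + 1) ≤ d := (add_le_add_left h2 1).trans h1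
    have h4 : ((d + 1 : ℕ) : WithBot ℕ∞) ≤ (d : ℕ) := by exact_mod_cast h3
    have h5 : d + 1 ≤ d := by exact_mod_cast h4
    omega
  · rintro ⟨n, ⟨e⟩⟩
    have : IsRegularLocalRing R.carrier := IsRegularLocalRing.of_ringEquiv e.symm.toRingEquiv
    rw [← spanFinrank_maximalIdeal_eq_finrank_cotangentSpace]
    exact (IsRegularLocalRing.spanFinrank_maximalIdeal (R := R.carrier)).symm

/-- The dimension estimates for a hull in terms of an arbitrary linear description of the tangent space. -/
theorem bounds {F : Art k k ⥤ Type v} (h0 : H0 F) (H : Hull F) {n : ℕ}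
    (hn : Module.finrank (ResidueField H.ring.carrier) (CotangentSpace H.ring.carrier) = n) :
    ringKrullDim H.ring.carrier ≤ (n : WithBot ℕ∞) ∧
      (∀ (V : Type u) [AddCommGroup V] [Module k V] [Module.Finite k V], ObsTheory F V →
        (n : WithBot ℕ∞) ≤ ringKrullDim H.ring.carrier + (Module.finrank k V : WithBot ℕ∞)) ∧
      (ringKrullDim H.ring.carrier = (n : WithBot ℕ∞) ↔ IsSmoothFunctor F) := by
  refine ⟨?_, ?_, ?_⟩
  · rw [← hn, ← spanFinrank_maximalIdeal_eq_finrank_cotangentSpace]
    exact ringKrullDim_le_spanFinrank_maximalIdeal _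
  · intro V _ _ _ T
    obtain ⟨T'⟩ := K723.Krull.hasObsTheory_of_isVersal H.family H.miniversal.1 T
    obtain ⟨Φ, hΦ, hker⟩ := K723.Pres.exists_presentation H.ring
    rw [← hn]
    exact (K723.Krull.bounds Φ hΦ hker H.ring.res T').2.1
  · rw [← hn, dim_eq_iff, K724.AdicSmooth.isSmoothFunctor_iff_of_isVersal h0 H.family H.miniversal.1]

end K681.HullDim
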