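import Groth.Agent.Deform.K681.CoefC
import Groth.Agent.Lift.K696.Diff
import Groth.Prelude.Def_Omega3

/-!
# Deformations of a morphism over `Spec C` and derivations
-/

set_option autoImplicit false
universe u

open CategoryTheory CategoryTheory.Limits AlgebraicGeometry Opposite TopologicalSpace
open Groth.Agent.Sga67.Sec
open Groth.Agent.Fga.FreeSec K696.Base K696.Diff ArtFun K681.CoefC

namespace K681.MapDer

/-- A functional on `C` which is a derivation over the augmentation. -/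
def IsDer {k : Type u} [Field k] {C : Art k k} (l : C →ₗ[k] k) : Prop :=
  ∀ a b : C, l (a * b) = C.res a * l b + C.res b * l a

lemma IsDer.one {k : Type u} [Field k] {C : Art k k} {l : C →ₗ[k] k} (hl : IsDer l) : l 1 = 0 := by
  have h := hl 1 1
  have h1 : C.res 1 = 1 := map_one _
  rw [mul_one, h1, one_mul] at h
  linear_combination -h

variable {k : Type u} [Field k]

/-- The trivial deformation `XC = X ×_k Spec C` of `X`, with its section over the closed point. -/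
structure Dat {X : Scheme.{u}} (x : X ⟶ Spec (CommRingCat.of k)) (C : Art k k) where
  XC : Scheme.{u}
  q : XC ⟶ X
  s : XC ⟶ Spec (CommRingCat.of C)
  sq : IsPullback q s x (Spec.map (CommRingCat.ofHom (algebraMap k C)))
  j : X ⟶ XC
  hjq : j ≫ q = 𝟙 X
  hjs : j ≫ s = x ≫ Spec.map (CommRingCat.ofHom C.res.toRingHom)

variable {X Y : Scheme.{u}} {x : X ⟶ Spec (CommRingCat.of k)} {C C' : Art k k}

namespace Dat

variable (T : Dat x C)

lemma isPullback_j : IsPullback T.j x T.s (Spec.map (CommRingCat.ofHom C.res.toRingHom)) := by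
  refine IsPullback.of_right ?_ T.hjs T.sq
  rw [T.hjq, ← Spec.map_comp, ← CommRingCat.ofHom_comp]
  have h : C.res.toRingHom.comp (algebraMap k C) = RingHom.id k := by
    ext c
    exact C.res.commutes c
  rw [h]
  have h1 : Spec.map (CommRingCat.ofHom (RingHom.id k)) = 𝟙 _ := Spec.map_id _
  rw [h1]
  exact IsPullback.of_horiz_isIso ⟨by simp⟩

lemma surjective_specRes (C : Art k k) : Surjective (Spec.map (CommRingCat.ofHom C.res.toRingHom)) := by
  have h : Function.Surjective (PrimeSpectrum.comap C.res.toRingHom) := by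
    rw [← Set.range_eq_univ, range_comap_of_surjective _ _ C.res_surjective, Set.eq_univ_iff_forall]
    intro p a ha
    have h1 : a ∈ IsLocalRing.maximalIdeal C := (Art.mem_maximalIdeal_iff C a).2 ha
    have h2 : p.asIdeal.IsMaximal := inferInstance
    have h3 := IsLocalRing.eq_maximalIdeal h2
    change a ∈ p.asIdeal
    rw [h3]
    exact h1
  exact ⟨h⟩

instance : Surjective T.j := by
  have := surjective_specRes C
  exact MorphismProperty.of_isPullback T.isPullback_j.flip inferInstance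

instance : IsClosedImmersion T.j := by
  have : IsClosedImmersion (Spec.map (CommRingCat.ofHom C.res.toRingHom)) :=
    IsClosedImmersion.spec_of_surjective _ C.res_surjective
  exact MorphismProperty.of_isPullback T.isPullback_j.flip inferInstance

lemma j_q (y : T.XC) : T.j (T.q y) = y := by
  obtain ⟨z, rfl⟩ := T.j.surjective y
  have h2 : T.q (T.j z) = (T.j ≫ T.q) z := rfl
  rw [h2, T.hjq]
  rfl

lemma q_j (y : X) : T.q (T.j y) = y := by
  have h2 : T.q (T.j y) = (T.j ≫ T.q) y := rfl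
  rw [h2, T.hjq]
  rfl

lemma le_j (U : X.Opens) : U ≤ T.j ⁻¹ᵁ (T.q ⁻¹ᵁ U) := by
  intro y hy
  change T.q (T.j y) ∈ U
  rw [T.q_j]
  exact hy

lemma le_of_le {f : X ⟶ Y} (φ : T.XC ⟶ Y) (hφ : T.j ≫ φ = f) {V : Y.Opens} {W : X.Opens} (h : W ≤ f ⁻¹ᵁ V) :
    T.q ⁻¹ᵁ W ≤ φ ⁻¹ᵁ V := by
  intro y hy
  have h1 : f (T.q y) ∈ V := h hy
  rw [← hφ, Scheme.Hom.comp_apply, T.j_q] at h1
  exact h1

lemma ev_j_elt (U : X.Opens) (a : Γ(X, U)) (c : C) :
    ev T.j (T.le_j U) (elt T.q T.s U a c) = sc x U (C.res c) * a := by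
  rw [elt, map_mul, mul_comm]
  congr 1
  · have h1 : ev T.j (T.le_j U) (resO T.XC le_top (fn T.s c)) = resO X le_top (T.j.appTop (fn T.s c)) := by
      rw [ev_eq, resO_appTop, resO_resO]
    rw [h1, fn_comp, T.hjs]
    exact congrArg (resO X le_top) (fn_specMap x C.res.toRingHom c)
  · have e1 : U ≤ (T.j ≫ T.q) ⁻¹ᵁ U := T.le_j U
    have e2 : U ≤ (𝟙 X : X ⟶ X) ⁻¹ᵁ U := le_refl U
    rw [← ev_eq_app T.q a le_rfl, ev_comp T.j T.q le_rfl _ e1, ev_congr T.hjq e1 e2, ev_id]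
    exact resO_self _ _

variable [Module.Finite k C]

lemma coef_res (U : X.Opens) (y : Γ(T.XC, T.q ⁻¹ᵁ U)) :
    coef T.sq C.res.toLinearMap U y = ev T.j (T.le_j U) y := by
  induction y using induction_elt T.sq with
  | h0 => simp
  | hadd y y' h h' => rw [map_add, map_add, h, h']
  | helt a c => rw [coef_elt, ev_j_elt]; rfl

variable {f : X ⟶ Y} {yY : Y ⟶ Spec (CommRingCat.of k)}

/-- The derivation attached to a deformation of a morphism and a functional. -/
noncomputable def der (φ : T.XC ⟶ Y) (hφ : T.j ≫ φ = f) (hY : φ ≫ yY = T.q ≫ x) {l : C →ₗ[k] k} (hl : IsDer l) :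
    DerOn f yY (Coh.structureModule X) ⊤ where
  app {V W} _ hV := (OmegaSh.strSect X W).comp ((coef T.sq l W).comp (ev φ (T.le_of_le φ hφ hV)).toAddMonoidHom)
  res_app {V V' W W'} hU hV hW hV' h' a := by
    change coef T.sq l W' (ev φ _ (resO Y hV' a)) = resO X hW (coef T.sq l W (ev φ _ a))
    rw [resO_coef, ev_res φ (T.le_of_le φ hφ (hW.trans hV)), res_ev]
  leib {V W} hU hV a b := by
    change coef T.sq l W (ev φ _ (a * b)) = ev f hV a * coef T.sq l W (ev φ _ b) + ev f hV b * coef T.sq l W (ev φ _ a)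
    have h1 : ∀ a, coef T.sq C.res.toLinearMap W (ev φ (T.le_of_le φ hφ hV) a) = ev f hV a := by
      intro a
      rw [T.coef_res, ev_comp T.j φ _ _ (by rw [hφ]; exact hV), ev_congr hφ _ hV]
    rw [map_mul, coef_mul T.sq hl, h1, h1]
  kill {V W} hU hV Z hZ c := by
    change coef T.sq l W (ev φ _ (ev yY hZ c)) = 0
    have h1 : T.q ⁻¹ᵁ W ≤ (φ ≫ yY) ⁻¹ᵁ Z := (T.le_of_le φ hφ hV).trans (φ.preimage_mono hZ)
    have h2 : W ≤ x ⁻¹ᵁ Z := by
      intro y hy
      have h3 : (φ ≫ yY) (T.j y) ∈ Z := h1 (show T.q (T.j y) ∈ W by rw [T.q_j]; exact hy)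
      rw [hY, ← Scheme.Hom.comp_apply, ← Category.assoc, T.hjq, Category.id_comp] at h3
      exact h3
    have h4 : T.q ⁻¹ᵁ W ≤ (T.q ≫ x) ⁻¹ᵁ Z := T.q.preimage_mono h2
    rw [ev_comp φ yY hZ _ h1, ev_congr hY h1 h4, ← ev_comp T.q x h2 le_rfl h4, ev_eq_app, coef_app,
      hl.one, map_zero, zero_mul]

lemma der_app (φ : T.XC ⟶ Y) (hφ : T.j ≫ φ = f) (hY : φ ≫ yY = T.q ≫ x) {l : C →ₗ[k] k} (hl : IsDer l)
    {V : Y.Opens} {W : X.Opens} (hU : W ≤ ⊤) (hV : W ≤ f ⁻¹ᵁ V) (a : Γ(Y, V)) :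
    (T.der φ hφ hY hl).app hU hV a = OmegaSh.strSect X W (coef T.sq l W (ev φ (T.le_of_le φ hφ hV) a)) := rfl

lemma der_add (φ : T.XC ⟶ Y) (hφ : T.j ≫ φ = f) (hY : φ ≫ yY = T.q ≫ x) {l l' l'' : C →ₗ[k] k} (hl : IsDer l)
    (hl' : IsDer l') (hl'' : IsDer l'') (h : l'' = l + l') :
    T.der φ hφ hY hl'' = T.der φ hφ hY hl + T.der φ hφ hY hl' := by
  subst h
  refine DerOn.ext' fun V W hU hV a => ?_
  rw [DerOn.add_app, der_app, der_app, der_app, coef_add_left, map_add]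
  rfl

end Dat

section Map

variable {f : X ⟶ Y} {yY : Y ⟶ Spec (CommRingCat.of k)} [Module.Finite k C] [Module.Finite k C']

/-- Functoriality of the derivation in the Artinian ring. -/
theorem der_map (T : Dat x C) (T' : Dat x C') (g : C' ⟶ C) (G : T.XC ⟶ T'.XC) (hq : G ≫ T'.q = T.q)
    (hs : G ≫ T'.s = T.s ≫ Spec.map (CommRingCat.ofHom g.toAlgHom.toRingHom))
    (φ : T'.XC ⟶ Y) (hφ : T'.j ≫ φ = f) (hφ' : T.j ≫ G ≫ φ = f) (hY : φ ≫ yY = T'.q ≫ x)
    (hY' : (G ≫ φ) ≫ yY = T.q ≫ x) {l : C →ₗ[k] k} (hl : IsDer l) (hl' : IsDer (l ∘ₗ g.toAlgHom.toLinearMap)) :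
    T.der (G ≫ φ) hφ' hY' hl = T'.der φ hφ hY hl' := by
  refine DerOn.ext' fun V W hU hV a => ?_
  rw [Dat.der_app, Dat.der_app]
  congr 1
  have h1 : T.q ⁻¹ᵁ W ≤ G ⁻¹ᵁ (T'.q ⁻¹ᵁ W) := by rw [← hq]; rfl
  rw [← ev_comp G φ (T'.le_of_le φ hφ hV) h1]
  exact coef_ev T.sq T'.sq g G hq hs l W h1 _

end Map

end K681.MapDer
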