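import Groth.Agent.Deform.K681.DualKap
import Groth.Agent.Lift.K696.DerLoc
import Groth.Agent.CurvesC.LinMod

/-!
# The tangent space of a Hom scheme: derivations and `H⁰` of the sheaf Hom
-/

set_option autoImplicit false
universe u

open CategoryTheory CategoryTheory.Limits AlgebraicGeometry Opposite TopologicalSpace
open Groth.Agent.Sga67.Sec
open K696.Base K696.Diff K696.DerLoc K696.LHom ArtFun ArtFun.Art K681.CoefC K681.MapDer K681.DualKap

namespace K681.MapTan

attribute [local instance] Groth.Agent.CurvesC.LinMod.linearModules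

variable {k : Type u} [Field k] {X Y : Scheme.{u}}

section HomOf

variable [X.Over (Spec (CommRingCat.of k))]

variable {f : X ⟶ Y} {yY : Y ⟶ Spec (CommRingCat.of k)} {Ω : Y.Modules} {d : OmegaSh.Der yY Ω}

/-- Derivations as homomorphisms. -/
noncomputable def homOf (hd : OmegaSh.IsUniversal d) :
    DerOn f yY (Coh.structureModule X) ⊤ ≃+ ((Scheme.Modules.pullback f).obj Ω ⟶ Coh.structureModule X) :=
  (derEquiv hd).trans LocHom.homEquiv

theorem homOf_smul (hd : OmegaSh.IsUniversal d) (c : k) {D D' : DerOn f yY (Coh.structureModule X) ⊤}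
    (h : ∀ (V : Y.Opens) (W : X.Opens) (hU : W ≤ ⊤) (hV : W ≤ f ⁻¹ᵁ V) (a : Γ(Y, V)),
      D'.app hU hV a = sc (X ↘ Spec (CommRingCat.of k)) W c • D.app hU hV a) :
    homOf hd D' = c • homOf hd D := by
  apply LocHom.homEquiv.symm.injective
  change LocHom.homEquiv.symm (LocHom.homEquiv (derEquiv hd D')) = _
  rw [AddEquiv.symm_apply_apply]
  apply locHom_ext hd
  intro V W hU hV a
  rw [derEquiv_app, h]
  have h1 : ∀ (φ : LocHom ((Scheme.Modules.pullback f).obj Ω) (Coh.structureModule X) ⊤)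
      (s : Sec ((Scheme.Modules.pullback f).obj Ω) W), φ.app hU s = appS (LocHom.homEquiv φ) W s :=
    fun φ s => (LocHom.homEquiv_app φ W s).symm
  rw [h1, AddEquiv.apply_symm_apply]
  have h2 : appS (c • homOf hd D) W (pd f d hV a) =
      sc (X ↘ Spec (CommRingCat.of k)) W c • appS (homOf hd D) W (pd f d hV a) := rfl
  rw [h2]
  congr 1
  exact ((LocHom.homEquiv_app (derEquiv hd D) W _).trans (derEquiv_app hd D hU hV a)).symm

end HomOf

section Scheme

variable {x : X ⟶ Spec (CommRingCat.of k)} {f : X ⟶ Y} {yY : Y ⟶ Spec (CommRingCat.of k)}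

/-- The trivial deformation inside a chosen product. -/
noncomputable def datOf (x : X ⟶ Spec (CommRingCat.of k)) (C : Art k k) : Dat x C where
  XC := pullback x (Spec.map (CommRingCat.ofHom (algebraMap k C)))
  q := pullback.fst _ _
  s := pullback.snd _ _
  sq := IsPullback.of_hasPullback _ _
  j := pullback.lift (𝟙 X) (x ≫ Spec.map (CommRingCat.ofHom C.res.toRingHom)) (by
    rw [Category.id_comp, Category.assoc, ← Spec.map_comp, ← CommRingCat.ofHom_comp]
    have h : C.res.toRingHom.comp (algebraMap k C) = RingHom.id k := by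
      ext c
      exact C.res.commutes c
    rw [h]
    have h1 : Spec.map (CommRingCat.ofHom (RingHom.id k)) = 𝟙 _ := Spec.map_id _
    rw [h1, Category.comp_id])
  hjq := pullback.lift_fst _ _ _
  hjs := pullback.lift_snd _ _ _

/-- The map between trivial deformations. -/
noncomputable def datMap (x : X ⟶ Spec (CommRingCat.of k)) {C C' : Art k k} (g : C' ⟶ C) :
    (datOf x C).XC ⟶ (datOf x C').XC :=
  pullback.lift (datOf x C).q ((datOf x C).s ≫ Spec.map (CommRingCat.ofHom g.toAlgHom.toRingHom)) (by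
    rw [(datOf x C).sq.w, Category.assoc, ← Spec.map_comp, ← CommRingCat.ofHom_comp]
    congr 2
    ext c
    exact (g.toAlgHom.commutes c).symm)

lemma datMap_q (x : X ⟶ Spec (CommRingCat.of k)) {C C' : Art k k} (g : C' ⟶ C) :
    datMap x g ≫ (datOf x C').q = (datOf x C).q := pullback.lift_fst _ _ _

lemma datMap_s (x : X ⟶ Spec (CommRingCat.of k)) {C C' : Art k k} (g : C' ⟶ C) :
    datMap x g ≫ (datOf x C').s = (datOf x C).s ≫ Spec.map (CommRingCat.ofHom g.toAlgHom.toRingHom) :=
  pullback.lift_snd _ _ _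

lemma j_datMap (x : X ⟶ Spec (CommRingCat.of k)) {C C' : Art k k} (g : C' ⟶ C) :
    (datOf x C).j ≫ datMap x g = (datOf x C').j := by
  apply (datOf x C').sq.hom_ext
  · rw [Category.assoc, datMap_q, (datOf x C).hjq, (datOf x C').hjq]
  · rw [Category.assoc, datMap_s, ← Category.assoc, (datOf x C).hjs, (datOf x C').hjs, Category.assoc, ← Spec.map_comp,
      ← CommRingCat.ofHom_comp]
    congr 3
    ext c
    exact res_app g c

/-- Deformations of the morphism `f` over `Spec C`. -/
abbrev Def (x : X ⟶ Spec (CommRingCat.of k)) (yY : Y ⟶ Spec (CommRingCat.of k)) (f : X ⟶ Y) (C : Art k k) : Type u :=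
  {φ : (datOf x C).XC ⟶ Y // (datOf x C).j ≫ φ = f ∧ φ ≫ yY = (datOf x C).q ≫ x}

/-- Functoriality. -/
noncomputable def Def.map {C C' : Art k k} (g : C' ⟶ C) (φ : Def x yY f C') : Def x yY f C :=
  ⟨datMap x g ≫ φ.1, by rw [← Category.assoc, j_datMap, φ.2.1],
    by rw [Category.assoc, φ.2.2, ← Category.assoc, datMap_q]⟩

/-- The derivation of a deformation. -/
noncomputable def Def.der {C : Art k k} [Module.Finite k C] (φ : Def x yY f C) {l : C →ₗ[k] k} (hl : IsDer l) :
    DerOn f yY (Coh.structureModule X) ⊤ := (datOf x C).der φ.1 φ.2.1 φ.2.2 hl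

lemma Def.der_map {C C' : Art k k} [Module.Finite k C] [Module.Finite k C'] (g : C' ⟶ C) (φ : Def x yY f C')
    {l : C →ₗ[k] k} (hl : IsDer l) (hl' : IsDer (l ∘ₗ g.toAlgHom.toLinearMap)) : (φ.map g).der hl = φ.der hl' :=
  MapDer.der_map (datOf x C) (datOf x C') g (datMap x g) (datMap_q x g) (datMap_s x g) φ.1 φ.2.1
    (Def.map g φ).2.1 φ.2.2 (Def.map g φ).2.2 hl hl'

lemma isDer_comp {C C' : Art k k} (g : C' ⟶ C) {l : C →ₗ[k] k} (hl : IsDer l) :
    IsDer (l ∘ₗ g.toAlgHom.toLinearMap) := by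
  intro a b
  have h : g.toAlgHom (a * b) = g.toAlgHom a * g.toAlgHom b := map_mul _ _ _
  have h1 : ∀ a, C.res (g.toAlgHom a) = C'.res a := fun a => res_app g a
  change l (g.toAlgHom (a * b)) = C'.res a * l (g.toAlgHom b) + C'.res b * l (g.toAlgHom a)
  rw [h, hl, h1, h1]

end Scheme

section Theta

variable [X.Over (Spec (CommRingCat.of k))] {f : X ⟶ Y} {yY : Y ⟶ Spec (CommRingCat.of k)} {Ω : Y.Modules} {d : OmegaSh.Der yY Ω}
  (hd : OmegaSh.IsUniversal d)

/-- First-order deformations of `f` as homomorphisms. -/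
noncomputable def theta (φ : Def (X ↘ Spec (CommRingCat.of k)) yY f (dual k k)) :
    (Scheme.Modules.pullback f).obj Ω ⟶ Coh.structureModule X := homOf hd (φ.der isDer_sndL)

theorem theta_bijective (hf : f ≫ yY = X ↘ Spec (CommRingCat.of k)) : Function.Bijective (theta (f := f) hd) := by
  refine (homOf hd).bijective.comp ⟨?_, ?_⟩
  · intro φ φ' h
    exact Subtype.ext (der_injective _ hf φ.2.1 φ.2.2 φ'.2.1 φ'.2.2 h)
  · intro δ
    obtain ⟨φ, hφ, hY, h⟩ := der_surjective (datOf (X ↘ Spec (CommRingCat.of k)) (dual k k)) hf δ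
    exact ⟨⟨φ, hφ, hY⟩, h⟩

theorem theta_scale (c : k) (φ : Def (X ↘ Spec (CommRingCat.of k)) yY f (dual k k)) :
    theta hd (φ.map (scale c)) = c • theta hd φ := by
  refine homOf_smul hd c fun V W hU hV a => ?_
  have h1 := Def.der_map (scale c) φ isDer_sndL (isDer_comp _ isDer_sndL)
  rw [h1]
  change OmegaSh.strSect X W (coef _ (sndL ∘ₗ (scale c).toAlgHom.toLinearMap) W _) =
    sc _ W c • OmegaSh.strSect X W (coef _ sndL W _)
  have h2 : sndL ∘ₗ (scale c : dual k k ⟶ dual k k).toAlgHom.toLinearMap = c • sndL := LinearMap.ext fun _ => rfl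
  rw [h2, coef_smul_left]
  rfl

theorem theta_plus (z : Def (X ↘ Spec (CommRingCat.of k)) yY f (dual2 k k)) :
    theta hd (z.map plus) = theta hd (z.map pr₁) + theta hd (z.map pr₂) := by
  change homOf hd _ = homOf hd _ + homOf hd _
  rw [← map_add]
  congr 1
  rw [Def.der_map plus z isDer_sndL (isDer_comp _ isDer_sndL), Def.der_map pr₁ z isDer_sndL (isDer_comp _ isDer_sndL),
    Def.der_map pr₂ z isDer_sndL (isDer_comp _ isDer_sndL)]
  exact Dat.der_add _ _ _ _ _ _ _ (LinearMap.ext fun _ => rfl)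

end Theta

end K681.MapTan
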