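import Groth.Agent.Deform.K681.AlgDef
import Groth.Prelude.Def_Exal

/-!
# A `k`-algebra with only trivial extensions by itself is rigid
-/

set_option autoImplicit false

universe u

open CategoryTheory CategoryTheory.Limits AlgebraicGeometry TensorProduct

namespace K681.Rigid

open ArtFun ArtFun.Art AffDef AlgDef

/-- Flatness: `(J D : t) = (J : t) D`. -/
theorem mem_colon {A : Type u} [CommRing A] {D : Type u} [AddCommGroup D] [Module A D] [Module.Flat A D]
    (J I : Ideal A) (t : A) (hI : ∀ a, a * t ∈ J → a ∈ I) {d : D} (hd : t • d ∈ J • (⊤ : Submodule A D)) :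
    d ∈ I • (⊤ : Submodule A D) := by
  obtain ⟨n, a, y, ha, hy⟩ := FlatNil.exists_sum_of_mem J hd
  have h1 : ∑ i : Fin (n + 1), (Fin.cons t (fun i => -a i) : Fin (n + 1) → A) i •
      (Fin.cons d y : Fin (n + 1) → D) i = 0 := by
    rw [Fin.sum_univ_succ]
    simp [hy]
  obtain ⟨κ, c, z, h2, h3⟩ := Module.Flat.isTrivialRelation_of_sum_smul_eq_zero h1
  have h4 : d = ∑ j, c 0 j • z j := h2 0
  rw [h4]
  refine Submodule.sum_mem _ fun j _ => Submodule.smul_mem_smul (hI _ ?_) trivial
  have h5 := h3 j
  rw [Fin.sum_univ_succ] at h5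
  simp only [Fin.cons_zero, Fin.cons_succ] at h5
  rw [mul_comm, eq_neg_of_add_eq_zero_left h5, ← Finset.sum_neg_distrib]
  exact Submodule.sum_mem _ fun i _ => by
    rw [neg_mul, neg_neg]
    exact Ideal.mul_mem_right _ _ (ha i)

variable {k : Type u} [Field k] {B₀ : Type u} [CommRing B₀] [Algebra k B₀] {A : Art k k}

theorem exists_socle_mod (J : Ideal A) (hJ : J ≤ IsLocalRing.maximalIdeal A) (hne : J ≠ IsLocalRing.maximalIdeal A) :
    ∃ t ∈ IsLocalRing.maximalIdeal A, t ∉ J ∧ ∀ a ∈ IsLocalRing.maximalIdeal A, a * t ∈ J := by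
  classical
  obtain ⟨n, hn⟩ := isNilpotent_maximalIdeal A
  have hex : ∃ n, IsLocalRing.maximalIdeal A ^ n ≤ J := ⟨n, by rw [hn]; exact bot_le⟩
  let m := Nat.find hex
  have hm : IsLocalRing.maximalIdeal A ^ m ≤ J := Nat.find_spec hex
  have hm0 : m ≠ 0 := by
    intro h
    rw [h, pow_zero, Ideal.one_eq_top] at hm
    exact (IsLocalRing.maximalIdeal.isMaximal A).ne_top (top_le_iff.1 (hm.trans hJ))
  have hm1 : m ≠ 1 := by
    intro h
    rw [h, pow_one] at hm
    exact hne (le_antisymm hJ hm)
  have h1 : ¬ IsLocalRing.maximalIdeal A ^ (m - 1) ≤ J := Nat.find_min hex (by omega)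
  obtain ⟨t, ht, htJ⟩ := Set.not_subset.1 h1
  refine ⟨t, Ideal.pow_le_self (by omega) ht, htJ, fun a ha => hm ?_⟩
  have h2 : m = 1 + (m - 1) := by omega
  rw [h2, pow_add, pow_one]
  exact Ideal.mul_mem_mul ha ht

/-- If every `k`-extension of `B₀` by `B₀` is trivial then the reduction map of every deformation of `B₀` has a section. -/
theorem exists_section (hT : ∀ E : Exal.Ext k B₀ B₀, E.IsTrivial) (D : AlgDef k B₀ A) :
    ∃ s : B₀ →+* D.carrier, (∀ c : k, s (algebraMap k B₀ c) = algebraMap A D.carrier (algebraMap k A c)) ∧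
      ∀ b, D.π (s b) = b := by
  let : Algebra k D.carrier := ((algebraMap A D.carrier).comp (algebraMap k A)).toAlgebra
  have : IsScalarTower k A D.carrier := IsScalarTower.of_algebraMap_eq' rfl
  let 𝔪 := IsLocalRing.maximalIdeal A
  let JD : Ideal A → Ideal D.carrier := fun J => J.map (algebraMap A D.carrier)
  have hπk : ∀ c : k, D.π (algebraMap k D.carrier c) = algebraMap k B₀ c := by
    intro c
    change D.π (algebraMap A D.carrier (algebraMap k A c)) = _
    rw [D.comp, A.res.commutes]
    rfl
  let πk : D.carrier →ₐ[k] B₀ := { D.π with commutes' := hπk }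
  have hJD : ∀ J : Ideal A, J ≤ 𝔪 → ∀ d ∈ JD J, πk d = 0 := by
    intro J hJ d hd
    have : d ∈ RingHom.ker D.π := by
      rw [D.ker]
      exact Ideal.map_mono hJ hd
    exact this
  let πJ : ∀ J : Ideal A, J ≤ 𝔪 → (D.carrier ⧸ JD J) →ₐ[k] B₀ := fun J hJ => Ideal.Quotient.liftₐ (JD J) πk (hJD J hJ)
  have main : ∀ J : Ideal A, ∀ hJ : J ≤ 𝔪, ∃ s : B₀ →ₐ[k] (D.carrier ⧸ JD J), ∀ b, πJ J hJ (s b) = b := by
    intro J
    induction J using WellFoundedGT.induction with
    | ind J ih =>
    intro hJ
    by_cases hne : J = 𝔪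
    · -- `D/𝔪D = B₀`
      have hbij : Function.Bijective (πJ J hJ) := by
        constructor
        · rw [injective_iff_map_eq_zero]
          intro x hx
          obtain ⟨d, rfl⟩ := Ideal.Quotient.mk_surjective x
          have h1 : d ∈ RingHom.ker D.π := hx
          rw [D.ker] at h1
          rw [Ideal.Quotient.eq_zero_iff_mem]
          have h2 : JD J = JD 𝔪 := by rw [hne]
          rw [h2]
          exact h1
        · intro b
          obtain ⟨d, hd⟩ := D.surj b
          exact ⟨Ideal.Quotient.mk _ d, hd⟩
      let e := AlgEquiv.ofBijective (πJ J hJ) hbij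
      exact ⟨e.symm.toAlgHom, fun b => e.apply_symm_apply b⟩
    · obtain ⟨t, htm, htJ, hmt⟩ := exists_socle_mod J hJ hne
      let J' : Ideal A := J ⊔ Ideal.span {t}
      have hJ' : J' ≤ 𝔪 := sup_le hJ ((Ideal.span_singleton_le_iff_mem _).2 htm)
      have hJJ' : J < J' := lt_of_le_of_ne le_sup_left (fun h => htJ (by
        rw [h]; exact Ideal.mem_sup_right (Ideal.mem_span_singleton_self t)))
      obtain ⟨s, hs⟩ := ih J' hJJ' hJ'
      -- the transition map
      let τ : (D.carrier ⧸ JD J) →ₐ[k] (D.carrier ⧸ JD J') :=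
        Ideal.Quotient.factorₐ k (Ideal.map_mono hJJ'.le)
      have hτ : ∀ x, πJ J' hJ' (τ x) = πJ J hJ x := by
        intro x
        obtain ⟨d, rfl⟩ := Ideal.Quotient.mk_surjective x
        rfl
      let E : Subalgebra k ((D.carrier ⧸ JD J) × B₀) :=
        AlgHom.equalizer (τ.comp (AlgHom.fst k _ _)) (s.comp (AlgHom.snd k _ _))
      have hE : ∀ x : (D.carrier ⧸ JD J) × B₀, x ∈ E ↔ τ x.1 = s x.2 := fun x => Iff.rfl
      -- multiplication by `t`
      let μ : D.carrier →+ (D.carrier ⧸ JD J) :=
        { toFun := fun d => Ideal.Quotient.mk _ (algebraMap A D.carrier t * d)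
          map_zero' := by rw [mul_zero, map_zero]
          map_add' := fun d d' => by rw [mul_add, map_add] }
      have hμ : ∀ d, μ d = 0 ↔ D.π d = 0 := by
        intro d
        change Ideal.Quotient.mk _ (algebraMap A D.carrier t * d) = 0 ↔ _
        rw [Ideal.Quotient.eq_zero_iff_mem, ← RingHom.mem_ker, D.ker]
        have h1 : ∀ (I : Ideal A) (x : D.carrier), x ∈ JD I ↔ x ∈ I • (⊤ : Submodule A D.carrier) := by
          intro I x
          rw [Ideal.smul_top_eq_map]
          rfl
        constructor
        · intro h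
          have h7 : t • d = algebraMap A D.carrier t * d := Algebra.smul_def t d
          have h5 : t • d ∈ J • (⊤ : Submodule A D.carrier) := by
            rw [h7]
            exact (h1 J _).1 h
          have h6 : ∀ a, a * t ∈ J → a ∈ 𝔪 := by
            intro a ha
            by_contra hc
            have hu : IsUnit a := by
              by_contra hu
              exact hc ((IsLocalRing.mem_maximalIdeal a).2 hu)
            exact htJ ((Ideal.unit_mul_mem_iff_mem J hu).1 ha)
          have h2 : d ∈ 𝔪 • (⊤ : Submodule A D.carrier) := mem_colon J 𝔪 t h6 h5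
          exact (h1 𝔪 d).2 h2
        · intro h
          have h2 : d ∈ 𝔪 • (⊤ : Submodule A D.carrier) := (h1 𝔪 d).1 h
          rw [h1 J]
          clear h
          induction h2 using Submodule.smul_induction_on' with
          | smul a ha y _ =>
            have h3 : algebraMap A D.carrier t * a • y = (a * t) • y := by
              rw [Algebra.smul_def, Algebra.smul_def, map_mul]; ring
            rw [h3]
            exact Submodule.smul_mem_smul (hmt a ha) trivial
          | add x _ y _ hx hy =>
            rw [mul_add]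
            exact Submodule.add_mem _ hx hy
      have hμ' : ∀ d d', D.π d = D.π d' → μ d = μ d' := by
        intro d d' h
        rw [← sub_eq_zero, ← map_sub, hμ, map_sub, h, sub_self]
      let μ₀ : B₀ →+ (D.carrier ⧸ JD J) :=
        { toFun := fun b => μ (Function.surjInv D.surj b)
          map_zero' := by
            rw [hμ, Function.surjInv_eq D.surj]
          map_add' := fun b b' => by
            rw [← map_add]
            apply hμ'
            rw [map_add, Function.surjInv_eq D.surj, Function.surjInv_eq D.surj, Function.surjInv_eq D.surj] }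
      have hμ₀ : ∀ d, μ₀ (D.π d) = μ d := fun d => hμ' _ _ (Function.surjInv_eq _ _)
      have hτμ : ∀ b, τ (μ₀ b) = 0 := by
        intro b
        change Ideal.Quotient.mk (JD J') (algebraMap A D.carrier t * _) = 0
        rw [Ideal.Quotient.eq_zero_iff_mem]
        exact Ideal.mul_mem_right _ _ (Ideal.mem_map_of_mem _ (Ideal.mem_sup_right (Ideal.mem_span_singleton_self t)))
      let inc : B₀ →+ E :=
        { toFun := fun b => ⟨(μ₀ b, 0), by rw [hE]; rw [hτμ, map_zero]⟩
          map_zero' := Subtype.ext (Prod.ext (map_zero μ₀) rfl)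
          map_add' := fun b b' => Subtype.ext (Prod.ext (map_add μ₀ b b') (add_zero _).symm) }
      let pr : E →ₐ[k] B₀ := (AlgHom.snd k _ _).comp E.val
      have hExt : Exal.IsExtension pr inc := by
        refine ⟨?_, ?_, ?_, ?_⟩
        · intro b
          obtain ⟨y, hy⟩ := Ideal.Quotient.factor_surjective (Ideal.map_mono hJJ'.le) (s b)
          exact ⟨⟨(y, b), hy⟩, rfl⟩
        · rw [injective_iff_map_eq_zero]
          intro b hb
          have h1 : μ₀ b = 0 := congrArg (fun z => z.1.1) hb
          obtain ⟨d, rfl⟩ := D.surj b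
          rw [hμ₀] at h1
          exact (hμ d).1 h1
        · intro x
          constructor
          · intro hx
            have hx' : x.1.2 = 0 := hx
            have h1 : τ x.1.1 = s x.1.2 := x.2
            rw [hx', map_zero] at h1
            -- the kernel of `τ` is the image of `t`
            obtain ⟨d, hd⟩ := Ideal.Quotient.mk_surjective x.1.1
            rw [← hd] at h1
            have h2 : d ∈ JD J' := Ideal.Quotient.eq_zero_iff_mem.1 h1
            have h3 : JD J' = JD J ⊔ Ideal.span {algebraMap A D.carrier t} := by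
              change (J ⊔ Ideal.span {t}).map _ = _
              rw [Ideal.map_sup, Ideal.map_span, Set.image_singleton]
            rw [h3] at h2
            obtain ⟨a, ha, b, hb, hab⟩ := Submodule.mem_sup.1 h2
            obtain ⟨c, rfl⟩ := Ideal.mem_span_singleton'.1 hb
            refine ⟨D.π c, ?_⟩
            refine Subtype.ext (Prod.ext ?_ hx'.symm)
            change μ₀ (D.π c) = x.1.1
            rw [hμ₀, ← hd, ← hab]
            change Ideal.Quotient.mk _ (algebraMap A D.carrier t * c) = _
            rw [map_add, Ideal.Quotient.eq_zero_iff_mem.2 ha, zero_add, mul_comm]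
          · rintro ⟨b, rfl⟩
            rfl
        · intro x b
          refine Subtype.ext (Prod.ext ?_ ?_)
          · change x.1.1 * μ₀ b = μ₀ (x.1.2 * b)
            obtain ⟨d, hd⟩ := Ideal.Quotient.mk_surjective x.1.1
            obtain ⟨c, rfl⟩ := D.surj b
            have h1 : D.π d = x.1.2 := by
              have h2 : πJ J hJ x.1.1 = x.1.2 := by
                rw [← hτ, show τ x.1.1 = s x.1.2 from x.2, hs]
              rw [← h2, ← hd]
              rfl
            rw [← h1, ← map_mul, hμ₀, hμ₀, ← hd]
            change Ideal.Quotient.mk _ d * Ideal.Quotient.mk _ (algebraMap A D.carrier t * c) =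
              Ideal.Quotient.mk _ (algebraMap A D.carrier t * (d * c))
            rw [← map_mul]
            congr 1
            ring
          · change x.1.2 * 0 = 0
            exact mul_zero _
      let X : Exal.Ext k B₀ B₀ :=
        { E := E
          proj := pr
          incl := inc
          isExtension := hExt }
      obtain ⟨σ, hσ⟩ := hT X
      refine ⟨(AlgHom.fst k _ _).comp (E.val.comp σ), fun b => ?_⟩
      change πJ J hJ (σ b).1.1 = b
      have h1 : τ (σ b).1.1 = s (σ b).1.2 := (σ b).2
      rw [← hτ, h1, hs]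
      exact hσ b
  obtain ⟨s, hs⟩ := main ⊥ bot_le
  have hbot : JD ⊥ = ⊥ := Ideal.map_bot
  let e : (D.carrier ⧸ JD ⊥) →ₐ[k] D.carrier := Ideal.Quotient.liftₐ (JD ⊥) (AlgHom.id k _) (fun a ha => by
    rw [hbot] at ha; exact ha)
  have he : ∀ x, D.π (e x) = πJ ⊥ bot_le x := by
    intro x
    obtain ⟨d, rfl⟩ := Ideal.Quotient.mk_surjective x
    rfl
  refine ⟨(e.comp s).toRingHom, fun c => ?_, fun b => ?_⟩
  · exact (e.comp s).commutes c
  · change D.π (e (s b)) = b
    rw [he, hs]

end K681.Rigid
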